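import Groth.Agent.NeronLib.Dedekind
import Groth.Agent.AbSchLib.RigidityGeneral
import Groth.Agent.AbSchLib.SmoothReduced
import Mathlib.AlgebraicGeometry.Geometrically.Connected
import Mathlib.AlgebraicGeometry.Geometrically.Irreducible

/-!
# Rigidity for products with a smooth proper factor, with a morphism given on a dense open
-/

universe u

set_option autoImplicit false

open AlgebraicGeometry CategoryTheory Limits TopologicalSpace

namespace Groth.Agent.NeronLib

theorem geometricallyConnected_of_irreducible {X Y : Scheme.{u}} (f : X ⟶ Y) [GeometricallyIrreducible f] :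
    GeometricallyConnected f := by
  rw [geometricallyConnected_iff]
  intro L _ t Z a b hP
  have : IrreducibleSpace Z := GeometricallyIrreducible.geometrically_irreducibleSpace (f := f) _ _ _ hP
  exact inferInstance

/-- Let `P` be smooth, proper and geometrically irreducible over a field, `W` smooth and irreducible, and
`H : P ×_K W ⟶ A` a morphism to a separated scheme which is constant on `P × {w₀}` generically.  Then `H`
factors through `W`. -/
theorem rigidity_product {K : Type u} [Field K] {P W A : Scheme.{u}} (pP : P ⟶ Spec (CommRingCat.of K))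
    (pW : W ⟶ Spec (CommRingCat.of K)) (pA : A ⟶ Spec (CommRingCat.of K)) [IsProper pP] [Smooth pP]
    [GeometricallyIrreducible pP] [Smooth pW] [ConnectedSpace W] [IsSeparated pA] [LocallyOfFiniteType pA]
    (H : pullback pP pW ⟶ A) (hH : H ≫ pA = pullback.snd pP pW ≫ pW)
    (e₀ : Spec (CommRingCat.of K) ⟶ P) (he₀ : e₀ ≫ pP = 𝟙 _) (w₀ : Spec (CommRingCat.of K) ⟶ W)
    (hw₀ : w₀ ≫ pW = 𝟙 _)
    (a : Spec (CommRingCat.of K) ⟶ A) (ha : a ≫ pA = 𝟙 _) (O : (pullback (pullback.snd pP pW) w₀).Opens)
    (hO : (O : Set ↑(pullback (pullback.snd pP pW) w₀)).Nonempty)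
    (hconst : O.ι ≫ pullback.fst (pullback.snd pP pW) w₀ ≫ H = O.ι ≫ pullback.snd (pullback.snd pP pW) w₀ ≫ a) :
    H = pullback.snd pP pW ≫ pullback.lift (pW ≫ e₀) (𝟙 W) (by rw [Category.assoc, he₀, Category.comp_id, Category.id_comp]) ≫ H := by
  let g := pullback.snd pP pW
  let p := pullback.fst g w₀
  let q := pullback.snd g w₀
  have : GeometricallyReduced pP := AbSchLib.geometricallyReduced_of_smooth pP
  have : GeometricallyConnected pP := geometricallyConnected_of_irreducible pP
  have : Smooth g := inferInstance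
  have : IrreducibleSpace ↑(pullback g w₀) := GeometricallyIrreducible.irreducibleSpace_of_subsingleton q
  have : IsReduced (pullback g w₀) := isReduced_of_smooth_regular (smoothRegular_spec K) q
  have hp : p ≫ H = q ≫ a := by
    refine ext_of_dense pA _ _ ?_ O (O.isOpen.dense hO) hconst
    rw [Category.assoc, hH, Category.assoc, ha, Category.comp_id, ← Category.assoc]
    show (p ≫ g) ≫ pW = q
    rw [pullback.condition, Category.assoc, hw₀, Category.comp_id]
  have hmem : w₀ default ∈ AbSchLib.collapsedLocus g H := by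
    intro y hy y' hy'
    have key : ∀ y ∈ H '' (g ⁻¹' {w₀ default}), y = a default := by
      rintro _ ⟨x, hx, rfl⟩
      obtain ⟨z, rfl⟩ : x ∈ Set.range p := by
        rw [Scheme.Pullback.range_fst]
        exact ⟨default, hx.symm⟩
      rw [← Scheme.Hom.comp_apply, hp, Scheme.Hom.comp_apply]
      exact congrArg _ (Subsingleton.elim _ _)
    rw [key y hy, key y' hy']
  obtain ⟨hcl, heq⟩ := AbSchLib.isClopen_collapsedLocus_and_eq_section pW pA g H
    (pullback.lift (pW ≫ e₀) (𝟙 W) (by rw [Category.assoc, he₀, Category.comp_id, Category.id_comp]))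
    (pullback.lift_snd _ _ _) hH
  have h := heq ⊤ (by rw [(hcl.eq_univ ⟨_, hmem⟩)]; exact Set.subset_univ _)
  rw [show g ⁻¹ᵁ (⊤ : W.Opens) = ⊤ from rfl] at h
  have : IsIso (⊤ : (pullback pP pW).Opens).ι := (inferInstance : IsIso (pullback pP pW).topIso.hom)
  exact (cancel_epi (⊤ : (pullback pP pW).Opens).ι).1 h

end Groth.Agent.NeronLib
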