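import Groth.Agent.NeronLib.ProjLine
import Groth.Agent.NeronLib.RigidProduct
import Mathlib.AlgebraicGeometry.Pullbacks

/-!
# Morphisms from affine space to a proper group scheme over a field are constant
-/

universe u

set_option autoImplicit false

open AlgebraicGeometry CategoryTheory Limits TopologicalSpace MvPolynomial TensorProduct

namespace Groth.Agent.NeronLib

variable (K : Type u) [Field K] (n : Type u)

/-- Structure map of affine space. -/
noncomputable abbrev specC : Spec (CommRingCat.of (MvPolynomial n K)) ⟶ Spec (CommRingCat.of K) :=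
  Spec.map (CommRingCat.ofHom C)

/-- `(t, x) ↦ t • x`, on rings. -/
noncomputable def scaleAlg : MvPolynomial n K →ₐ[K] MvPolynomial PUnit.{u + 1} K ⊗[K] MvPolynomial n K :=
  aeval fun i => X PUnit.unit ⊗ₜ X i

/-- `(t, x) ↦ t • x`. -/
noncomputable def scale : pullback (lineMap K) (specC K n) ⟶ Spec (CommRingCat.of (MvPolynomial n K)) :=
  (pullbackSpecIso K (MvPolynomial PUnit.{u + 1} K) (MvPolynomial n K)).hom ≫
    Spec.map (CommRingCat.ofHom (scaleAlg K n).toRingHom)

theorem scale_w : scale K n ≫ specC K n = pullback.snd (lineMap K) (specC K n) ≫ specC K n := by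
  have h : Spec.map (CommRingCat.ofHom (scaleAlg K n).toRingHom) ≫ specC K n =
      Spec.map (CommRingCat.ofHom (Algebra.TensorProduct.includeRight (R := K)
        (A := MvPolynomial PUnit.{u + 1} K) (B := MvPolynomial n K)).toRingHom) ≫ specC K n := by
    rw [← Spec.map_comp, ← Spec.map_comp]
    congr 1
    exact CommRingCat.hom_ext (RingHom.ext fun r => ((scaleAlg K n).commutes r).trans
      ((Algebra.TensorProduct.includeRight (R := K) (A := MvPolynomial PUnit.{u + 1} K) (B := MvPolynomial n K)).commutes r).symm)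
  have h2 := congrArg ((pullbackSpecIso K (MvPolynomial PUnit.{u + 1} K) (MvPolynomial n K)).hom ≫ ·) h
  simp only [← Category.assoc] at h2
  rw [show (pullbackSpecIso K (MvPolynomial PUnit.{u + 1} K) (MvPolynomial n K)).hom ≫
    Spec.map (CommRingCat.ofHom (Algebra.TensorProduct.includeRight (R := K)
      (A := MvPolynomial PUnit.{u + 1} K) (B := MvPolynomial n K)).toRingHom) = pullback.snd _ _ from
    pullbackSpecIso_hom_snd K (MvPolynomial PUnit.{u + 1} K) (MvPolynomial n K)] at h2
  exact h2

theorem lift_scale {R : Type u} [CommRing R] [Algebra K R] (φ : MvPolynomial PUnit.{u + 1} K →ₐ[K] R)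
    (ψ : MvPolynomial n K →ₐ[K] R)
    (h : Spec.map (CommRingCat.ofHom φ.toRingHom) ≫ lineMap K = Spec.map (CommRingCat.ofHom ψ.toRingHom) ≫ specC K n) :
    pullback.lift (Spec.map (CommRingCat.ofHom φ.toRingHom)) (Spec.map (CommRingCat.ofHom ψ.toRingHom)) h ≫ scale K n =
      Spec.map (CommRingCat.ofHom (aeval (R := K) fun i => φ (X PUnit.unit) * ψ (X i)).toRingHom) := by
  let θ := Algebra.TensorProduct.lift φ ψ fun _ _ => Commute.all _ _
  have h1 : pullback.lift (Spec.map (CommRingCat.ofHom φ.toRingHom)) (Spec.map (CommRingCat.ofHom ψ.toRingHom)) h =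
      Spec.map (CommRingCat.ofHom θ.toRingHom) ≫
        (pullbackSpecIso K (MvPolynomial PUnit.{u + 1} K) (MvPolynomial n K)).inv := by
    apply pullback.hom_ext
    · refine (pullback.lift_fst _ _ _).trans (Eq.symm ?_)
      refine (Category.assoc _ _ _).trans ((congrArg (_ ≫ ·)
        (pullbackSpecIso_inv_fst K (MvPolynomial PUnit.{u + 1} K) (MvPolynomial n K))).trans ?_)
      rw [← Spec.map_comp]
      congr 1
      exact CommRingCat.hom_ext (RingHom.ext fun r => by simp [θ])
    · refine (pullback.lift_snd _ _ _).trans (Eq.symm ?_)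
      refine (Category.assoc _ _ _).trans ((congrArg (_ ≫ ·)
        (pullbackSpecIso_inv_snd K (MvPolynomial PUnit.{u + 1} K) (MvPolynomial n K))).trans ?_)
      rw [← Spec.map_comp]
      congr 1
      exact CommRingCat.hom_ext (RingHom.ext fun r => by simp [θ])
  refine (congrArg (· ≫ scale K n) h1).trans ?_
  refine ((Category.assoc _ _ _).trans (congrArg (Spec.map (CommRingCat.ofHom θ.toRingHom) ≫ ·)
    (Iso.inv_hom_id_assoc _ _))).trans ?_
  rw [← Spec.map_comp]
  congr 1
  have h2 : θ.comp (scaleAlg K n) = aeval fun i => φ (X PUnit.unit) * ψ (X i) :=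
    MvPolynomial.algHom_ext fun i => by simp [θ, scaleAlg]
  exact CommRingCat.hom_ext (congrArg AlgHom.toRingHom h2)

/-- A morphism from affine space to a proper group scheme over a field is constant. -/
theorem eq_const_of_affine [Finite n] {A : Scheme.{u}} (pA : A ⟶ Spec (CommRingCat.of K)) [GrpObj (Over.mk pA)]
    [IsProper pA] (f : Spec (CommRingCat.of (MvPolynomial n K)) ⟶ A) (hf : f ≫ pA = specC K n) :
    ∃ a : Spec (CommRingCat.of K) ⟶ A, a ≫ pA = 𝟙 _ ∧ f = specC K n ≫ a := by
  have hC : ∀ (c : K) (m : Type u), Spec.map (CommRingCat.ofHom (aeval (R := K) (fun _ : m => c)).toRingHom) ≫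
      specC K m = 𝟙 _ := fun c m => by
    rw [← Spec.map_comp, ← Spec.map_id]
    congr 1
    exact CommRingCat.hom_ext (RingHom.ext fun r => (aeval (R := K) (fun _ : m => c)).commutes r)
  let o := Spec.map (CommRingCat.ofHom (aeval (R := K) (fun _ : n => (0 : K))).toRingHom)
  have ho : o ≫ specC K n = 𝟙 _ := hC 0 n
  let pP := CohB1.ProjSpace.toSpec 1 K
  let ι : pullback (lineMap K) (specC K n) ⟶ pullback pP (specC K n) :=
    pullback.map _ _ _ _ (chart K 0) (𝟙 _) (𝟙 _) (by rw [Category.comp_id]; exact (chart_toSpec K 0).symm)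
      (by rw [Category.comp_id, Category.id_comp])
  have hιs : ι ≫ pullback.snd pP (specC K n) = pullback.snd (lineMap K) (specC K n) :=
    (pullback.lift_snd _ _ _).trans (Category.comp_id _)
  have : IrreducibleSpace ↑(pullback pP (specC K n)) :=
    GeometricallyIrreducible.irreducibleSpace (pullback.snd pP (specC K n))
      (pullback.snd pP (specC K n)).isOpenMap
  let e₁ := Spec.map (CommRingCat.ofHom (aeval (R := K) (fun _ : PUnit.{u + 1} => (1 : K))).toRingHom)
  let e₀ := Spec.map (CommRingCat.ofHom (aeval (R := K) (fun _ : PUnit.{u + 1} => (0 : K))).toRingHom)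
  let l : (Spec (CommRingCat.of K) ⟶ Spec (CommRingCat.of (MvPolynomial PUnit.{u + 1} K))) →
      Prop := fun e => e ≫ lineMap K = 𝟙 _
  let sec : (c : K) → Spec (CommRingCat.of (MvPolynomial n K)) ⟶ pullback (lineMap K) (specC K n) := fun c =>
    pullback.lift (specC K n ≫ Spec.map (CommRingCat.ofHom (aeval (R := K) (fun _ : PUnit.{u + 1} => c)).toRingHom))
      (𝟙 _) (by rw [Category.assoc, hC, Category.comp_id, Category.id_comp])
  have hsec : ∀ c, sec c ≫ scale K n = Spec.map (CommRingCat.ofHom (aeval (R := K) fun i : n => C c * X i).toRingHom) := by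
    intro c
    let φ : MvPolynomial PUnit.{u + 1} K →ₐ[K] MvPolynomial n K := aeval fun _ => C c
    have hφ : specC K n ≫ Spec.map (CommRingCat.ofHom (aeval (R := K) (fun _ : PUnit.{u + 1} => c)).toRingHom) =
        Spec.map (CommRingCat.ofHom φ.toRingHom) := by
      rw [← Spec.map_comp]
      congr 1
      refine CommRingCat.hom_ext ?_
      exact congrArg AlgHom.toRingHom (show (Algebra.ofId K (MvPolynomial n K)).comp (aeval fun _ => c) = φ from
        MvPolynomial.algHom_ext fun i => by simp [φ])
    have h := lift_scale K n φ (AlgHom.id K _) (by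
      rw [← hφ, Category.assoc, hC, Category.comp_id]
      exact ((congrArg (· ≫ specC K n) (Spec.map_id _)).trans (Category.id_comp _)).symm)
    refine Eq.trans ?_ (h.trans ?_)
    · congr 1
      apply pullback.hom_ext
      · rw [pullback.lift_fst, pullback.lift_fst, hφ]
      · rw [pullback.lift_snd, pullback.lift_snd]
        exact (Spec.map_id _).symm
    · simp [φ]
  let U := ι.opensRange
  obtain ⟨H, ⟨hH, hHU⟩, -⟩ := weil_extension_dedekind (pullback.snd pP (specC K n) ≫ specC K n) pA U
    (U.isOpen.dense ⟨ι (sec 0 (o default)), ⟨_, rfl⟩⟩) (ι.isoOpensRange.inv ≫ scale K n ≫ f) (by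
      rw [Category.assoc, Category.assoc, hf, scale_w, Iso.inv_comp_eq, ← Category.assoc ι.isoOpensRange.hom,
        Scheme.Hom.isoOpensRange_hom_ι, reassoc_of% hιs])
  have hHι : ι ≫ H = scale K n ≫ f := by
    rw [← ι.isoOpensRange_hom_ι, Category.assoc, hHU, Iso.hom_inv_id_assoc]
  let a := o ≫ f
  have ha : a ≫ pA = 𝟙 _ := by rw [Category.assoc, hf, ho]
  let Q := pullback (pullback.snd pP (specC K n)) o
  let O : Q.Opens := pullback.fst (pullback.snd pP (specC K n)) o ⁻¹ᵁ U
  let q₀ : Spec (CommRingCat.of K) ⟶ Q := pullback.lift (o ≫ sec 0 ≫ ι) (𝟙 _) (by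
    rw [Category.assoc, Category.assoc, hιs, pullback.lift_snd, Category.comp_id, Category.id_comp])
  have hrig := rigidity_product pP (specC K n) pA H (by rw [hH]) (e₀ ≫ chart K 0)
    (by rw [Category.assoc, chart_toSpec]; exact hC 0 _) o ho a ha O ⟨q₀ default, by
      show (q₀ ≫ pullback.fst (pullback.snd pP (specC K n)) o) default ∈ U
      rw [pullback.lift_fst]
      exact ⟨sec 0 (o default), rfl⟩⟩ (by
    let k : O.toScheme ⟶ pullback (lineMap K) (specC K n) :=
      IsOpenImmersion.lift ι (O.ι ≫ pullback.fst _ _) (by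
        rintro _ ⟨z, rfl⟩
        exact z.2)
    have hk : k ≫ ι = O.ι ≫ pullback.fst (pullback.snd pP (specC K n)) o := IsOpenImmersion.lift_fac _ _ _
    rw [← Category.assoc, ← hk, Category.assoc, hHι]
    let l₀ : Spec (CommRingCat.of (MvPolynomial PUnit.{u + 1} K)) ⟶ pullback (lineMap K) (specC K n) :=
      pullback.lift (𝟙 _) (lineMap K ≫ o) (by rw [Category.id_comp, Category.assoc, ho, Category.comp_id])
    have hk2 : k ≫ pullback.snd (lineMap K) (specC K n) = O.ι ≫ pullback.snd (pullback.snd pP (specC K n)) o ≫ o := by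
      rw [← hιs, ← Category.assoc, hk, Category.assoc, pullback.condition]
    have hk' : k = (k ≫ pullback.fst _ _) ≫ l₀ := by
      apply pullback.hom_ext
      · rw [Category.assoc, pullback.lift_fst, Category.comp_id]
      · rw [Category.assoc, pullback.lift_snd, Category.assoc, pullback.condition_assoc, reassoc_of% hk2,
          reassoc_of% ho, hk2]
    have hl₀ : l₀ ≫ scale K n = lineMap K ≫ o := by
      let ψ : MvPolynomial n K →ₐ[K] MvPolynomial PUnit.{u + 1} K := aeval fun _ => 0
      have hψ : lineMap K ≫ o = Spec.map (CommRingCat.ofHom ψ.toRingHom) := by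
        rw [← Spec.map_comp]
        congr 1
        refine CommRingCat.hom_ext ?_
        exact congrArg AlgHom.toRingHom (show (Algebra.ofId K (MvPolynomial PUnit.{u + 1} K)).comp
          (aeval fun _ => (0 : K)) = ψ from MvPolynomial.algHom_ext fun i => by simp [ψ])
      have h := lift_scale K n (AlgHom.id K _) ψ (by
        rw [← hψ, Category.assoc, ho, Category.comp_id]
        exact (congrArg (· ≫ lineMap K) (Spec.map_id _)).trans (Category.id_comp _))
      refine Eq.trans ?_ (h.trans ?_)
      · congr 1
        apply pullback.hom_ext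
        · rw [pullback.lift_fst, pullback.lift_fst]
          exact (Spec.map_id _).symm
        · rw [pullback.lift_snd, pullback.lift_snd, hψ]
      · rw [hψ]; simp [ψ]
    rw [hk', Category.assoc, reassoc_of% hl₀, Category.assoc, pullback.condition_assoc, reassoc_of% hk2,
      reassoc_of% ho])
  refine ⟨a, ha, ?_⟩
  have h1 := congrArg ((sec 1 ≫ ι) ≫ ·) hrig
  have hs1 : (sec 1 ≫ ι) ≫ pullback.snd pP (specC K n) = 𝟙 _ := by
    rw [Category.assoc, hιs, pullback.lift_snd]
  have hs0 : pullback.lift (specC K n ≫ e₀ ≫ chart K 0) (𝟙 _) (by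
      rw [Category.assoc, Category.assoc, chart_toSpec, hC, Category.comp_id, Category.id_comp]) = sec 0 ≫ ι := by
    apply pullback.hom_ext
    · rw [pullback.lift_fst, Category.assoc, pullback.lift_fst, pullback.lift_fst_assoc, Category.assoc]
    · rw [pullback.lift_snd, Category.assoc, hιs, pullback.lift_snd]
  rw [Category.assoc (sec 1) ι H, hHι, ← Category.assoc, hsec, ← Category.assoc (sec 1 ≫ ι) (pullback.snd pP (specC K n)), hs1, Category.id_comp, hs0, Category.assoc, hHι,
    ← Category.assoc, hsec] at h1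
  have hone : Spec.map (CommRingCat.ofHom (aeval (R := K) fun i : n => C (1 : K) * X i).toRingHom) = 𝟙 _ := by
    rw [← Spec.map_id]
    congr 1
    refine CommRingCat.hom_ext ?_
    exact congrArg AlgHom.toRingHom (show aeval (R := K) (fun i : n => C (1 : K) * X i) = AlgHom.id K _ from
      MvPolynomial.algHom_ext fun i => by simp)
  have hzero : Spec.map (CommRingCat.ofHom (aeval (R := K) fun i : n => C (0 : K) * X i).toRingHom) = specC K n ≫ o := by
    rw [← Spec.map_comp]
    congr 1
    refine CommRingCat.hom_ext ?_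
    exact congrArg AlgHom.toRingHom (show aeval (R := K) (fun i : n => C (0 : K) * X i) =
      (Algebra.ofId K (MvPolynomial n K)).comp (aeval fun _ => (0 : K)) from MvPolynomial.algHom_ext fun i => by simp)
  rw [hone, hzero, Category.id_comp, Category.assoc] at h1
  exact h1

end Groth.Agent.NeronLib
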