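import Groth.Agent.NeronLib.ProductDecomp

/-!
# Morphisms of group varieties preserving the unit are homomorphisms
-/

universe u

set_option autoImplicit false

open AlgebraicGeometry CategoryTheory MonoidalCategory CartesianMonoidalCategory MonObj

namespace Groth.Agent.NeronLib

variable {K : Type u} [Field K]

theorem isMonHom_of_map_unit (G A : Over (Spec (CommRingCat.of K))) [GrpObj G] [Smooth G.hom]
    [GeometricallyIntegral G.hom] [GrpObj A] [IsProper A.hom] (f : G ⟶ A) (hf : η[G] ≫ f = η[A]) :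
    IsMonHom f := by
  obtain ⟨f₁, f₂, h⟩ := exists_decomp G G A η[G] (μ[G] ≫ f)
  have e : ∀ {T : Over (Spec (CommRingCat.of K))} (x y : T ⟶ G), (x * y) ≫ f = (x ≫ f₁) * (y ≫ f₂) := by
    intro T x y
    rw [Hom.mul_def, Category.assoc, h, MonObj.comp_mul, lift_fst_assoc, lift_snd_assoc]
  let x := fst G G
  let y := snd G G
  have hone : (1 : G ⊗ G ⟶ G) ≫ f = 1 := by rw [Hom.one_def, Category.assoc, hf]; rfl
  have hx := e x 1
  have hy := e 1 y
  have h11 := e (1 : G ⊗ G ⟶ G) 1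
  rw [_root_.mul_one] at hx h11
  rw [_root_.one_mul] at hy
  rw [hone] at h11
  have hinv : ((1 : G ⊗ G ⟶ G) ≫ f₂) * ((1 : G ⊗ G ⟶ G) ≫ f₁) = 1 :=
    mul_eq_one_comm.1 h11.symm
  have key : (x * y) ≫ f = (x ≫ f) * (y ≫ f) := by
    rw [e, hx, hy]
    calc (x ≫ f₁) * (y ≫ f₂) = (x ≫ f₁) * (((1 : G ⊗ G ⟶ G) ≫ f₂) * ((1 : G ⊗ G ⟶ G) ≫ f₁)) * (y ≫ f₂) := by
          rw [hinv, _root_.mul_one]
      _ = _ := by simp only [_root_.mul_assoc]
  have hxy : x * y = μ[G] := by rw [Hom.mul_def, show lift x y = 𝟙 _ from lift_fst_snd, Category.id_comp]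
  refine { one_hom := hf, mul_hom := ?_ }
  rw [← hxy, key, Hom.mul_def]
  congr 1

theorem smooth_of_geometricallyIntegral (G : Over (Spec (CommRingCat.of K))) [GrpObj G] [IsProper G.hom]
    [GeometricallyIntegral G.hom] : Smooth G.hom := by
  have : GrpObj (Over.mk G.hom) := ‹GrpObj G›
  exact smooth_of_grpObj G.hom

end Groth.Agent.NeronLib
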