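import Groth.Agent.NeronLib.InfinitesimalConst
import Groth.Agent.AbSchLib.SmoothReduced
import Mathlib.AlgebraicGeometry.Geometrically.Integral
import Mathlib.AlgebraicGeometry.Group.Abelian
import Mathlib.LinearAlgebra.Dimension.Constructions

/-!
# Morphisms from a product of smooth varieties to a proper group variety
-/

universe u

set_option autoImplicit false

open AlgebraicGeometry CategoryTheory Limits TopologicalSpace MonoidalCategory CartesianMonoidalCategory MonObj
open scoped TensorProduct

namespace Groth.Agent.NeronLib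

variable {K : Type u} [Field K]

theorem isAlgebraic_mem_range_of_geometricallyIntegral {C : Type u} [CommRing C] [Nontrivial C] [Algebra K C]
    {V : Scheme.{u}} (pV : V ⟶ Spec (CommRingCat.of K)) [GeometricallyIntegral pV]
    (j : Spec (CommRingCat.of C) ⟶ V) [IsOpenImmersion j] (hj : j ≫ pV = Spec.map (CommRingCat.ofHom (algebraMap K C)))
    (x : C) (hx : IsAlgebraic K x) : x ∈ Set.range (algebraMap K C) := by
  have hint : ∀ (E : Type u) [Field E] [Algebra K E] [Nontrivial (C ⊗[K] E)], IsDomain (C ⊗[K] E) := by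
    intro E _ _ _
    let t := Spec.map (CommRingCat.ofHom (algebraMap K E))
    let jj : pullback (Spec.map (CommRingCat.ofHom (algebraMap K C))) t ⟶ pullback pV t :=
      pullback.map _ _ _ _ j (𝟙 _) (𝟙 _) (by rw [Category.comp_id, hj]) (by simp)
    have : IsIntegral (pullback pV t) :=
      GeometricallyIntegral.geometrically_isIntegral (f := pV) t _ _ (.of_hasPullback _ _)
    let i := (pullbackSpecIso K C E).inv ≫ jj
    have : IsOpenImmersion i := inferInstance
    have : Nonempty ↥(Spec (CommRingCat.of (C ⊗[K] E))) := inferInstanceAs (Nonempty (PrimeSpectrum _))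
    have : IsIntegral (Spec (CommRingCat.of (C ⊗[K] E))) := isIntegral_of_isOpenImmersion i
    exact (affine_isIntegral_iff (CommRingCat.of (C ⊗[K] E))).1 this
  have hC : IsDomain C := by
    have : Nontrivial (C ⊗[K] K) := (Algebra.TensorProduct.rid K K C).toEquiv.nontrivial
    have := hint K
    exact (Algebra.TensorProduct.rid K K C).toMulEquiv.symm.isDomain
  let E := Algebra.adjoin K {x}
  have : FiniteDimensional K E := Module.Finite.iff_fg.2 hx.isIntegral.fg_adjoin_singleton
  have : Algebra.IsIntegral K E := Algebra.IsIntegral.of_finite K E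
  have hEf : IsField E := isField_of_isIntegral_of_isField' (Field.toIsField K)
  letI := hEf.toField
  have hinj : Function.Injective (Algebra.TensorProduct.map E.val (AlgHom.id K E)) :=
    Module.Flat.rTensor_preserves_injective_linearMap (M := E) E.val.toLinearMap Subtype.val_injective
  have : Nontrivial (E ⊗[K] E) := inferInstance
  have : Nontrivial (C ⊗[K] E) := hinj.nontrivial
  have := hint E
  have : IsDomain (E ⊗[K] E) := hinj.isDomain (Algebra.TensorProduct.map E.val (AlgHom.id K E)).toRingHom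
  have hfld : IsField (E ⊗[K] E) :=
    have : Algebra.IsIntegral K (E ⊗[K] E) := Algebra.IsIntegral.of_finite K _
    isField_of_isIntegral_of_isField' (Field.toIsField K)
  letI := hfld.toField
  have hmul : Function.Injective (Algebra.TensorProduct.lmul' K (S := E)) :=
    (Algebra.TensorProduct.lmul' K (S := E)).toRingHom.injective
  have hle := LinearMap.finrank_le_finrank_of_injective (f := (Algebra.TensorProduct.lmul' K (S := E)).toLinearMap) hmul
  rw [Module.finrank_tensorProduct] at hle
  have hd : Module.finrank K E = 1 := by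
    have := Module.finrank_pos (R := K) (M := E)
    nlinarith
  have hbot : E = ⊥ := Subalgebra.eq_bot_of_finrank_one hd
  exact Algebra.mem_bot.1 (hbot ▸ Algebra.self_mem_adjoin_singleton K x)

theorem geometricallyIntegral_tensor (V W : Over (Spec (CommRingCat.of K))) [Smooth V.hom] [Smooth W.hom]
    [GeometricallyIntegral V.hom] [GeometricallyIntegral W.hom] : GeometricallyIntegral (V ⊗ W).hom := by
  show GeometricallyIntegral (pullback.fst V.hom W.hom ≫ V.hom)
  have : GeometricallyIrreducible (pullback.fst V.hom W.hom ≫ V.hom) := GeometricallyIrreducible.comp _ _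
  have := AbSchLib.geometricallyReduced_of_smooth (pullback.fst V.hom W.hom ≫ V.hom)
  exact .of_geometricallyReduced_of_geometricallyIrreducible _

theorem isIntegral_of_geometricallyIntegral (V : Over (Spec (CommRingCat.of K))) [GeometricallyIntegral V.hom] :
    IsIntegral V.left :=
  GeometricallyIntegral.isIntegral_of_subsingleton V.hom

theorem eq_one_on_product {V W D A : Over (Spec (CommRingCat.of K))} [Smooth V.hom] [GeometricallyIntegral V.hom]
    [Smooth W.hom] [GeometricallyIntegral W.hom] [Smooth D.hom] [Nonempty D.left] [GrpObj A] [IsProper A.hom]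
    (v₀ : 𝟙_ (Over (Spec (CommRingCat.of K))) ⟶ V) (h : V ⊗ W ⟶ A)
    (h₀ : lift (toUnit W ≫ v₀) (𝟙 W) ≫ h = 1) (δ : D ⟶ W) (hD : (V ◁ δ) ≫ h = 1) : h = 1 := by
  have : GrpObj (Over.mk A.hom) := ‹GrpObj A›
  obtain ⟨V₀, hV₀, hvV₀, -⟩ := exists_isAffineOpen_mem_and_subset (x := v₀.left (default : Spec (CommRingCat.of K))) (U := ⊤) trivial
  let C : Type u := Γ(V.left, V₀)
  letI : CommRing C := inferInstanceAs (CommRing Γ(V.left, V₀))
  letI : Algebra K C := (Spec.preimage (hV₀.fromSpec ≫ V.hom)).hom.toAlgebra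
  let pV := Spec.map (CommRingCat.ofHom (algebraMap K C))
  have hpV : hV₀.fromSpec ≫ V.hom = pV := (Spec.map_preimage (hV₀.fromSpec ≫ V.hom)).symm
  let J : Over.mk pV ⟶ V := Over.homMk hV₀.fromSpec hpV
  have : IsOpenImmersion J.left := inferInstanceAs (IsOpenImmersion hV₀.fromSpec)
  have hZ := isIntegral_of_geometricallyIntegral V
  have : Nonempty V₀.toScheme := ⟨⟨_, hvV₀⟩⟩
  have : IsDomain C := inferInstanceAs (IsDomain Γ(V.left, V₀))
  have : LocallyOfFiniteType pV := hpV ▸ inferInstance
  have : Algebra.FiniteType K C := by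
    have h := ‹LocallyOfFiniteType pV›
    rw [HasRingHomProperty.Spec_iff (P := @LocallyOfFiniteType)] at h
    exact (RingHom.finiteType_algebraMap).1 h
  -- the base point
  let l : Spec (CommRingCat.of K) ⟶ Spec (CommRingCat.of C) := IsOpenImmersion.lift hV₀.fromSpec v₀.left (by
    rw [hV₀.range_fromSpec]; rintro _ ⟨x, rfl⟩
    rw [show x = (default : Spec (CommRingCat.of K)) from Subsingleton.elim (α := Spec (CommRingCat.of K)) _ _]; exact hvV₀)
  have hl : l ≫ hV₀.fromSpec = v₀.left := IsOpenImmersion.lift_fac _ _ _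
  have hlp : l ≫ pV = 𝟙 _ := by rw [← hpV, reassoc_of% hl]; exact Over.w v₀
  let v : C →ₐ[K] K :=
    { (Spec.preimage l).hom with
      commutes' := fun r => by
        have h1 := hlp
        rw [← Spec.map_preimage l, ← Spec.map_comp, ← Spec.map_id] at h1
        exact congrArg (fun k => k r) (Spec.map_injective h1) }
  have hv : Spec.map (CommRingCat.ofHom v.toRingHom) = l := Spec.map_preimage l
  let h' : Over.mk pV ⊗ W ⟶ A := (J ▷ W) ≫ h
  have : IsIntegral (pullback pV W.hom) := by
    have : IsIntegral (Spec (CommRingCat.of C)) := inferInstance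
    have : IsLocallyNoetherian (Spec (CommRingCat.of C)) := LocallyOfFiniteType.isLocallyNoetherian pV
    infer_instance
  have : Smooth (δ.left ≫ W.hom) := by rw [Over.w]; infer_instance
  have key := eq_const_of_infinitesimal (C := C)
    (isAlgebraic_mem_range_of_geometricallyIntegral V.hom hV₀.fromSpec hpV) W.hom A.hom h'.left (Over.w h' |>.trans
      (by exact (pullback.condition))) η[A].left (Over.w η[A]) v (by
      have h1 : lift (toUnit W ≫ Over.homMk (V := Over.mk pV) l hlp) (𝟙 W) ≫ h' = 1 := by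
        rw [← h₀, ← Category.assoc]
        congr 1
        ext : 1
        · rw [Category.assoc, whiskerRight_fst, lift_fst_assoc, lift_fst]
          rw [Category.assoc, show Over.homMk (V := Over.mk pV) l hlp ≫ J = v₀ from Over.OverMorphism.ext hl]
        · rw [Category.assoc, whiskerRight_snd, lift_snd, lift_snd]
      have h2 : (lift (toUnit W ≫ Over.homMk (V := Over.mk pV) l hlp) (𝟙 W)).left ≫ h'.left = W.hom ≫ η[A].left :=
        congrArg Over.Hom.left h1
      refine Eq.trans ?_ h2
      congr 1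
      refine pullback.hom_ext ?_ ?_
      · refine (pullback.lift_fst _ _ _).trans (Eq.trans ?_
          (congrArg Over.Hom.left (lift_fst (toUnit W ≫ Over.homMk (V := Over.mk pV) l hlp) (𝟙 W))).symm)
        show W.hom ≫ Spec.map (CommRingCat.ofHom v.toRingHom) = W.hom ≫ l
        rw [hv]
      · exact (pullback.lift_snd _ _ _).trans
          (congrArg Over.Hom.left (lift_snd (toUnit W ≫ Over.homMk (V := Over.mk pV) l hlp) (𝟙 W))).symm) δ.left (by
      have h1 : (Over.mk pV ◁ δ) ≫ h' = 1 := by
        rw [← Category.assoc, whisker_exchange, Category.assoc, hD, MonObj.comp_one]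
      have h2 : (Over.mk pV ◁ δ).left ≫ h'.left = (Over.mk pV ⊗ D).hom ≫ η[A].left := congrArg Over.Hom.left h1
      have hδ : δ.left ≫ W.hom = D.hom := Over.w δ
      let ψ : pullback pV (δ.left ≫ W.hom) ⟶ (Over.mk pV ⊗ D).left :=
        pullback.lift (pullback.fst _ _) (pullback.snd _ _) (pullback.condition.trans (congrArg (_ ≫ ·) hδ))
      have h3 : ψ ≫ (Over.mk pV ◁ δ).left ≫ h'.left = ψ ≫ (Over.mk pV ⊗ D).hom ≫ η[A].left := congrArg (ψ ≫ ·) h2
      refine Eq.trans ?_ (h3.trans ?_)
      · rw [← Category.assoc ψ]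
        congr 1
        refine pullback.hom_ext ?_ ?_
        · refine (pullback.lift_fst _ _ _).trans (Eq.symm ?_)
          refine (Category.assoc _ _ _).trans ((congrArg (ψ ≫ ·) (Over.whiskerLeft_left_fst δ)).trans ?_)
          exact (pullback.lift_fst _ _ _).trans (Category.comp_id _).symm
        · refine (pullback.lift_snd _ _ _).trans (Eq.symm ?_)
          refine (Category.assoc _ _ _).trans ((congrArg (ψ ≫ ·) (Over.whiskerLeft_left_snd δ)).trans ?_)
          exact (Category.assoc _ _ _).symm.trans (congrArg (· ≫ δ.left) (pullback.lift_snd _ _ _))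
      · show ψ ≫ (pullback.fst pV D.hom ≫ pV) ≫ η[A].left = _
        have e1 : ψ ≫ pullback.fst pV D.hom = pullback.fst _ _ := pullback.lift_fst _ _ _
        rw [Category.assoc, reassoc_of% e1, pullback.condition_assoc])
  -- density
  have hG := geometricallyIntegral_tensor V W
  have := isIntegral_of_geometricallyIntegral (V ⊗ W)
  have hop : IsOpenImmersion (J ▷ W).left := by
    rw [Over.whiskerRight_left]
    exact @Scheme.pullback_map_isOpenImmersion _ _ _ _ _ _ _ _ _ _ _ _ _ _ _ ‹_› inferInstance inferInstance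
  have : IsDominant (J ▷ W).left := by
    refine ⟨?_⟩
    refine (J ▷ W).left.isOpenEmbedding.isOpen_range.dense ?_
    have : Nonempty ↥(pullback pV W.hom) := inferInstance
    exact ⟨_, Classical.arbitrary ↥(pullback pV W.hom), rfl⟩
  refine Over.OverMorphism.ext (ext_of_isDominant_of_isSeparated A.hom ((Over.w h).trans (Over.w (1 : V ⊗ W ⟶ A)).symm)
    (J ▷ W).left ?_)
  rw [← Over.comp_left, ← Over.comp_left, MonObj.comp_one, Hom.one_def]
  refine key.trans ?_
  rw [← Category.assoc, ← pullback.condition]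
  rfl

theorem exists_decomp (V W A : Over (Spec (CommRingCat.of K)))
    [Smooth V.hom] [GeometricallyIntegral V.hom] [Smooth W.hom] [GeometricallyIntegral W.hom]
    [GrpObj A] [IsProper A.hom] (v₀ : 𝟙_ (Over (Spec (CommRingCat.of K))) ⟶ V) (f : V ⊗ W ⟶ A) :
    ∃ (f₁ : V ⟶ A) (f₂ : W ⟶ A), f = (fst V W ≫ f₁) * (snd V W ≫ f₂) := by
  let f₂ := lift (toUnit W ≫ v₀) (𝟙 W) ≫ f
  let g := f * (snd V W ≫ f₂)⁻¹
  have hg₀ : lift (toUnit W ≫ v₀) (𝟙 W) ≫ g = 1 := by
    rw [MonObj.comp_mul, GrpObj.comp_inv, lift_snd_assoc, Category.id_comp]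
    exact mul_inv_cancel _
  have := geometricallyIntegral_tensor W W
  have : Smooth (W ⊗ W).hom := inferInstanceAs (Smooth (pullback.fst W.hom W.hom ≫ W.hom))
  have := isIntegral_of_geometricallyIntegral W
  have h1 : (V ◁ fst W W ≫ g) * (V ◁ snd W W ≫ g)⁻¹ = 1 := by
    refine eq_one_on_product v₀ _ ?_ (lift (𝟙 W) (𝟙 W)) ?_
    · have e : ∀ π : W ⊗ W ⟶ W, lift (toUnit (W ⊗ W) ≫ v₀) (𝟙 _) ≫ V ◁ π ≫ g = 1 := fun π => by
        have : lift (toUnit (W ⊗ W) ≫ v₀) (𝟙 _) ≫ V ◁ π = π ≫ lift (toUnit W ≫ v₀) (𝟙 W) := by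
          ext : 1 <;> simp
        rw [reassoc_of% this, hg₀, MonObj.comp_one]
      rw [MonObj.comp_mul, GrpObj.comp_inv, e, e]
      simp
    · have e : ∀ π : W ⊗ W ⟶ W, lift (𝟙 W) (𝟙 W) ≫ π = 𝟙 W → V ◁ lift (𝟙 W) (𝟙 W) ≫ V ◁ π ≫ g = g := fun π hπ => by
        rw [← Category.assoc, ← whiskerLeft_comp, hπ, whiskerLeft_id, Category.id_comp]
      rw [MonObj.comp_mul, GrpObj.comp_inv, e _ (lift_fst _ _), e _ (lift_snd _ _)]
      exact mul_inv_cancel _
  have h2 := mul_inv_eq_one.1 h1
  let p := (fst V W).left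
  have hp : p = pullback.fst V.hom W.hom := rfl
  have : Smooth p := by rw [hp]; infer_instance
  have : Surjective p := by
    rw [hp]
    have : Surjective W.hom := inferInstance
    infer_instance
  have hker : ∀ {Z : Scheme.{u}} (a b : Z ⟶ (V ⊗ W).left), a ≫ p = b ≫ p → a ≫ g.left = b ≫ g.left := by
    intro Z a b hab
    let A' : Over.mk (a ≫ (V ⊗ W).hom) ⟶ V ⊗ W := Over.homMk a
    let B' : Over.mk (a ≫ (V ⊗ W).hom) ⟶ V ⊗ W := Over.homMk b (by
      show b ≫ p ≫ V.hom = a ≫ p ≫ V.hom
      rw [← Category.assoc, ← hab, Category.assoc])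
    have hAB : A' ≫ fst V W = B' ≫ fst V W := Over.OverMorphism.ext hab
    let c := lift (A' ≫ fst V W) (lift (A' ≫ snd V W) (B' ≫ snd V W))
    have hA : c ≫ V ◁ fst W W = A' := by ext : 1 <;> simp [c]
    have hB : c ≫ V ◁ snd W W = B' := by ext : 1 <;> simp [c, hAB]
    have h3 := congrArg (c ≫ ·) h2
    rw [reassoc_of% hA, reassoc_of% hB] at h3
    exact congrArg Over.Hom.left h3
  let φ := EffectiveEpi.desc p g.left hker
  have hφ : φ ≫ A.hom = V.hom := by
    rw [← cancel_epi p, EffectiveEpi.fac_assoc, Over.w g]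
    rfl
  refine ⟨Over.homMk φ hφ, f₂, ?_⟩
  have hgf : fst V W ≫ Over.homMk φ hφ = g := Over.OverMorphism.ext (EffectiveEpi.fac p g.left hker)
  rw [hgf]
  exact (inv_mul_cancel_right f _).symm

end Groth.Agent.NeronLib
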