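import Mathlib
import Groth.Prelude.Def_CInt
import Groth.Agent.S3694

/-!
# Etale models over a dense open of the base
-/

set_option autoImplicit false

universe u

open CategoryTheory CategoryTheory.Limits AlgebraicGeometry

namespace Groth.Agent.NeronLib

/-- A schematically dense open is dense. -/
theorem dense_of_isSchematicallyDense {X : Scheme.{u}} {U : X.Opens} (hU : CInt.IsSchematicallyDense U) :
    Dense (U : Set X) := by
  rw [dense_iff_inter_open]
  intro V hV hne
  by_contra hempty
  rw [Set.not_nonempty_iff_eq_empty] at hempty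
  let V' : X.Opens := ⟨V, hV⟩
  have hbot : V' ⊓ U = ⊥ := TopologicalSpace.Opens.ext hempty
  have : Subsingleton Γ(X, V' ⊓ U) := by
    rw [hbot]
    exact CommRingCat.subsingleton_of_isTerminal X.sheaf.isTerminalOfEmpty
  have hsub : Subsingleton Γ(X, V') := (hU V').subsingleton
  obtain ⟨x, hx⟩ := hne
  have h1 : (1 : X.presheaf.stalk x) = 0 := by
    rw [← map_one (X.presheaf.germ V' x hx).hom, Subsingleton.elim (1 : Γ(X, V')) 0, map_zero]
  exact one_ne_zero h1

/-- The preimage of a dense open under an open map is dense. -/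
theorem dense_preimage {X S : Scheme.{u}} (f : X ⟶ S) [Flat f] [LocallyOfFinitePresentation f]
    {U : S.Opens} (hU : Dense (U : Set S)) : Dense ((f ⁻¹ᵁ U : X.Opens) : Set X) :=
  hU.preimage f.isOpenMap

theorem subsingleton_kaehler_of_localization (R C D : Type u) [CommRing R] [CommRing C] [CommRing D] [Algebra R C]
    [Algebra R D] [Algebra C D] [IsScalarTower R C D] [Algebra.IsStandardSmooth R C] (g : C)
    [IsLocalization.Away g D] [Nontrivial D] [Algebra.FormallyUnramified R D] :
    Algebra.FormallyUnramified R C := by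
  rcases subsingleton_or_nontrivial C with hC | hC
  · exact ⟨Module.subsingleton C _⟩
  have hfree : Module.Free C Ω[C⁄R] := Algebra.IsStandardSmooth.free_kaehlerDifferential
  refine ⟨?_⟩
  rw [← not_nontrivial_iff_subsingleton]
  intro hnt
  let b := Module.Free.chooseBasis C Ω[C⁄R]
  obtain ⟨i⟩ := b.index_nonempty
  have : IsLocalizedModule (Submonoid.powers g) (KaehlerDifferential.map R R C D) :=
    KaehlerDifferential.isLocalizedModule_map (R := R) (S := C) (T := D) (Submonoid.powers g)
  let b' := b.ofIsLocalizedModule D (Submonoid.powers g) (KaehlerDifferential.map R R C D)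
  have : Subsingleton Ω[D⁄R] := Algebra.FormallyUnramified.subsingleton_kaehlerDifferential
  exact b'.ne_zero i (Subsingleton.elim _ _)

/-- A smooth morphism which is unramified over a dense open of the base is etale. -/
theorem etale_of_smooth_of_dense {X S : Scheme.{u}} (f : X ⟶ S) [Smooth f] {U : S.Opens}
    (hU : Dense (U : Set S)) [FormallyUnramified ((f ⁻¹ᵁ U).ι ≫ f)] : Etale f := by
  have key : ∀ x : X, ∃ W : X.Opens, x ∈ W ∧ FormallyUnramified (W.ι ≫ f) := by
    intro x
    obtain ⟨V, hV, W, hW, hxW, e, hstd⟩ := Smooth.exists_isStandardSmooth f x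
    obtain ⟨z, hzW, hzU⟩ := (dense_preimage f hU).inter_open_nonempty _ W.isOpen ⟨x, hxW⟩
    obtain ⟨g, hg, hzg⟩ := hW.exists_basicOpen_le (V := f ⁻¹ᵁ U) ⟨z, hzU⟩ hzW
    have hgW : X.basicOpen g ≤ W := X.basicOpen_le g
    have hunr : (f.appLE V (X.basicOpen g) (hgW.trans e)).hom.FormallyUnramified := by
      have hD := hW.basicOpen g
      rw [← HasRingHomProperty.Spec_iff (P := @FormallyUnramified)]
      have : FormallyUnramified (Spec.map (f.appLE V (X.basicOpen g) (hgW.trans e)) ≫ hV.fromSpec) := by
        rw [IsAffineOpen.SpecMap_appLE_fromSpec f hV hD]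
        rw [← IsOpenImmersion.lift_fac (f ⁻¹ᵁ U).ι hD.fromSpec (by
          rw [IsAffineOpen.range_fromSpec, Scheme.Opens.range_ι]; exact hg), Category.assoc]
        exact MorphismProperty.comp_mem (W := @FormallyUnramified) _ _ inferInstance ‹_›
      exact FormallyUnramified.of_comp _ hV.fromSpec
    have hCunr : (f.appLE V W e).hom.FormallyUnramified := by
      algebraize [(f.appLE V W e).hom]
      letI := (f.appLE V (X.basicOpen g) (hgW.trans e)).hom.toAlgebra
      have : IsScalarTower Γ(S, V) Γ(X, W) Γ(X, X.basicOpen g) := IsScalarTower.of_algebraMap_eq' (by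
        show _ = (X.presheaf.map (homOfLE hgW).op).hom.comp (f.appLE V W e).hom
        rw [← CommRingCat.hom_comp, Scheme.Hom.appLE_map]
        rfl)
      have : IsLocalization.Away g Γ(X, X.basicOpen g) := hW.isLocalization_basicOpen g
      have : Algebra.FormallyUnramified Γ(S, V) Γ(X, X.basicOpen g) := hunr
      have : Nontrivial Γ(X, X.basicOpen g) := ⟨⟨1, 0, fun h => one_ne_zero (α := X.presheaf.stalk z) (by
        rw [← map_one (X.presheaf.germ (X.basicOpen g) z hzg).hom, h, map_zero])⟩⟩
      exact subsingleton_kaehler_of_localization Γ(S, V) Γ(X, W) Γ(X, X.basicOpen g) g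
    refine ⟨W, hxW, ?_⟩
    have h1 : FormallyUnramified (Spec.map (f.appLE V W e)) :=
      (HasRingHomProperty.Spec_iff (P := @FormallyUnramified)).2 hCunr
    rw [← hW.isoSpec_hom_fromSpec, Category.assoc, ← IsAffineOpen.SpecMap_appLE_fromSpec f hV hW e]
    exact MorphismProperty.comp_mem (W := @FormallyUnramified) _ _ inferInstance
      (MorphismProperty.comp_mem (W := @FormallyUnramified) _ _ h1 inferInstance)
  choose W hxW hW using key
  have : FormallyUnramified f := by
    rw [IsZariskiLocalAtSource.iff_of_openCover (P := @FormallyUnramified)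
      (X.openCoverOfIsOpenCover W (TopologicalSpace.IsOpenCover.mk (eq_top_iff.2 fun x _ =>
        TopologicalSpace.Opens.mem_iSup.2 ⟨x, hxW x⟩)))]
    exact hW
  exact Etale.of_formallyUnramified_of_flat f

/-- An etale separated morphism between flat schemes which is a monomorphism over a dense open of the base
is an open immersion. -/
theorem isOpenImmersion_of_mono_over_dense {M N S : Scheme.{u}} (φ : M ⟶ N) (q : N ⟶ S) [Flat q]
    [LocallyOfFinitePresentation q] [Etale φ] [IsSeparated φ] {U : S.Opens} (hU : Dense (U : Set S))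
    (hmono : Mono (pullback.fst (φ ≫ q) U.ι ≫ φ)) : IsOpenImmersion φ := by
  let Δ := pullback.diagonal φ
  let P0 : (pullback φ φ).Opens := (pullback.fst φ φ ≫ φ ≫ q) ⁻¹ᵁ U
  have hd : Dense (P0 : Set ↥(pullback φ φ)) := dense_preimage _ hU
  have hsub : (P0 : Set ↥(pullback φ φ)) ⊆ Set.range Δ := by
    intro z hz
    let r := (pullback.fst φ φ ≫ φ ≫ q).resLE U P0 le_rfl
    have hr : r ≫ U.ι = P0.ι ≫ pullback.fst φ φ ≫ φ ≫ q := Scheme.Hom.resLE_comp_ι _ _
    let a : P0.toScheme ⟶ pullback (φ ≫ q) U.ι := pullback.lift (P0.ι ≫ pullback.fst φ φ) r (by simp [hr])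
    let b : P0.toScheme ⟶ pullback (φ ≫ q) U.ι := pullback.lift (P0.ι ≫ pullback.snd φ φ) r
      (by simp [hr, pullback.condition_assoc])
    have hab : a = b := hmono.right_cancellation a b (by
      simp only [a, b, pullback.lift_fst_assoc, Category.assoc, pullback.condition])
    have h : P0.ι ≫ pullback.fst φ φ = P0.ι ≫ pullback.snd φ φ := by
      have := congrArg (· ≫ pullback.fst (φ ≫ q) U.ι) hab
      simp only [a, b] at this
      rwa [pullback.lift_fst, pullback.lift_fst] at this
    have hfac : P0.ι = (P0.ι ≫ pullback.fst φ φ) ≫ Δ := by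
      apply pullback.hom_ext
      · simp [Δ]
      · simp [Δ, h]
    refine ⟨(P0.ι ≫ pullback.fst φ φ) ⟨z, hz⟩, ?_⟩
    exact (congrArg (fun m : P0.toScheme ⟶ pullback φ φ => m ⟨z, hz⟩) hfac).symm
  have : Surjective Δ := ⟨fun z => (closure_minimal hsub Δ.isClosedEmbedding.isClosed_range) (hd z)⟩
  have : IsIso Δ := (isIso_iff_isOpenImmersion_and_surjective Δ).2 ⟨inferInstance, this⟩
  have : Mono φ := (pullback.isIso_diagonal_iff φ).1 this
  exact Groth.Agent.S3694.result φ

end Groth.Agent.NeronLib
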