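import Mathlib.AlgebraicGeometry.Morphisms.Separated
import Mathlib.AlgebraicGeometry.Morphisms.Flat
import Mathlib.AlgebraicGeometry.Gluing
import Mathlib.AlgebraicGeometry.Properties

/-!
# Gluing extensions of a morphism defined on a dense open of a reduced scheme
-/

universe u

set_option autoImplicit false

open AlgebraicGeometry CategoryTheory Limits TopologicalSpace

namespace Groth.Agent.NeronLib

theorem ext_of_dense {X Y S : Scheme.{u}} [IsReduced X] (q : Y ⟶ S) [IsSeparated q] (u v : X ⟶ Y)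
    (huv : u ≫ q = v ≫ q) (U : X.Opens) (hU : Dense (U : Set X)) (h : U.ι ≫ u = U.ι ≫ v) : u = v := by
  have : IsDominant U.ι := ⟨by rwa [DenseRange, Scheme.Opens.range_ι]⟩
  exact ext_of_isDominant_of_isSeparated q huv U.ι h

/-- `g` on `V` and `f` on `U` agree where both are defined. -/
def Agree {X Y : Scheme.{u}} {U V : X.Opens} (g : V.toScheme ⟶ Y) (f : U.toScheme ⟶ Y) : Prop :=
  ∀ (W : Scheme.{u}) (a : W ⟶ V.toScheme) (b : W ⟶ U.toScheme), a ≫ V.ι = b ≫ U.ι → a ≫ g = b ≫ f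

theorem agree_of_homOfLE {X Y : Scheme.{u}} {U V : X.Opens} (g : V.toScheme ⟶ Y) (f : U.toScheme ⟶ Y)
    (h : X.homOfLE (inf_le_left : V ⊓ U ≤ V) ≫ g = X.homOfLE inf_le_right ≫ f) : Agree g f := by
  intro W a b hab
  let c : W ⟶ (V ⊓ U).toScheme := IsOpenImmersion.lift (V ⊓ U).ι (a ≫ V.ι) (by
    rw [Scheme.Opens.range_ι]
    rintro _ ⟨w, rfl⟩
    exact ⟨(a w).2, by rw [hab]; exact (b w).2⟩)
  have hc : c ≫ (V ⊓ U).ι = a ≫ V.ι := IsOpenImmersion.lift_fac _ _ _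
  have ha : c ≫ X.homOfLE inf_le_left = a := by rw [← cancel_mono V.ι, Category.assoc, Scheme.homOfLE_ι, hc]
  have hb : c ≫ X.homOfLE inf_le_right = b := by rw [← cancel_mono U.ι, Category.assoc, Scheme.homOfLE_ι, hc, hab]
  rw [← ha, ← hb, Category.assoc, Category.assoc, h]

/-- Extensions of `f` from a dense open glue. -/
theorem exists_glue {X Y S : Scheme.{u}} [IsReduced X] (pX : X ⟶ S) (q : Y ⟶ S) [IsSeparated q]
    (U : X.Opens) (hU : Dense (U : Set X)) (f : U.toScheme ⟶ Y) {ι : Type u} (V : ι → X.Opens)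
    (g : ∀ i, (V i).toScheme ⟶ Y) (hg : ∀ i, g i ≫ q = (V i).ι ≫ pX) (hag : ∀ i, Agree (g i) f) :
    ∃ g' : (⨆ i, V i).toScheme ⟶ Y, g' ≫ q = (⨆ i, V i).ι ≫ pX ∧
      ∀ i, X.homOfLE (le_iSup V i) ≫ g' = g i := by
  let 𝒰 := Scheme.Opens.iSupOpenCover V
  have key : ∀ i j : ι, pullback.fst (X.homOfLE (le_iSup V i)) (X.homOfLE (le_iSup V j)) ≫ g i = pullback.snd (X.homOfLE (le_iSup V i)) (X.homOfLE (le_iSup V j)) ≫ g j := by
    intro i j
    let a := pullback.fst (X.homOfLE (le_iSup V i)) (X.homOfLE (le_iSup V j)) ≫ (V i).ι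
    have hi : X.homOfLE (le_iSup V i) ≫ (⨆ i, V i).ι = (V i).ι := X.homOfLE_ι (le_iSup V i)
    have hj : X.homOfLE (le_iSup V j) ≫ (⨆ i, V i).ι = (V j).ι := X.homOfLE_ι (le_iSup V j)
    have ha : pullback.snd (X.homOfLE (le_iSup V i)) (X.homOfLE (le_iSup V j)) ≫ (V j).ι = a := by
      show _ = pullback.fst (X.homOfLE (le_iSup V i)) (X.homOfLE (le_iSup V j)) ≫ (V i).ι
      rw [← hi, ← hj, ← Category.assoc, ← Category.assoc, pullback.condition]
    have : IsOpenImmersion a := by simp only [a]; infer_instance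
    have := isReduced_of_isOpenImmersion a
    refine ext_of_dense q _ _ ?_ (a ⁻¹ᵁ U) (hU.preimage a.isOpenEmbedding.isOpenMap) ?_
    · rw [Category.assoc, Category.assoc, hg, hg, ← Category.assoc, ← Category.assoc, ha]
    · have hb : (a ∣_ U) ≫ U.ι = (a ⁻¹ᵁ U).ι ≫ a := morphismRestrict_ι a U
      rw [← Category.assoc, ← Category.assoc,
        hag i _ ((a ⁻¹ᵁ U).ι ≫ pullback.fst (X.homOfLE (le_iSup V i)) (X.homOfLE (le_iSup V j))) (a ∣_ U) (by rw [hb, Category.assoc]),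
        hag j _ ((a ⁻¹ᵁ U).ι ≫ pullback.snd (X.homOfLE (le_iSup V i)) (X.homOfLE (le_iSup V j))) (a ∣_ U) (by rw [hb, Category.assoc, ha])]
  refine ⟨Scheme.Cover.glueMorphisms 𝒰 g key, Scheme.Cover.hom_ext 𝒰 _ _ fun i => ?_,
    fun i => Scheme.Cover.ι_glueMorphisms 𝒰 g key i⟩
  rw [← Category.assoc, Scheme.Cover.ι_glueMorphisms 𝒰 g key i, ← Category.assoc]
  exact (hg i).trans (congrArg (· ≫ pX) (X.homOfLE_ι (le_iSup V i)).symm)

end Groth.Agent.NeronLib
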