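import Mathlib
import Groth.Prelude.Def_Pi1
import Groth.Prelude.Def_EGA4b
import Groth.Agent.S1182
import Groth.Agent.S2805
import Groth.Agent.S2358
import Groth.Agent.FEtFF.Generic
import Groth.Agent.Props12.Components
import Groth.Agent.NeronLib.Glue
import Groth.Agent.NeronLib.EtaleBirational

/-!
# Smooth schemes over normal schemes: extension of maps to finite normal schemes
-/

set_option autoImplicit false

universe u

open CategoryTheory CategoryTheory.Limits AlgebraicGeometry TopologicalSpace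

namespace Groth.Agent.NeronLib

theorem isNormalRing_sections {X : Scheme.{u}} (hX : Pi1.IsNormalScheme X) {V : X.Opens} (hV : IsAffineOpen V) :
    EGA4.IsNormalRing Γ(X, V) := by
  intro p _
  let x : X := hV.fromSpec ⟨p, inferInstance⟩
  have hxV : x ∈ V := hV.range_fromSpec.le ⟨⟨p, inferInstance⟩, rfl⟩
  have hxp : hV.primeIdealOf ⟨x, hxV⟩ = ⟨p, inferInstance⟩ :=
    hV.fromSpec.injective (hV.fromSpec_primeIdealOf ⟨x, hxV⟩)
  letI := TopCat.Presheaf.algebra_section_stalk X.presheaf (⟨x, hxV⟩ : V)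
  have h := hV.isLocalization_stalk ⟨x, hxV⟩
  rw [hxp] at h
  let e := (IsLocalization.algEquiv p.primeCompl (X.presheaf.stalk x) (Localization.AtPrime p)).toRingEquiv
  have := (hX x).1
  have := (hX x).2
  exact ⟨MulEquiv.isDomain _ e.symm.toMulEquiv, IsIntegrallyClosed.of_equiv e⟩

/-- A smooth scheme over a normal scheme is normal. -/
theorem isNormalScheme_of_smooth {X S : Scheme.{u}} (f : X ⟶ S) [Smooth f] (hS : Pi1.IsNormalScheme S) :
    Pi1.IsNormalScheme X := by
  intro x
  obtain ⟨V, hV, hsV, -⟩ := exists_isAffineOpen_mem_and_subset (x := f x) (U := ⊤) trivial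
  obtain ⟨W, hW, hxW, e⟩ := exists_isAffineOpen_mem_and_subset (x := x) (U := f ⁻¹ᵁ V) hsV
  have e1 : W ≤ f ⁻¹ᵁ V := e
  have hs := HasRingHomProperty.appLE @Smooth f inferInstance ⟨V, hV⟩ ⟨W, hW⟩ e1
  algebraize [(f.appLE V W e1).hom]
  have hn := (Groth.Agent.S1182.result Γ(S, V) Γ(X, W)).1 (isNormalRing_sections hS hV)
    (hW.primeIdealOf ⟨x, hxW⟩).asIdeal
  letI := TopCat.Presheaf.algebra_section_stalk X.presheaf (⟨x, hxW⟩ : W)
  have := hW.isLocalization_stalk ⟨x, hxW⟩
  let e2 := (IsLocalization.algEquiv (hW.primeIdealOf ⟨x, hxW⟩).asIdeal.primeCompl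
    (Localization.AtPrime (hW.primeIdealOf ⟨x, hxW⟩).asIdeal) (X.presheaf.stalk x)).toRingEquiv
  have := hn.1
  have := hn.2
  exact ⟨MulEquiv.isDomain _ e2.symm.toMulEquiv, IsIntegrallyClosed.of_equiv e2⟩

theorem isReduced_of_normal {X : Scheme.{u}} (hX : Pi1.IsNormalScheme X) : IsReduced X :=
  @isReduced_of_isReduced_stalk X fun x => by have := (hX x).1; infer_instance

/-- In a locally Noetherian scheme whose local rings are domains, components are open. -/
theorem isOpen_component_of_normal {X : Scheme.{u}} [IsLocallyNoetherian X] (hX : Pi1.IsNormalScheme X)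
    {Z : Set X} (hZ : Z ∈ irreducibleComponents X) : IsOpen Z := by
  refine Groth.Agent.Props12.isOpen_component (fun x => (hX x).1) (fun x => ?_) hZ
  obtain ⟨W, hW, hxW, -⟩ := exists_isAffineOpen_mem_and_subset (x := x) (U := ⊤) trivial
  refine ⟨W, hxW, ?_⟩
  have : IsNoetherianRing Γ(X, W) := IsLocallyNoetherian.component_noetherian ⟨W, hW⟩
  have : NoetherianSpace W := AlgebraicGeometry.noetherianSpace_of_isAffineOpen W hW
  have hfin : (irreducibleComponents W).Finite := NoetherianSpace.finite_irreducibleComponents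
  refine Set.Finite.of_finite_image (f := fun C => (Subtype.val ⁻¹' C : Set W)) (hfin.subset ?_) ?_
  · rintro _ ⟨C, ⟨hC, hne⟩, rfl⟩
    exact preimage_mem_irreducibleComponents hC W.isOpen.isOpenEmbedding_subtypeVal
      (let ⟨y, hy1, hy2⟩ := hne; ⟨y, hy1, ⟨y, hy2⟩, rfl⟩)
  · intro C hC C' hC' e
    obtain ⟨y, hy1, hy2⟩ := hC.2
    have := (hX y).1
    exact Groth.Agent.Props12.component_unique_of_isDomain hC.1 hC'.1 hy1 ((Set.ext_iff.1 e ⟨y, hy2⟩).1 hy1)

/-- Every point of a locally Noetherian normal scheme has an open integral neighbourhood. -/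
theorem exists_isIntegral_nhd {X : Scheme.{u}} [IsLocallyNoetherian X] (hX : Pi1.IsNormalScheme X) (x : X) :
    ∃ W : X.Opens, x ∈ W ∧ IsIntegral W.toScheme := by
  have hC := irreducibleComponent_mem_irreducibleComponents (X := X) x
  let W : X.Opens := ⟨irreducibleComponent x, isOpen_component_of_normal hX hC⟩
  refine ⟨W, mem_irreducibleComponent, ?_⟩
  have : IrreducibleSpace W.toScheme := isIrreducible_iff_irreducibleSpace.1 isIrreducible_irreducibleComponent
  have := isReduced_of_normal hX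
  exact isIntegral_of_irreducibleSpace_of_isReduced _

/-- A map from a dense open of a normal scheme to an integral scheme over the base extends. -/
theorem exists_extension_to_integral {X T S : Scheme.{u}} [IsLocallyNoetherian X] (hX : Pi1.IsNormalScheme X)
    (pX : X ⟶ S) (π : T ⟶ S) [IsIntegralHom π] (U : X.Opens) (hU : Dense (U : Set X))
    (h : U.toScheme ⟶ T) (hh : h ≫ π = U.ι ≫ pX) :
    ∃ h' : X ⟶ T, h' ≫ π = pX ∧ U.ι ≫ h' = h := by
  have := isReduced_of_normal hX
  choose W hxW hWint using exists_isIntegral_nhd hX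
  have key : ∀ i : X, ∃ g : (W i).toScheme ⟶ T, g ≫ π = (W i).ι ≫ pX ∧ Agree g h := by
    intro i
    have := hWint i
    let U' := (W i).ι ⁻¹ᵁ U
    let a : U'.toScheme ⟶ pullback π ((W i).ι ≫ pX) := pullback.lift (((W i).ι ∣_ U) ≫ h) U'.ι (by
      rw [Category.assoc, hh, ← Category.assoc, morphismRestrict_ι, Category.assoc])
    obtain ⟨s', hs1, hs2⟩ := Groth.Agent.S2358.result (Groth.Agent.FEtFF.isNormalScheme_open hX (W i))
      (pullback.snd π ((W i).ι ≫ pX)) U' (hU.preimage (W i).ι.isOpenEmbedding.isOpenMap) a (pullback.lift_snd _ _ _)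
    refine ⟨s' ≫ pullback.fst _ _, ?_, ?_⟩
    · rw [Category.assoc, pullback.condition, ← Category.assoc, hs1, Category.id_comp]
    · intro Z b c hbc
      let b' : Z ⟶ U'.toScheme := IsOpenImmersion.lift U'.ι b (by
        rintro _ ⟨z, rfl⟩
        rw [Scheme.Opens.range_ι]
        show (b ≫ (W i).ι) z ∈ U
        rw [hbc]
        exact (c z).2)
      have hb' : b' ≫ U'.ι = b := IsOpenImmersion.lift_fac _ _ _
      have hc : b' ≫ ((W i).ι ∣_ U) = c := by
        rw [← cancel_mono U.ι, Category.assoc, morphismRestrict_ι, ← Category.assoc, hb', hbc]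
      rw [← hb', Category.assoc, ← Category.assoc U'.ι, hs2, pullback.lift_fst, ← Category.assoc, hc]
  choose g hg hag using key
  obtain ⟨g', hg', hgi⟩ := exists_glue pX π U hU h W g hg hag
  have htop : (⨆ i, W i) = ⊤ := eq_top_iff.2 fun x _ => Opens.mem_iSup.2 ⟨x, hxW x⟩
  let e : X ⟶ (⨆ i, W i).toScheme := X.topIso.inv ≫ X.homOfLE htop.ge
  have he : e ≫ (⨆ i, W i).ι = 𝟙 X := by
    rw [Category.assoc, Scheme.homOfLE_ι, ← Scheme.topIso_hom, Iso.inv_hom_id]
  refine ⟨e ≫ g', by rw [Category.assoc, hg', ← Category.assoc, he, Category.id_comp], ?_⟩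
  refine Scheme.Cover.hom_ext (U.toScheme.openCoverOfIsOpenCover (fun i => U.ι ⁻¹ᵁ W i)
    (IsOpenCover.mk (eq_top_iff.2 fun y _ => Opens.mem_iSup.2 ⟨U.ι y, hxW _⟩))) _ _ fun i => ?_
  show (U.ι ⁻¹ᵁ W i).ι ≫ U.ι ≫ e ≫ g' = (U.ι ⁻¹ᵁ W i).ι ≫ h
  have h1 : (U.ι ⁻¹ᵁ W i).ι ≫ U.ι ≫ e = (U.ι ∣_ W i) ≫ X.homOfLE (le_iSup W i) := by
    rw [← cancel_mono (⨆ i, W i).ι, Category.assoc, Category.assoc, he, Category.comp_id, Category.assoc,
      Scheme.homOfLE_ι, morphismRestrict_ι]
  rw [reassoc_of% h1, hgi i]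
  exact hag i _ (U.ι ∣_ W i) (U.ι ⁻¹ᵁ W i).ι (morphismRestrict_ι _ _)

/-- A map from a smooth scheme over a normal base to a finite normal scheme lands in the smooth locus. -/
theorem range_subset_smoothLocus {Z T S : Scheme.{u}} [IsLocallyNoetherian S] (hS : Pi1.IsNormalScheme S)
    (pZ : Z ⟶ S) [Smooth pZ] (π : T ⟶ S) [IsFinite π] [LocallyOfFinitePresentation π]
    (hT : Pi1.IsNormalScheme T) (g : Z ⟶ T) (hg : g ≫ π = pZ) : ∀ z, g z ∈ π.smoothLocus := by
  intro z
  have : IsLocallyNoetherian Z := LocallyOfFiniteType.isLocallyNoetherian pZ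
  have hZn := isNormalScheme_of_smooth pZ hS
  obtain ⟨W, hzW, hW⟩ := exists_isIntegral_nhd hZn z
  let W' := pullback π (W.ι ≫ pZ)
  let p := pullback.fst π (W.ι ≫ pZ)
  let q := pullback.snd π (W.ι ≫ pZ)
  let s : W.toScheme ⟶ W' := pullback.lift (W.ι ≫ g) (𝟙 _) (by rw [Category.assoc, hg, Category.id_comp])
  have hsq : s ≫ q = 𝟙 _ := pullback.lift_snd _ _ _
  have hW'n : Pi1.IsNormalScheme W' := isNormalScheme_of_smooth p hT
  have : IsLocallyNoetherian W' := LocallyOfFiniteType.isLocallyNoetherian q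
  have : IsClosedImmersion (s ≫ q) := by rw [hsq]; infer_instance
  have : IsClosedImmersion s := IsClosedImmersion.of_comp s q
  have hsqx : ∀ w, q (s w) = w := fun w => congr($hsq w)
  -- the section is an irreducible component
  have hr : Set.range s = closure {s (genericPoint W.toScheme)} := by
    refine subset_antisymm ?_ (closure_minimal (Set.singleton_subset_iff.2 ⟨_, rfl⟩)
      s.isClosedEmbedding.isClosed_range)
    rintro _ ⟨w, rfl⟩
    exact ((genericPoint_specializes w).map s.continuous).mem_closure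
  have hC : Set.range s ∈ irreducibleComponents W' := by
    refine ⟨hr ▸ isIrreducible_singleton.closure, fun C hC hle => ?_⟩
    obtain ⟨y, hy⟩ := QuasiSober.sober (hC.closure) isClosed_closure
    have hys : y ⤳ s (genericPoint W.toScheme) := hy.specializes (subset_closure (hle ⟨_, rfl⟩))
    have hqy : q y = genericPoint W.toScheme := by
      have h2 := hys.map q.continuous
      rw [hsqx] at h2
      exact (h2.antisymm (genericPoint_specializes (q y))).eq
    have hinj : y = s (genericPoint W.toScheme) := by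
      have := q.isDiscrete_preimage_singleton (genericPoint W.toScheme)
      exact this.eq_of_specializes hys hqy (hsqx _)
    refine subset_closure.trans ?_
    rw [← hy.def, hinj, ← hr]
  let O : W'.Opens := ⟨Set.range s, isOpen_component_of_normal hW'n hC⟩
  let s₀ : W.toScheme ⟶ O.toScheme := IsOpenImmersion.lift O.ι s (by rw [Scheme.Opens.range_ι]; exact subset_rfl)
  have hs₀ : s₀ ≫ O.ι = s := IsOpenImmersion.lift_fac _ _ _
  have : IsClosedImmersion (s₀ ≫ O.ι) := by rw [hs₀]; infer_instance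
  have : IsClosedImmersion s₀ := IsClosedImmersion.of_comp s₀ O.ι
  have : Surjective s₀ := ⟨fun y => by
    obtain ⟨w, hw⟩ := y.2
    exact ⟨w, O.ι.injective (by show (s₀ ≫ O.ι) w = O.ι y; rw [hs₀]; exact hw)⟩⟩
  have := isReduced_of_normal (Groth.Agent.FEtFF.isNormalScheme_open hW'n O)
  have : IsIso s₀ := isIso_of_isClosedImmersion_of_surjective s₀
  have : IsOpenImmersion s := by rw [← hs₀]; infer_instance
  have : Smooth (W.ι ≫ g) := by
    rw [← pullback.lift_fst (W.ι ≫ g) (𝟙 W.toScheme) (by rw [Category.assoc, hg, Category.id_comp])]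
    exact inferInstanceAs (Smooth (s ≫ p))
  have hflat : ((W.ι ≫ g).stalkMap ⟨z, hzW⟩).hom.Flat := Flat.stalkMap _ _
  obtain ⟨V, hxV, hV⟩ := Groth.Agent.S2805.result π (W.ι ≫ pZ) (W.ι ≫ g) (by rw [Category.assoc, hg])
    ⟨z, hzW⟩ hflat ⟨⊤, trivial, inferInstance⟩
  have h1 : V.ι ⁻¹ᵁ π.smoothLocus = ⊤ := by
    rw [Scheme.Hom.preimage_smoothLocus_eq]
    exact Scheme.Hom.smoothLocus_eq_top _
  exact h1.ge (Set.mem_univ (⟨g z, hxV⟩ : V.toScheme))

end Groth.Agent.NeronLib
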