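import Mathlib
import Groth.Agent.EGA41Lib.FieldSeparableSmooth

/-!
# Points with values in a separable closure

A nonzero element of a geometrically reduced algebra of finite type over a field `k` does not vanish
at some `ks`-point, `ks` a separably closed extension of `k`.
-/

set_option autoImplicit false

universe u

open TensorProduct

namespace Groth.Agent.NeronLib.SepPoints

/-- A separably closed field is infinite. -/
theorem infinite_of_isSepClosed (K : Type u) [Field K] [IsSepClosed K] : Infinite K := by
  by_contra hc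
  have : Finite K := not_infinite_iff_finite.mp hc
  have : IsAlgClosed K := IsAlgClosed.of_exists_root _ fun p _ hp =>
    IsSepClosed.exists_root p hp.degree_pos.ne' (PerfectField.separable_of_irreducible hp)
  exact hc inferInstance

/-- Over a separably closed field every nonzero étale algebra has a point. -/
theorem nonempty_algHom_of_etale (K A : Type u) [Field K] [IsSepClosed K] [CommRing A] [Algebra K A]
    [Algebra.Etale K A] [Nontrivial A] : Nonempty (A →ₐ[K] K) := by
  obtain ⟨p⟩ : Nonempty (PrimeSpectrum A) := inferInstance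
  exact ⟨(Pi.evalAlgHom K (fun _ => K) p).comp (Algebra.FormallyEtale.equivPiOfIsSepClosed K A).toAlgHom⟩

/-- A standard smooth algebra with a nonzero localisation at `f` has a `ks`-point where `f` is nonzero. -/
theorem exists_algHom_ne_zero_of_isStandardSmooth (k ks C : Type u) [Field k] [Field ks] [IsSepClosed ks]
    [Algebra k ks] [CommRing C] [Algebra k C] [Algebra.IsStandardSmooth k C] (f : C)
    (hf : ¬ IsNilpotent f) : ∃ φ : C →ₐ[k] ks, φ f ≠ 0 := by
  have hstd : (algebraMap k C).IsStandardSmooth := by
    rw [RingHom.isStandardSmooth_algebraMap]; infer_instance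
  obtain ⟨n, g, hg, hge⟩ := hstd.exists_etale_mvPolynomial
  let P := MvPolynomial (Fin n) k
  let : Algebra P C := g.toAlgebra
  have : IsScalarTower k P C := .of_algebraMap_eq' (by rw [← hg]; rfl)
  have : Algebra.Etale P C := hge
  let C' := Localization.Away f
  have : Nontrivial C' := by
    by_contra hc
    rw [not_nontrivial_iff_subsingleton] at hc
    obtain ⟨⟨_, j, rfl⟩, hj⟩ :=
      (IsLocalization.map_eq_zero_iff (Submonoid.powers f) C' (1 : C)).mp (Subsingleton.elim _ _)
    exact hf ⟨j, by simpa using hj⟩
  have : Algebra.Etale C C' := Algebra.Etale.of_isLocalizationAway f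
  have : Algebra.Etale P C' := Algebra.Etale.comp P C C'
  have hopen : IsOpen (Set.range (PrimeSpectrum.comap (algebraMap P C'))) :=
    (PrimeSpectrum.isOpenMap_comap_of_hasGoingDown_of_finitePresentation (R := P) (S := C')).isOpen_range
  obtain ⟨p₀⟩ : Nonempty (PrimeSpectrum C') := inferInstance
  obtain ⟨_, ⟨_, ⟨h, rfl⟩, rfl⟩, hph, hsub⟩ :=
    PrimeSpectrum.isBasis_basic_opens.exists_subset_of_mem_open
      (Set.mem_range_self (f := PrimeSpectrum.comap (algebraMap P C')) p₀) hopen
  have := infinite_of_isSepClosed ks
  have hh : h ≠ 0 := by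
    rintro rfl
    exact hph (Ideal.zero_mem _)
  obtain ⟨a, ha⟩ : ∃ a : Fin n → ks, MvPolynomial.aeval a h ≠ 0 := by
    by_contra hc
    simp only [not_exists, not_not] at hc
    refine hh (MvPolynomial.map_injective _ (algebraMap k ks).injective ?_)
    rw [map_zero]
    refine MvPolynomial.funext fun a => ?_
    rw [MvPolynomial.eval_map, ← MvPolynomial.aeval_def, hc, map_zero]
  let ev : P →ₐ[k] ks := MvPolynomial.aeval a
  let : Algebra P ks := ev.toRingHom.toAlgebra
  have : IsScalarTower k P ks := .of_algebraMap_eq' ev.comp_algebraMap.symm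
  let q : PrimeSpectrum P := ⟨RingHom.ker ev.toRingHom, RingHom.ker_isPrime _⟩
  have : q.asIdeal.IsPrime := q.isPrime
  have hq : q ∈ Set.range (PrimeSpectrum.comap (algebraMap P C')) := hsub (show h ∉ q.asIdeal from ha)
  have : Nontrivial (ks ⊗[P] C') := by
    have hN := (PrimeSpectrum.nontrivial_iff_mem_rangeComap q).mpr hq
    let : Algebra q.asIdeal.ResidueField ks :=
      (Ideal.ResidueField.lift q.asIdeal ev.toRingHom le_rfl
        (fun x hx => isUnit_iff_ne_zero.mpr hx)).toAlgebra
    have : IsScalarTower P q.asIdeal.ResidueField ks :=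
      .of_algebraMap_eq fun x => (Ideal.ResidueField.lift_algebraMap ..).symm
    have := Module.FaithfullyFlat.nontrivial_tensorProduct_iff_right q.asIdeal.ResidueField ks
      (N := q.asIdeal.ResidueField ⊗[P] C') |>.mpr hN
    exact (AlgebraTensorModule.cancelBaseChange P q.asIdeal.ResidueField ks ks C').toEquiv.nontrivial_congr.mp
      this
  obtain ⟨φ⟩ := nonempty_algHom_of_etale ks (ks ⊗[P] C')
  let ψ : C' →ₐ[k] ks :=
    ((φ.restrictScalars k).comp
      ((Algebra.TensorProduct.includeRight : C' →ₐ[P] ks ⊗[P] C').restrictScalars k))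
  refine ⟨ψ.comp (IsScalarTower.toAlgHom k C C'), ?_⟩
  exact ((IsLocalization.Away.algebraMap_isUnit (S := C') f).map ψ).ne_zero

/-- A nonzero element of a finitely presented geometrically reduced algebra does not vanish at some
point with values in a separably closed extension. -/
theorem exists_algHom_ne_zero (k ks A : Type u) [Field k] [Field ks] [IsSepClosed ks] [Algebra k ks]
    [CommRing A] [Algebra k A] [Algebra.FiniteType k A] [Algebra.IsGeometricallyReduced k A] (f : A)
    (hf : f ≠ 0) : ∃ φ : A →ₐ[k] ks, φ f ≠ 0 := by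
  have : IsReduced A := Algebra.isReduced_of_isGeometricallyReduced (k := k)
  have : Algebra.FinitePresentation k A := Algebra.FinitePresentation.of_finiteType.mp ‹_›
  obtain ⟨p, hp, hfp⟩ : ∃ p ∈ minimalPrimes A, f ∉ p := by
    by_contra hc
    simp only [not_exists, not_and, not_not] at hc
    refine hf (IsNilpotent.eq_zero ?_)
    rw [← mem_nilradical, nilradical_eq_sInf, Ideal.mem_sInf]
    intro q hq
    haveI : q.IsPrime := hq
    obtain ⟨p, hp, hpq⟩ := Ideal.exists_minimalPrimes_le (I := (⊥ : Ideal A)) (J := q) bot_le
    exact hpq (hc p hp)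
  have : p.IsPrime := hp.1.1
  let L := Localization.AtPrime p
  have : IsReduced L := isReduced_localizationPreserves p.primeCompl L inferInstance
  have : Ring.KrullDimLE 0 L := .of_isLocalization _ hp _
  have hfield : IsField L := Ring.KrullDimLE.isField_of_isReduced
  let : Field L := hfield.toField
  have : Algebra.IsGeometricallyReduced k L := by
    rw [Algebra.isGeometricallyReduced_field_iff]
    let : Algebra (AlgebraicClosure k ⊗[k] A) (AlgebraicClosure k ⊗[k] L) :=
      (Algebra.TensorProduct.map (AlgHom.id (AlgebraicClosure k) (AlgebraicClosure k))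
        (IsScalarTower.toAlgHom k A L)).toAlgebra
    have : IsScalarTower (AlgebraicClosure k) (AlgebraicClosure k ⊗[k] A) (AlgebraicClosure k ⊗[k] L) :=
      .of_algebraMap_eq fun x => by simp [RingHom.algebraMap_toAlgebra]
    have hloc := IsLocalization.tensorProduct_tensorProduct_right k (AlgebraicClosure k) p.primeCompl L
      (by ext x; simp [RingHom.algebraMap_toAlgebra])
    have hA : IsReduced (AlgebraicClosure k ⊗[k] A) := (Algebra.isGeometricallyReduced_field_iff k A).mp ‹_›
    exact isReduced_localizationPreserves (p.primeCompl.map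
      (Algebra.TensorProduct.includeRight (R := k) (A := AlgebraicClosure k))) (AlgebraicClosure k ⊗[k] L) hA
  have : Algebra.IsSmoothAt k p :=
    (EGA41Lib.formallySmooth_iff_isGeometricallyReduced_field k L).mpr this
  obtain ⟨g, hgp, hg⟩ := Algebra.IsSmoothAt.exists_notMem_isStandardSmooth k p
  have hnil : ¬ IsNilpotent (algebraMap A (Localization.Away g) f) := by
    rintro ⟨m, hm⟩
    rw [← map_pow, IsLocalization.map_eq_zero_iff (Submonoid.powers g)] at hm
    obtain ⟨⟨_, j, rfl⟩, hj⟩ := hm
    have := hj ▸ p.zero_mem
    rcases ‹p.IsPrime›.mem_or_mem this with h | h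
    · exact hgp (‹p.IsPrime›.mem_of_pow_mem _ h)
    · exact hfp (‹p.IsPrime›.mem_of_pow_mem _ h)
  obtain ⟨φ, hφ⟩ :=
    exists_algHom_ne_zero_of_isStandardSmooth k ks (Localization.Away g) _ hnil
  exact ⟨φ.comp (IsScalarTower.toAlgHom k A _), hφ⟩

end Groth.Agent.NeronLib.SepPoints
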