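import Groth.Prelude.Def_CohB1
import Groth.Agent.ProjLib.ProjSpace
import Groth.Agent.ProjLib.AwayDehom
import Mathlib.AlgebraicGeometry.AffineSpace
import Mathlib.AlgebraicGeometry.Morphisms.Smooth
import Mathlib.AlgebraicGeometry.ProjectiveSpectrum.Proper
import Mathlib.AlgebraicGeometry.Geometrically.Irreducible
import Mathlib.AlgebraicGeometry.Geometrically.Reduced

/-!
# The projective line over a field
-/

universe u

set_option autoImplicit false

open AlgebraicGeometry CategoryTheory Limits TopologicalSpace MvPolynomial HomogeneousLocalization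

namespace Groth.Agent.NeronLib

variable (K : Type u) [Field K]

/-- `K[X₀,X₁]/(Xᵢ - 1) ≅ K[t]`. -/
noncomputable def dehomAlgEquiv (i : Fin (1 + 1)) :
    (MvPolynomial (Fin (1 + 1)) K ⧸ Ideal.span {(X i : MvPolynomial (Fin (1 + 1)) K) - 1}) ≃ₐ[K]
      MvPolynomial PUnit.{u + 1} K :=
  AlgEquiv.ofAlgHom
    (Ideal.Quotient.liftₐ _ (aeval fun j => if j = i then 1 else X PUnit.unit) (by
      intro a ha
      obtain ⟨c, rfl⟩ := Ideal.mem_span_singleton.mp ha
      simp))
    (aeval fun _ => Ideal.Quotient.mk _ (X i.rev))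
    (by
      refine MvPolynomial.algHom_ext fun j => ?_
      have h : i.rev ≠ i := by revert i; decide
      simp [h])
    (by
      refine Ideal.Quotient.algHom_ext _ (MvPolynomial.algHom_ext fun j => ?_)
      by_cases h : j = i
      · subst h
        simp only [AlgHom.comp_apply, AlgHom.id_apply, Ideal.Quotient.mkₐ_eq_mk, Ideal.Quotient.liftₐ_apply,
          Ideal.Quotient.lift_mk, aeval_X, RingHom.coe_coe, if_pos, map_one]
        exact (Ideal.Quotient.eq.mpr (Ideal.mem_span_singleton_self _)).symm.trans rfl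
      · have h' : j = i.rev := by revert i j; decide
        subst h'
        simp [h])

/-- The chart `K[t] ≅ K[X₀,X₁]_(Xᵢ)`. -/
noncomputable def chartEquiv (i : Fin (1 + 1)) :
    Away (CohB1.polyGrading 1 K) (X i : MvPolynomial (Fin (1 + 1)) K) ≃+* MvPolynomial PUnit.{u + 1} K :=
  (ProjLib.awayEquivQuotient (ProjLib.X_mem_polyGrading 1 K i)).trans (dehomAlgEquiv K i).toRingEquiv

theorem chartEquiv_toAway (i : Fin (1 + 1)) (r : K) :
    chartEquiv K i (ProjLib.toAway 1 K (X i) r) = C r := by
  show dehomAlgEquiv K i (ProjLib.evalOne (algebraMap _ _ (ProjLib.toAway 1 K (X i) r))) = _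
  rw [HomogeneousLocalization.algebraMap_apply, ProjLib.val_toAway]
  have : ProjLib.evalOne (f := (X i : MvPolynomial (Fin (1 + 1)) K)) (algebraMap _ (Localization.Away (X i : MvPolynomial (Fin (1 + 1)) K)) (C r)) =
      Ideal.Quotient.mk _ (C r) := IsLocalization.Away.lift_eq _ _ _
  rw [this]
  exact (dehomAlgEquiv K i).commutes r

/-- The structure map of the affine line. -/
noncomputable abbrev lineMap : Spec (CommRingCat.of (MvPolynomial PUnit.{u + 1} K)) ⟶ Spec (CommRingCat.of K) :=
  Spec.map (CommRingCat.ofHom C)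

/-- The charts of the projective line. -/
noncomputable def chart (i : Fin (1 + 1)) :
    Spec (CommRingCat.of (MvPolynomial PUnit.{u + 1} K)) ⟶ CohB1.ProjSpace 1 K :=
  Spec.map (CommRingCat.ofHom (chartEquiv K i).toRingHom) ≫
    Proj.awayι (CohB1.polyGrading 1 K) (X i) (ProjLib.X_mem_polyGrading 1 K i) one_pos

set_option backward.isDefEq.respectTransparency.types false in
instance (i : Fin (1 + 1)) : IsOpenImmersion (chart K i) := by
  have : IsIso (CommRingCat.ofHom (chartEquiv K i).toRingHom) :=
    (ConcreteCategory.isIso_iff_bijective _).mpr (chartEquiv K i).bijective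
  exact @IsOpenImmersion.comp _ _ _ (Spec.map (CommRingCat.ofHom (chartEquiv K i).toRingHom))
    (Proj.awayι (CohB1.polyGrading 1 K) (X i) (ProjLib.X_mem_polyGrading 1 K i) one_pos) inferInstance inferInstance

theorem chart_toSpec (i : Fin (1 + 1)) : chart K i ≫ CohB1.ProjSpace.toSpec 1 K = lineMap K := by
  refine (Category.assoc _ _ _).trans ?_
  refine (congrArg (_ ≫ ·) (ProjLib.awayι_toSpec 1 K (ProjLib.X_mem_polyGrading 1 K i) one_pos)).trans ?_
  rw [← Spec.map_comp]
  congr 1
  exact CommRingCat.hom_ext (RingHom.ext fun r => chartEquiv_toAway K i r)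

theorem exists_chart (y : CohB1.ProjSpace 1 K) : ∃ i, y ∈ Set.range (chart K i) := by
  have h : y ∈ ⨆ i, Proj.basicOpen (CohB1.polyGrading 1 K) (X i) := (ProjLib.iSup_basicOpen_X 1 K).symm ▸ trivial
  obtain ⟨i, hi⟩ := Opens.mem_iSup.1 h
  rw [← Proj.opensRange_awayι (CohB1.polyGrading 1 K) (X i) (ProjLib.X_mem_polyGrading 1 K i) one_pos] at hi
  obtain ⟨a, rfl⟩ := hi
  have : IsIso (CommRingCat.ofHom (chartEquiv K i).toRingHom) :=
    (ConcreteCategory.isIso_iff_bijective _).mpr (chartEquiv K i).bijective
  exact ⟨i, inv (Spec.map (CommRingCat.ofHom (chartEquiv K i).toRingHom)) a, by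
    rw [chart, ← Scheme.Hom.comp_apply, IsIso.inv_hom_id_assoc]; rfl⟩

/-- The cover of the projective line by two affine lines. -/
noncomputable def chartCover : (CohB1.ProjSpace 1 K).OpenCover :=
  Scheme.Cover.mkOfCovers (Fin (1 + 1)) (fun _ => Spec (CommRingCat.of (MvPolynomial PUnit.{u + 1} K))) (chart K)
    (fun y => by obtain ⟨i, a, ha⟩ := exists_chart K y; exact ⟨i, a, ha⟩) (fun _ => inferInstance)

instance smooth_specC (n : Type u) [Finite n] :
    Smooth (Spec.map (CommRingCat.ofHom (C : K →+* MvPolynomial n K))) := by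
  rw [HasRingHomProperty.Spec_iff (P := @Smooth)]
  show (algebraMap K (MvPolynomial n K)).Smooth
  rw [RingHom.smooth_algebraMap]
  exact ⟨inferInstance, inferInstance⟩

instance : GeometricallyIrreducible (lineMap K) := by
  have h : GeometricallyIrreducible ((AffineSpace.SpecIso PUnit.{u + 1} (CommRingCat.of K)).inv ≫
      𝔸(PUnit.{u + 1}; Spec (CommRingCat.of K)) ↘ Spec (CommRingCat.of K)) :=
    (MorphismProperty.cancel_left_of_respectsIso @GeometricallyIrreducible _ _).2 inferInstance
  rw [AffineSpace.SpecIso_inv_over] at h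
  exact h

instance : GeometricallyReduced (lineMap K) := by
  have h : GeometricallyReduced ((AffineSpace.SpecIso PUnit.{u + 1} (CommRingCat.of K)).inv ≫
      𝔸(PUnit.{u + 1}; Spec (CommRingCat.of K)) ↘ Spec (CommRingCat.of K)) :=
    (MorphismProperty.cancel_left_of_respectsIso @GeometricallyReduced _ _).2 inferInstance
  rw [AffineSpace.SpecIso_inv_over] at h
  exact h

instance smooth_projLine : Smooth (CohB1.ProjSpace.toSpec 1 K) :=
  IsZariskiLocalAtSource.of_openCover (P := @Smooth) (chartCover K) fun i => by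
    show Smooth (chart K i ≫ _)
    rw [chart_toSpec]
    infer_instance

set_option backward.isDefEq.respectTransparency.types false in
instance isProper_projLine : IsProper (CohB1.ProjSpace.toSpec 1 K) := by
  have : IsScalarTower K ((CohB1.polyGrading 1 K) 0) (MvPolynomial (Fin (1 + 1)) K) :=
    IsScalarTower.of_algebraMap_eq (R := K) (S := (CohB1.polyGrading 1 K) 0) (A := MvPolynomial (Fin (1 + 1)) K) fun r => rfl
  have hft : Algebra.FiniteType ((CohB1.polyGrading 1 K) 0) (MvPolynomial (Fin (1 + 1)) K) :=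
    Algebra.FiniteType.of_restrictScalars_finiteType K ((CohB1.polyGrading 1 K) 0) _
  have hbij : Function.Bijective (algebraMap K ((CohB1.polyGrading 1 K) 0)) := by
    refine ⟨fun a b h => MvPolynomial.C_injective _ K (congrArg Subtype.val h),
      fun p => ⟨MvPolynomial.coeff 0 p.1, Subtype.ext ?_⟩⟩
    show MvPolynomial.C (MvPolynomial.coeff 0 p.1) = p.1
    exact (MvPolynomial.totalDegree_eq_zero_iff_eq_C.mp
      (((MvPolynomial.totalDegree_zero_iff_isHomogeneous _).2 ((MvPolynomial.mem_homogeneousSubmodule 0 p.1).mp p.2)))).symm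
  have : IsIso (CommRingCat.ofHom (algebraMap K ((CohB1.polyGrading 1 K) 0))) :=
    (ConcreteCategory.isIso_iff_bijective _).mpr hbij
  show IsProper (Proj.toSpecZero (CohB1.polyGrading 1 K) ≫ Spec.map (CommRingCat.ofHom (algebraMap K ((CohB1.polyGrading 1 K) 0))))
  infer_instance

theorem chart_meet : (Set.range (chart K 0) ∩ Set.range (chart K 1)).Nonempty := by
  have hX : ∀ i, (X i : MvPolynomial (Fin (1 + 1)) K) ∈ CohB1.polyGrading 1 K 1 := ProjLib.X_mem_polyGrading 1 K
  let η : ProjectiveSpectrum (CohB1.polyGrading 1 K) :=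
    { asHomogeneousIdeal := ⊥
      isPrime := by rw [HomogeneousIdeal.toIdeal_bot]; exact Ideal.isPrime_bot
      not_irrelevant_le := fun h => MvPolynomial.X_ne_zero (R := K) (0 : Fin (1 + 1)) (by
        have := h (HomogeneousIdeal.mem_irrelevant_of_mem (CohB1.polyGrading 1 K) one_pos (hX 0))
        simpa [HomogeneousIdeal.toIdeal_bot, ← HomogeneousIdeal.mem_iff] using this) }
  have hη : ∀ i, η ∈ Set.range (chart K i) := fun i => by
    have h1 : η ∈ Proj.basicOpen (CohB1.polyGrading 1 K) (X i) := fun h => MvPolynomial.X_ne_zero (R := K) i h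
    rw [← Proj.opensRange_awayι (CohB1.polyGrading 1 K) (X i) (hX i) one_pos] at h1
    obtain ⟨a, ha⟩ := h1
    have : IsIso (CommRingCat.ofHom (chartEquiv K i).toRingHom) :=
      (ConcreteCategory.isIso_iff_bijective _).mpr (chartEquiv K i).bijective
    exact ⟨inv (Spec.map (CommRingCat.ofHom (chartEquiv K i).toRingHom)) a, by
      rw [chart, ← Scheme.Hom.comp_apply, IsIso.inv_hom_id_assoc]; exact ha⟩
  exact ⟨η, hη 0, hη 1⟩

theorem irreducibleSpace_of_two_opens {X : Type*} [TopologicalSpace X] {A B : Set X} (hA : IsOpen A) (hB : IsOpen B)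
    (hA' : IsIrreducible A) (hB' : IsIrreducible B) (h : (A ∩ B).Nonempty) (hAB : A ∪ B = Set.univ) :
    IrreducibleSpace X := by
  have hcl : closure A = Set.univ := by
    refine Set.univ_subset_iff.1 (hAB ▸ Set.union_subset subset_closure ?_)
    exact (subset_closure_inter_of_isPreirreducible_of_isOpen hB'.2 hA (by rwa [Set.inter_comm])).trans
      (closure_mono Set.inter_subset_right)
  exact { toPreirreducibleSpace := ⟨hcl ▸ hA'.2.closure⟩, toNonempty := ⟨h.choose⟩ }

instance geometricallyIrreducible_projLine : GeometricallyIrreducible (CohB1.ProjSpace.toSpec 1 K) := by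
  rw [geometricallyIrreducible_iff]
  intro L _ t Y a b hP
  have key : ∀ i, IsIrreducible (a ⁻¹' Set.range (chart K i)) := by
    intro i
    have hP' : IsPullback (pullback.snd a (chart K i)) (pullback.fst a (chart K i) ≫ b) (lineMap K) t := by
      rw [← chart_toSpec K i]
      exact ((IsPullback.of_hasPullback a (chart K i)).flip.paste_vert hP).of_iso (Iso.refl _) (Iso.refl _) (Iso.refl _)
        (Iso.refl _) (by simp) (by simp) (by simp) (by simp)
    have : IrreducibleSpace ↑(pullback a (chart K i)) :=
      GeometricallyIrreducible.geometrically_irreducibleSpace (f := lineMap K) _ _ _ hP'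
    rw [← Scheme.Pullback.range_fst]
    have h := (IrreducibleSpace.isIrreducible_univ ↑(pullback a (chart K i))).image _
      (pullback.fst a (chart K i)).continuous.continuousOn
    rwa [Set.image_univ] at h
  have : Surjective a := by
    have : Surjective t := ⟨fun y => ⟨default, Subsingleton.elim _ _⟩⟩
    exact MorphismProperty.of_isPullback hP.flip this
  refine irreducibleSpace_of_two_opens ((chart K 0).isOpenEmbedding.isOpen_range.preimage a.continuous)
    ((chart K 1).isOpenEmbedding.isOpen_range.preimage a.continuous) (key 0) (key 1) ?_ ?_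
  · obtain ⟨y, hy⟩ := chart_meet K
    obtain ⟨z, rfl⟩ := a.surjective y
    exact ⟨z, hy⟩
  · refine Set.eq_univ_of_forall fun z => ?_
    obtain ⟨i, hi⟩ := exists_chart K (a z)
    fin_cases i
    exacts [Or.inl hi, Or.inr hi]

end Groth.Agent.NeronLib
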