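import Groth.Agent.CAlgH.RegularSmooth
import Groth.Agent.CAlgH3.Factorial
import Mathlib.AlgebraicGeometry.Morphisms.Smooth
import Mathlib.AlgebraicGeometry.Properties
import Mathlib.RingTheory.RegularLocalRing.Defs

/-!
# Regularity of schemes smooth over a regular base
-/

universe u

set_option autoImplicit false

open AlgebraicGeometry CategoryTheory Limits TopologicalSpace

namespace Groth.Agent.NeronLib

/-- The stalks of a scheme smooth over a regular affine scheme are regular. -/
theorem isRegularLocalRing_stalk_of_smooth {R : Type u} [CommRing R] [IsRegularRing R] {X : Scheme.{u}}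
    (f : X ⟶ Spec (CommRingCat.of R)) [Smooth f] (x : X) : IsRegularLocalRing (X.presheaf.stalk x) := by
  obtain ⟨V, hV, hxV, -⟩ := exists_isAffineOpen_mem_and_subset (x := x) (U := ⊤) trivial
  let φ : R →+* Γ(X, V) := (f.appLE ⊤ V le_top).hom.comp (Scheme.ΓSpecIso (CommRingCat.of R)).inv.hom
  have h1 : (f.appLE ⊤ V le_top).hom.Smooth := HasRingHomProperty.appLE @Smooth f ‹_› ⟨⊤, isAffineOpen_top _⟩ ⟨V, hV⟩ le_top
  have h2 : φ.Smooth := RingHom.Smooth.respectsIso.2 _ (Scheme.ΓSpecIso (CommRingCat.of R)).symm.commRingCatIsoToRingEquiv h1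
  algebraize [φ]
  have : Algebra.Smooth R Γ(X, V) := h2.toAlgebra
  have := CAlgH.isRegularRing_of_smooth R Γ(X, V)
  have := hV.isLocalization_stalk ⟨x, hxV⟩
  letI := TopCat.Presheaf.algebra_section_stalk X.presheaf (⟨x, hxV⟩ : V)
  exact IsRegularLocalRing.of_ringEquiv (R := Localization.AtPrime (hV.primeIdealOf ⟨x, hxV⟩).asIdeal)
    (IsLocalization.algEquiv (hV.primeIdealOf ⟨x, hxV⟩).asIdeal.primeCompl _ (X.presheaf.stalk x)).toRingEquiv

/-- Regular schemes are reduced. -/
theorem isReduced_of_regular {X : Scheme.{u}} (h : ∀ x : X, IsRegularLocalRing (X.presheaf.stalk x)) :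
    IsReduced X := by
  have : ∀ x : X, _root_.IsReduced (X.presheaf.stalk x) := fun x => by
    have := h x
    have := CAlgH3.isDomain_of_isRegularLocalRing (X.presheaf.stalk x)
    infer_instance
  exact isReduced_of_isReduced_stalk X

end Groth.Agent.NeronLib
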