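import Groth.Prelude.Def_Neron
import Mathlib.AlgebraicGeometry.Morphisms.Flat
import Mathlib.AlgebraicGeometry.Morphisms.Separated
import Mathlib.AlgebraicGeometry.Morphisms.ClosedImmersion
import Mathlib.RingTheory.Flat.Basic
import Mathlib.RingTheory.TensorProduct.Maps

/-!
# Restriction of morphisms along a base change, Néron mapping properties
-/

universe u

set_option autoImplicit false

open AlgebraicGeometry CategoryTheory Limits

namespace Groth.Agent.NeronLib

variable {S T : Scheme.{u}} (j : T ⟶ S)

lemma pullback_map_fst {Z N : Over S} (a : Z ⟶ N) :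
    ((Over.pullback j).map a).left ≫ pullback.fst N.hom j = pullback.fst Z.hom j ≫ a.left := by
  exact pullback.lift_fst _ _ _

lemma map_eq_map_iff {Z N : Over S} (a b : Z ⟶ N) :
    (Over.pullback j).map a = (Over.pullback j).map b ↔
      pullback.fst Z.hom j ≫ a.left = pullback.fst Z.hom j ≫ b.left := by
  refine ⟨fun h => ?_, fun h => Over.OverMorphism.ext (pullback.hom_ext ?_ ?_)⟩
  · rw [← pullback_map_fst, ← pullback_map_fst, h]
  · rw [pullback_map_fst, pullback_map_fst, h]
  · exact (Over.w ((Over.pullback j).map a)).trans (Over.w ((Over.pullback j).map b)).symm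

/-- Injectivity of restriction, on any pullback square. -/
lemma injective_map_iff {Z N : Over S} {P : Scheme.{u}} {p : P ⟶ Z.left} {q : P ⟶ T}
    (hP : IsPullback p q Z.hom j) :
    Function.Injective (fun a : Z ⟶ N => (Over.pullback j).map a) ↔
      ∀ a b : Z ⟶ N, p ≫ a.left = p ≫ b.left → a = b := by
  have he : ∀ a b : Z ⟶ N, p ≫ a.left = p ≫ b.left ↔
      pullback.fst Z.hom j ≫ a.left = pullback.fst Z.hom j ≫ b.left := fun a b => by
    rw [← hP.isoPullback_hom_fst, Category.assoc, Category.assoc, cancel_epi]
  refine ⟨fun h a b e => h ((map_eq_map_iff j a b).2 ((he a b).1 e)),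
    fun h a b e => h a b ((he a b).2 ((map_eq_map_iff j a b).1 e))⟩

/-- Bijectivity of restriction, on any pullback square. -/
lemma bijective_map_iff {Z N : Over S} {P : Scheme.{u}} {p : P ⟶ Z.left} {q : P ⟶ T}
    (hP : IsPullback p q Z.hom j) :
    Function.Bijective (fun a : Z ⟶ N => (Over.pullback j).map a) ↔
      ∀ h : P ⟶ N.left, h ≫ N.hom = p ≫ Z.hom → ∃! a : Z ⟶ N, p ≫ a.left = h := by
  refine ⟨fun hb h hh => ?_, fun hu => ⟨(injective_map_iff j hP).2 fun a b e => ?_, fun g => ?_⟩⟩
  · have hw : (hP.isoPullback.inv ≫ h) ≫ N.hom = pullback.snd Z.hom j ≫ j := by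
      rw [Category.assoc, hh, IsPullback.isoPullback_inv_fst_assoc, pullback.condition]
    obtain ⟨a, ha⟩ := hb.2 (Over.homMk (pullback.lift (hP.isoPullback.inv ≫ h) (pullback.snd Z.hom j) hw)
      (pullback.lift_snd _ _ _) : (Over.pullback j).obj Z ⟶ (Over.pullback j).obj N)
    refine ⟨a, ?_, fun b hb' => ((injective_map_iff j hP).1 hb.1) _ _ ?_⟩
    · show p ≫ a.left = h
      have := congrArg (fun t => hP.isoPullback.hom ≫ t.left ≫ pullback.fst N.hom j) ha
      simp only [pullback_map_fst, Over.homMk_left] at this
      rw [pullback.lift_fst, IsPullback.isoPullback_hom_fst_assoc, Iso.hom_inv_id_assoc] at this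
      exact this
    · rw [hb']
      have := congrArg (fun t => hP.isoPullback.hom ≫ t.left ≫ pullback.fst N.hom j) ha
      simp only [pullback_map_fst, Over.homMk_left] at this
      rw [pullback.lift_fst, IsPullback.isoPullback_hom_fst_assoc, Iso.hom_inv_id_assoc] at this
      exact this.symm
  · obtain ⟨c, -, hc⟩ := hu (p ≫ a.left) (by rw [Category.assoc, Over.w])
    exact (hc a rfl).trans (hc b e.symm).symm
  · have hw : (hP.isoPullback.hom ≫ g.left ≫ pullback.fst N.hom j) ≫ N.hom = p ≫ Z.hom := by
      have h1 : g.left ≫ pullback.snd N.hom j = pullback.snd Z.hom j := Over.w g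
      rw [Category.assoc, Category.assoc, pullback.condition, reassoc_of% h1,
        IsPullback.isoPullback_hom_snd_assoc, hP.w]
    obtain ⟨a, ha, -⟩ := hu _ hw
    refine ⟨a, Over.OverMorphism.ext (pullback.hom_ext ?_ ?_)⟩
    · rw [pullback_map_fst]
      have := congrArg (fun t => hP.isoPullback.inv ≫ t) ha
      simp only [Iso.inv_hom_id_assoc, IsPullback.isoPullback_inv_fst_assoc] at this
      exact this
    · exact (Over.w ((Over.pullback j).map a)).trans (Over.w g).symm

/-- Two morphisms from an affine scheme to a separated scheme which agree after composition with a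
schematically dominant morphism of affine schemes are equal. -/
lemma eq_of_specMap_comp_eq {B C : CommRingCat.{u}} (φ : B ⟶ C) (hφ : Function.Injective φ)
    {Y S : Scheme.{u}} (q : Y ⟶ S) [IsSeparated q] (u v : Spec B ⟶ Y) (huv : u ≫ q = v ≫ q)
    (h : Spec.map φ ≫ u = Spec.map φ ≫ v) : u = v := by
  let w : Spec B ⟶ pullback q q := pullback.lift u v huv
  let e := pullback.fst w (pullback.diagonal q)
  have : IsClosedImmersion e :=
    (IsClosedImmersion.isStableUnderBaseChange).of_isPullback (IsPullback.of_hasPullback w (pullback.diagonal q)).flip inferInstance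
  let g : Spec C ⟶ pullback w (pullback.diagonal q) :=
    pullback.lift (Spec.map φ) (Spec.map φ ≫ u) (pullback.hom_ext (by simp only [w, Category.assoc, pullback.lift_fst, pullback.diagonal_fst, Category.comp_id]) (by simp only [w, Category.assoc, pullback.lift_snd, pullback.diagonal_snd, Category.comp_id, h]))
  have hg : g ≫ e = Spec.map φ := pullback.lift_fst _ _ _
  have hinj : Function.Injective e.appTop := by
    intro a b hab
    have h2 : (Spec.map φ).appTop a = (Spec.map φ).appTop b := by
      rw [← hg, Scheme.Hom.comp_appTop, CommRingCat.comp_apply, CommRingCat.comp_apply, hab]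
    have hn := Scheme.ΓSpecIso_naturality φ
    apply (ConcreteCategory.bijective_of_isIso (Scheme.ΓSpecIso B).hom).1
    apply hφ
    rw [← CommRingCat.comp_apply, ← CommRingCat.comp_apply, ← hn, CommRingCat.comp_apply,
      CommRingCat.comp_apply, h2]
  have : IsIso e := IsClosedImmersion.isIso_of_injective_of_isAffine hinj
  have h3 : w = inv e ≫ pullback.snd w (pullback.diagonal q) ≫ pullback.diagonal q := by
    rw [IsIso.eq_inv_comp]
    exact pullback.condition
  have hu : u = w ≫ pullback.fst q q := (pullback.lift_fst _ _ _).symm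
  have hv : v = w ≫ pullback.snd q q := (pullback.lift_snd _ _ _).symm
  rw [hu, hv, h3]
  simp

lemma eq_of_fst_genPt_affine {R : Type u} [CommRing R] [IsDomain R] {B : CommRingCat.{u}} {Y S : Scheme.{u}}
    (p : Spec B ⟶ Spec (CommRingCat.of R)) (hp : Flat p) (q : Y ⟶ S) [IsSeparated q] (u v : Spec B ⟶ Y)
    (huv : u ≫ q = v ≫ q) (h : pullback.fst p (Neron.genPt R) ≫ u = pullback.fst p (Neron.genPt R) ≫ v) :
    u = v := by
  obtain ⟨φ, rfl⟩ : ∃ φ, Spec.map φ = p := ⟨_, Spec.map_preimage _⟩
  letI : Algebra R B := φ.hom.toAlgebra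
  haveI : Module.Flat R B := HasRingHomProperty.Spec_iff.mp hp
  refine eq_of_specMap_comp_eq
    (CommRingCat.ofHom (Algebra.TensorProduct.includeLeftRingHom (R := R) (A := B) (B := FractionRing R)))
    (Algebra.TensorProduct.includeLeft_injective (S := R) (IsFractionRing.injective R (FractionRing R))) q _ _
    huv ?_
  let ψ := CommRingCat.ofHom
    (Algebra.TensorProduct.includeRight (R := R) (A := B) (B := FractionRing R)).toRingHom
  have hw : Spec.map (CommRingCat.ofHom (Algebra.TensorProduct.includeLeftRingHom (R := R) (A := B) (B := FractionRing R))) ≫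
      Spec.map φ = Spec.map ψ ≫ Neron.genPt R := by
    rw [← Spec.map_comp, ← Spec.map_comp]
    congr 1
    ext x
    exact ((Algebra.TensorProduct.includeLeft (R := R) (S := R) (A := B) (B := FractionRing R)).commutes x).trans
      ((Algebra.TensorProduct.includeRight (R := R) (A := B) (B := FractionRing R)).commutes x).symm
  have := congrArg (fun t => pullback.lift _ _ hw ≫ t) h
  simpa only [pullback.lift_fst_assoc, Category.assoc] using this

/-- For a flat `R`-scheme, morphisms to separated schemes are determined by the generic fibre. -/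
lemma eq_of_fst_genPt {R : Type u} [CommRing R] [IsDomain R] {X Y S : Scheme.{u}}
    (f : X ⟶ Spec (CommRingCat.of R)) [Flat f] (q : Y ⟶ S) [IsSeparated q] (u v : X ⟶ Y)
    (huv : u ≫ q = v ≫ q) (h : pullback.fst f (Neron.genPt R) ≫ u = pullback.fst f (Neron.genPt R) ≫ v) :
    u = v := by
  refine X.affineCover.hom_ext _ _ fun i => ?_
  have h1 : IsOpenImmersion (X.affineCover.f i) := X.affineCover.map_prop i
  have h2 : Flat (X.affineCover.f i) := @Flat.instOfIsOpenImmersion _ _ _ h1
  refine eq_of_fst_genPt_affine (X.affineCover.f i ≫ f) (MorphismProperty.comp_mem _ _ f h2 ‹Flat f›) q _ _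
    ((Category.assoc _ _ _).trans ((congrArg _ huv).trans (Category.assoc _ _ _).symm)) ?_
  have hw : (pullback.fst (X.affineCover.f i ≫ f) (Neron.genPt R) ≫ X.affineCover.f i) ≫ f =
      pullback.snd _ _ ≫ Neron.genPt R := (Category.assoc _ _ _).trans pullback.condition
  have := congrArg (fun t => pullback.lift _ _ hw ≫ t) h
  simp only [pullback.lift_fst_assoc] at this
  exact (Category.assoc _ _ _).symm.trans (this.trans (Category.assoc _ _ _))

end Groth.Agent.NeronLib
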