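import Groth.Agent.NeronLib.CodimOne
import Groth.Agent.NeronLib.Restrict
import Mathlib.RingTheory.DedekindDomain.Dvr

/-!
# Extension of morphisms over Dedekind schemes
-/

universe u

set_option autoImplicit false

open AlgebraicGeometry CategoryTheory Limits TopologicalSpace

namespace Groth.Agent.NeronLib

theorem exists_codim_one_mem_fibre {X S : Scheme.{u}} [IsLocallyNoetherian X] (pX : X ⟶ S) (x : X)
    (hs : (IsLocalRing.maximalIdeal (S.presheaf.stalk (pX x))).IsPrincipal) (T : X.Opens) (hxT : x ∈ T) :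
    ∃ η ∈ T, pX η = pX x ∧ ringKrullDim (X.presheaf.stalk η) ≤ 1 := by
  obtain ⟨π, hπ⟩ := hs
  let ψ := pX.stalkMap x
  have hπ' : ψ π ∈ IsLocalRing.maximalIdeal (X.presheaf.stalk x) :=
    map_nonunit ψ.hom π (hπ.ge (Submodule.mem_span_singleton_self π))
  obtain ⟨p, hp, -⟩ := Ideal.exists_minimalPrimes_le
    (show Ideal.span {ψ π} ≤ IsLocalRing.maximalIdeal (X.presheaf.stalk x) from
      (Ideal.span_singleton_le_iff_mem _).2 hπ')
  have hpp : p.IsPrime := hp.1.1
  have hh : p.height ≤ 1 := Ideal.height_le_one_of_isPrincipal_of_mem_minimalPrimes _ p hp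
  let q' : Spec (X.presheaf.stalk x) := ⟨p, hpp⟩
  refine ⟨X.fromSpecStalk x q', ?_, ?_, ?_⟩
  · have h1 : X.fromSpecStalk x q' ⤳ x := (Scheme.range_fromSpecStalk (X := X) (x := x)).le ⟨q', rfl⟩
    exact h1.mem_open T.isOpen hxT
  · rw [← Scheme.Hom.comp_apply, ← Scheme.SpecMap_stalkMap_fromSpecStalk, Scheme.Hom.comp_apply]
    have : Spec.map (pX.stalkMap x) q' = IsLocalRing.closedPoint (S.presheaf.stalk (pX x)) := by
      refine PrimeSpectrum.ext ((IsLocalRing.eq_maximalIdeal ?_))
      refine Ideal.IsMaximal.mk ?_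
      refine ⟨(Spec.map (pX.stalkMap x) q').isPrime.ne_top, fun J hJ => ?_⟩
      refine eq_top_iff.2 fun a _ => ?_
      by_contra ha
      have hJ' : J ≤ IsLocalRing.maximalIdeal (S.presheaf.stalk (pX x)) :=
        IsLocalRing.le_maximalIdeal fun hJt => ha (hJt ▸ Submodule.mem_top)
      refine hJ.not_ge (hJ'.trans (hπ.le.trans ((Ideal.span_singleton_le_iff_mem _).2 ?_)))
      exact hp.1.2 (Ideal.mem_span_singleton_self _)
    rw [this]
    exact Scheme.fromSpecStalk_closedPoint
  · rw [ringKrullDim_stalk_eq_coheight]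
    exact WithBot.coe_le_coe.2 (((coheight_fromSpecStalk_le x q').trans_eq
      (idealHeight_eq_coheight (X.presheaf.stalk x) q').symm).trans hh)

theorem isPrincipal_maximalIdeal_stalk_spec (R : Type u) [CommRing R] [IsDedekindDomain R]
    (s : Spec (CommRingCat.of R)) : (IsLocalRing.maximalIdeal ((Spec (CommRingCat.of R)).presheaf.stalk s)).IsPrincipal := by
  let k : Algebra R ((Spec (CommRingCat.of R)).presheaf.stalk s) := StructureSheaf.stalkAlgebra R s
  have : IsLocalization.AtPrime ((Spec (CommRingCat.of R)).presheaf.stalk s) s.asIdeal :=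
    StructureSheaf.IsLocalization.to_stalk R s
  have : IsDomain ((Spec (CommRingCat.of R)).presheaf.stalk s) :=
    IsLocalization.isDomain_of_le_nonZeroDivisors _ s.asIdeal.primeCompl_le_nonZeroDivisors
  have : IsDedekindDomain ((Spec (CommRingCat.of R)).presheaf.stalk s) :=
    IsLocalization.AtPrime.isDedekindDomain R s.asIdeal _
  exact maximalIdeal_isPrincipal_of_isDedekindDomain _

/-- Over a Dedekind domain, a morphism from a dense open of a smooth scheme to a proper group scheme extends. -/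
theorem weil_extension_dedekind {R : Type u} [CommRing R] [IsDedekindDomain R] {X G : Scheme.{u}}
    (pX : X ⟶ Spec (CommRingCat.of R)) [Smooth pX] (pG : G ⟶ Spec (CommRingCat.of R)) [GrpObj (Over.mk pG)]
    [IsProper pG] (U : X.Opens) (hU : Dense (U : Set X)) (f : U.toScheme ⟶ G) (hf : f ≫ pG = U.ι ≫ pX) :
    ∃! g : X ⟶ G, g ≫ pG = pX ∧ U.ι ≫ g = f := by
  have : IsLocallyNoetherian X := LocallyOfFiniteType.isLocallyNoetherian pX
  refine weil_extension_proper (smoothRegular_spec R) pX pG U hU (fun x => mem_closure_iff.2 fun T hT hxT => ?_) f hf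
  obtain ⟨η, hη, h1, h2⟩ := exists_codim_one_mem_fibre pX x (isPrincipal_maximalIdeal_stalk_spec R _) ⟨T, hT⟩ hxT
  exact ⟨η, hη, Or.inr h2, h1⟩

/-- A morphism defined on the generic fibre of a smooth scheme over a Dedekind domain is defined on an open
neighbourhood of the generic fibre. -/
theorem exists_spread_genericFibre {R : Type u} [CommRing R] [IsDedekindDomain R] {Y G : Scheme.{u}}
    (pY : Y ⟶ Spec (CommRingCat.of R)) [Smooth pY] (q : G ⟶ Spec (CommRingCat.of R)) [IsSeparated q]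
    [LocallyOfFiniteType q] (h : pullback pY (Neron.genPt R) ⟶ G)
    (hh : h ≫ q = pullback.fst pY (Neron.genPt R) ≫ pY) :
    ∃ (U : Y.Opens) (hU : Dense (U : Set Y)) (f : U.toScheme ⟶ G) (p' : pullback pY (Neron.genPt R) ⟶ U.toScheme),
      p' ≫ U.ι = pullback.fst pY (Neron.genPt R) ∧ f ≫ q = U.ι ≫ pY ∧ p' ≫ f = h := by
  have : IsLocallyNoetherian Y := LocallyOfFiniteType.isLocallyNoetherian pY
  let K := FractionRing R
  have : IsPreimmersion (Neron.genPt R) := IsPreimmersion.of_isLocalization (R := R) (S := K) (nonZeroDivisors R)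
  let p := pullback.fst pY (Neron.genPt R)
  have : IsPreimmersion p := inferInstance
  let s₀ : Spec (CommRingCat.of R) := Neron.genPt R default
  have hp : ∀ z, pY (p z) = s₀ := fun z => by
    rw [← Scheme.Hom.comp_apply, pullback.condition, Scheme.Hom.comp_apply]
    exact congrArg _ (Subsingleton.elim _ _)
  have hp' : ∀ y, pY y = s₀ → y ∈ Set.range p := fun y hy => by
    rw [Scheme.Pullback.range_fst]
    exact ⟨default, hy.symm⟩
  have : IsReduced (pullback pY (Neron.genPt R)) := by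
    have : Smooth (pullback.snd pY (Neron.genPt R)) := inferInstance
    exact isReduced_of_smooth_regular (smoothRegular_spec K) (pullback.snd pY (Neron.genPt R))
  have key : ∀ y : {y : Y // pY y = s₀}, ∃ (V : Y.Opens) (_ : y.1 ∈ V) (g : V.toScheme ⟶ G),
      g ≫ q = V.ι ≫ pY ∧ (p ⁻¹ᵁ V).ι ≫ h = (p ∣_ V) ≫ g := by
    rintro ⟨y, hy⟩
    have := smoothRegular_spec R pY ‹_› y
    have : IsDomain (Y.presheaf.stalk y) := CAlgH3.isDomain_of_isRegularLocalRing _
    let φ := Y.fromSpecStalk y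
    let α := Spec.preimage (φ ≫ pY)
    have hα : ∀ r : nonZeroDivisors R, IsUnit (α (r : R)) := by
      intro r
      by_contra hr
      have h1 : (φ ≫ pY) (IsLocalRing.closedPoint (Y.presheaf.stalk y)) = s₀ := by
        rw [Scheme.Hom.comp_apply, Scheme.fromSpecStalk_closedPoint, hy]
      rw [← Spec.map_preimage (φ ≫ pY)] at h1
      have h2 : (r : R) ∈ (Spec.map α (IsLocalRing.closedPoint (Y.presheaf.stalk y))).asIdeal :=
        (IsLocalRing.mem_maximalIdeal _).2 hr
      rw [show Spec.map α = Spec.map (Spec.preimage (φ ≫ pY)) from rfl, h1] at h2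
      have h3 : algebraMap R K r ∈ (default : Spec (CommRingCat.of K)).asIdeal := h2
      exact (default : Spec (CommRingCat.of K)).isPrime.ne_top
        (Ideal.eq_top_of_isUnit_mem _ h3 (IsLocalization.map_units K r))
    let β : CommRingCat.of K ⟶ Y.presheaf.stalk y := CommRingCat.ofHom (IsLocalization.lift hα)
    have hβ : φ ≫ pY = Spec.map β ≫ Neron.genPt R := by
      rw [← Spec.map_comp, ← Spec.map_preimage (φ ≫ pY)]
      congr 1
      ext r
      exact (IsLocalization.lift_eq hα r).symm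
    let l := pullback.lift φ (Spec.map β) hβ
    have hl : l ≫ p = φ := pullback.lift_fst _ _ _
    have hlS : (l ≫ h) ≫ q = φ ≫ pY := by rw [Category.assoc, hh, reassoc_of% hl]
    obtain ⟨W₀, hyW₀, g₀, hg₀, hg₀S⟩ := spread_out_of_isGermInjective' pY q (l ≫ h) hlS
    obtain ⟨W, hyW, hW, hWle, hinj⟩ := Y.exists_le_and_germ_injective y W₀ hyW₀
    have : IsIntegral W.toScheme := by
      have : IsAffine W.toScheme := hW
      have : Nonempty W.toScheme := ⟨⟨y, hyW⟩⟩
      have hd : IsDomain Γ(Y, W) := hinj.isDomain (Y.presheaf.germ W y hyW).hom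
      have : IsDomain Γ(W.toScheme, ⊤) :=
        (W.topIso.commRingCatIsoToRingEquiv.injective).isDomain W.topIso.hom.hom
      exact isIntegral_of_isAffine_of_isDomain _
    refine ⟨W, hyW, Y.homOfLE hWle ≫ g₀, by rw [Category.assoc, hg₀S, ← Category.assoc, Scheme.homOfLE_ι], ?_⟩
    let P' := p ⁻¹ᵁ W
    let μ : Spec (Y.presheaf.stalk y) ⟶ P'.toScheme := IsOpenImmersion.lift P'.ι l (by
      rw [Scheme.Opens.range_ι]
      rintro _ ⟨w, rfl⟩
      show p (l w) ∈ W
      rw [← Scheme.Hom.comp_apply, hl]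
      exact ((Scheme.range_fromSpecStalk (X := Y) (x := y)).le ⟨w, rfl⟩ : φ w ⤳ y).mem_open W.isOpen hyW)
    have hμ : μ ≫ P'.ι = l := IsOpenImmersion.lift_fac _ _ _
    have : IsReduced P'.toScheme := isReduced_of_isOpenImmersion P'.ι
    have : IsDominant μ := by
      refine ⟨dense_iff_inter_open.2 fun T hT ⟨t, ht⟩ => ?_⟩
      obtain ⟨r, hr⟩ : W.ι (genericPoint W.toScheme) ∈ Set.range φ := by
        rw [Scheme.range_fromSpecStalk]
        exact ((genericPoint_spec W.toScheme).specializes (y := ⟨y, hyW⟩) trivial).map W.ι.continuous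
      refine ⟨μ r, ?_, r, rfl⟩
      have hemb := (P'.ι ≫ p).isEmbedding
      obtain ⟨A, hA, hAT⟩ := hemb.isInducing.isOpen_iff.1 hT
      rw [← hAT]
      show (P'.ι ≫ p) (μ r) ∈ A
      rw [← Scheme.Hom.comp_apply, reassoc_of% hμ, hl, hr]
      exact ((genericPoint_spec W.toScheme).specializes (y := ⟨(P'.ι ≫ p) t, t.2⟩) trivial).mem_open
        (hA.preimage W.ι.continuous) (hAT.ge ht)
    refine ext_of_isDominant_of_isSeparated q ?_ μ ?_
    · rw [Category.assoc, Category.assoc, hh, Category.assoc, hg₀S, Scheme.homOfLE_ι_assoc,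
        ← Category.assoc (p ∣_ W), morphismRestrict_ι, Category.assoc]
    · have h1 : μ ≫ (p ∣_ W) ≫ Y.homOfLE hWle = W₀.fromSpecStalkOfMem y hyW₀ := by
        rw [← cancel_mono W₀.ι]
        simp only [Category.assoc, Scheme.homOfLE_ι, morphismRestrict_ι, Scheme.Opens.fromSpecStalkOfMem_ι]
        rw [reassoc_of% hμ, hl]
      calc μ ≫ (p ⁻¹ᵁ W).ι ≫ h = l ≫ h := by rw [reassoc_of% hμ]
        _ = W₀.fromSpecStalkOfMem y hyW₀ ≫ g₀ := hg₀
        _ = _ := by rw [← h1]; simp only [Category.assoc]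
  choose V hyV g hg hag using key
  let 𝒰 := Scheme.Opens.iSupOpenCover V
  have hglue : ∀ i j, pullback.fst (Y.homOfLE (le_iSup V i)) (Y.homOfLE (le_iSup V j)) ≫ g i =
      pullback.snd (Y.homOfLE (le_iSup V i)) (Y.homOfLE (le_iSup V j)) ≫ g j := by
    intro i j
    let a := pullback.fst (Y.homOfLE (le_iSup V i)) (Y.homOfLE (le_iSup V j)) ≫ (V i).ι
    have ha : pullback.snd (Y.homOfLE (le_iSup V i)) (Y.homOfLE (le_iSup V j)) ≫ (V j).ι = a := by
      show _ = pullback.fst (Y.homOfLE (le_iSup V i)) (Y.homOfLE (le_iSup V j)) ≫ (V i).ι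
      rw [← Y.homOfLE_ι (le_iSup V i), ← Y.homOfLE_ι (le_iSup V j), ← Category.assoc, ← Category.assoc,
        pullback.condition]
    have : IsOpenImmersion a := by simp only [a]; infer_instance
    let t := a ≫ pY
    have : Flat t := inferInstance
    refine eq_of_fst_genPt t q _ _ ?_ ?_
    · rw [Category.assoc, Category.assoc, hg, hg, ← Category.assoc, ← Category.assoc, ha]
    · let b : pullback t (Neron.genPt R) ⟶ pullback pY (Neron.genPt R) :=
        pullback.lift (pullback.fst t _ ≫ a) (pullback.snd t _) (by rw [Category.assoc]; exact pullback.condition)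
      have hb : b ≫ p = pullback.fst t _ ≫ a := pullback.lift_fst _ _ _
      have aux : ∀ (k) (c : pullback t (Neron.genPt R) ⟶ (V k).toScheme), c ≫ (V k).ι = b ≫ p → c ≫ g k = b ≫ h := by
        intro k c hc
        let c' : pullback t (Neron.genPt R) ⟶ (p ⁻¹ᵁ V k).toScheme := IsOpenImmersion.lift (p ⁻¹ᵁ V k).ι b (by
          rw [Scheme.Opens.range_ι]
          rintro _ ⟨w, rfl⟩
          show p (b w) ∈ V k
          rw [← Scheme.Hom.comp_apply, ← hc]
          exact (c w).2)
        have hc' : c' ≫ (p ⁻¹ᵁ V k).ι = b := IsOpenImmersion.lift_fac _ _ _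
        have h2 : c' ≫ (p ∣_ V k) = c := by
          rw [← cancel_mono (V k).ι, Category.assoc, morphismRestrict_ι, reassoc_of% hc', hc]
        rw [← h2, Category.assoc, ← hag, reassoc_of% hc']
      rw [← Category.assoc, ← Category.assoc, aux i _ (by rw [Category.assoc]; exact hb.symm),
        aux j _ (by rw [Category.assoc, ha]; exact hb.symm)]
  let f := Scheme.Cover.glueMorphisms 𝒰 g hglue
  have hfi : ∀ i, Y.homOfLE (le_iSup V i) ≫ f = g i := fun i => Scheme.Cover.ι_glueMorphisms 𝒰 g hglue i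
  let p' : pullback pY (Neron.genPt R) ⟶ (⨆ i, V i).toScheme := IsOpenImmersion.lift (⨆ i, V i).ι p (by
    rw [Scheme.Opens.range_ι]
    rintro _ ⟨z, rfl⟩
    exact Opens.mem_iSup.2 ⟨⟨p z, hp z⟩, hyV _⟩)
  have hp'ι : p' ≫ (⨆ i, V i).ι = p := IsOpenImmersion.lift_fac _ _ _
  refine ⟨⨆ i, V i, ?_, f, p', hp'ι, Scheme.Cover.hom_ext 𝒰 _ _ fun i => ?_, ?_⟩
  · refine dense_iff_inter_open.2 fun T hT ⟨t, ht⟩ => ?_
    have ho : IsOpen (pY '' T) := pY.isOpenMap T hT
    have hgp : s₀ ∈ pY '' T := by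
      refine Specializes.mem_open ?_ ho ⟨t, ht, rfl⟩
      refine (PrimeSpectrum.le_iff_specializes (R := R) s₀ (pY t)).1 ?_
      intro r hr
      have hbot : (default : Spec (CommRingCat.of K)).asIdeal = ⊥ :=
        (Ideal.eq_bot_or_top _).resolve_right (default : Spec (CommRingCat.of K)).isPrime.ne_top
      have h0 : algebraMap R K r ∈ (default : Spec (CommRingCat.of K)).asIdeal := hr
      rw [hbot, Ideal.mem_bot] at h0
      rw [IsFractionRing.injective R K (h0.trans (map_zero _).symm)]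
      exact zero_mem _
    obtain ⟨y, hyT, hy⟩ := hgp
    exact ⟨y, hyT, Opens.mem_iSup.2 ⟨⟨y, hy⟩, hyV _⟩⟩
  · rw [← Category.assoc, ← Category.assoc]
    show (Y.homOfLE (le_iSup V i) ≫ f) ≫ q = (Y.homOfLE (le_iSup V i) ≫ (⨆ i, V i).ι) ≫ pY
    rw [hfi, Scheme.homOfLE_ι, hg]
  · refine Scheme.hom_ext_of_forall _ _ fun z => ?_
    let i : {y : Y // pY y = s₀} := ⟨p z, hp z⟩
    refine ⟨p ⁻¹ᵁ V i, hyV i, ?_⟩
    have h1 : (p ⁻¹ᵁ V i).ι ≫ p' = (p ∣_ V i) ≫ Y.homOfLE (le_iSup V i) := by
      rw [← cancel_mono (⨆ i, V i).ι, Category.assoc, Category.assoc, hp'ι, Scheme.homOfLE_ι, morphismRestrict_ι]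
    rw [← Category.assoc, h1, Category.assoc, hfi, hag]

/-- Morphisms from the generic fibre of a smooth scheme into a proper group scheme over a Dedekind domain extend
uniquely. -/
theorem existsUnique_extension_genericFibre {R : Type u} [CommRing R] [IsDedekindDomain R] {Y G : Scheme.{u}}
    (pY : Y ⟶ Spec (CommRingCat.of R)) [Smooth pY] (pG : G ⟶ Spec (CommRingCat.of R)) [GrpObj (Over.mk pG)]
    [IsProper pG] (h : pullback pY (Neron.genPt R) ⟶ G) (hh : h ≫ pG = pullback.fst pY (Neron.genPt R) ≫ pY) :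
    ∃! g : Y ⟶ G, g ≫ pG = pY ∧ pullback.fst pY (Neron.genPt R) ≫ g = h := by
  obtain ⟨U, hU, f, p', hp', hf, hpf⟩ := exists_spread_genericFibre pY pG h hh
  obtain ⟨g, ⟨hg, hgU⟩, -⟩ := weil_extension_dedekind pY pG U hU f hf
  have hgK : pullback.fst pY (Neron.genPt R) ≫ g = h := by rw [← hp', Category.assoc, hgU, hpf]
  exact ⟨g, ⟨hg, hgK⟩, fun g' hg' => eq_of_fst_genPt pY pG g' g (hg'.1.trans hg.symm) (hg'.2.trans hgK.symm)⟩

end Groth.Agent.NeronLib
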