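import Groth.Agent.NeronLib.Hartogs
import Groth.Agent.NeronLib.Glue
import Mathlib.Topology.Sober
import Mathlib.AlgebraicGeometry.FunctionField

/-!
# Extending a morphism from an open subscheme across a regular point
-/

universe u

set_option autoImplicit false

open AlgebraicGeometry CategoryTheory Limits TopologicalSpace

namespace Groth.Agent.NeronLib

theorem coheight_fromSpecStalk_le {X : Scheme.{u}} (x : X) (q : Spec (X.presheaf.stalk x)) :
    Order.coheight (X.fromSpecStalk x q) ≤ Order.coheight q := by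
  refine Order.coheight_le fun p hp => ?_
  have hmem : ∀ i, p i ∈ Set.range (X.fromSpecStalk x) := by
    intro i
    rw [Scheme.range_fromSpecStalk]
    have h1 : X.fromSpecStalk x q ⤳ x := by
      exact (Scheme.range_fromSpecStalk (X := X) (x := x)).le ⟨q, rfl⟩
    exact (Scheme.le_iff_specializes.1 (hp ▸ p.head_le i : X.fromSpecStalk x q ≤ p i)).trans h1
  choose r hr using hmem
  have he := (X.fromSpecStalk x).isEmbedding
  have hle : ∀ a b, X.fromSpecStalk x a ≤ X.fromSpecStalk x b ↔ a ≤ b := fun a b => by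
    rw [Scheme.le_iff_specializes, Scheme.le_iff_specializes, he.isInducing.specializes_iff]
  let p' : LTSeries (Spec (X.presheaf.stalk x)) := LTSeries.mk p.length r fun i j hij => by
    have := p.strictMono hij
    show r i < r j
    rw [lt_iff_le_not_ge, ← hle, ← hle, hr, hr, ← lt_iff_le_not_ge]
    exact this
  have h0 : p'.head = q := he.injective ((hr 0).trans hp)
  exact Order.length_le_coheight (p := p') h0.ge

theorem exists_extend_at {Z Y S : Scheme.{u}} [IsLocallyNoetherian Z] [S.IsSeparated] (pZ : Z ⟶ S)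
    (q : Y ⟶ S) [IsSeparated q] [LocallyOfFiniteType q]
    (z : Z) (hreg : IsRegularLocalRing (Z.presheaf.stalk z))
    (O : Z.Opens) (h : O.toScheme ⟶ Y) (hh : h ≫ q = O.ι ≫ pZ) (V : Y.Opens) (hV : IsAffineOpen V)
    (hmeet : ∀ π : Z.presheaf.stalk z, π ∈ IsLocalRing.maximalIdeal (Z.presheaf.stalk z) →
      ∃ r : Spec (Z.presheaf.stalk z), π ∈ r.asIdeal ∧ Z.fromSpecStalk z r ∈ O.ι ''ᵁ (h ⁻¹ᵁ V)) :
    ∃ (W : Z.Opens) (_ : z ∈ W) (g : W.toScheme ⟶ Y), g ≫ q = W.ι ≫ pZ ∧ Agree g h := by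
  have := CAlgH3.isDomain_of_isRegularLocalRing (Z.presheaf.stalk z)
  have := CAlgH3.ufm_of_regular (Z.presheaf.stalk z)
  let φ := Z.fromSpecStalk z
  let O' := O.ι ''ᵁ (h ⁻¹ᵁ V)
  let O₁ := φ ⁻¹ᵁ O'
  have hO'O : O' ≤ O := O.ι_image_le _
  obtain ⟨r₀, -, hr₀⟩ := hmeet 0 (Ideal.zero_mem _)
  let m : O₁.toScheme ⟶ O.toScheme := IsOpenImmersion.lift O.ι (O₁.ι ≫ φ) (by
    rw [Scheme.Opens.range_ι]
    rintro _ ⟨w, rfl⟩
    exact hO'O w.2)
  have hm : m ≫ O.ι = O₁.ι ≫ φ := IsOpenImmersion.lift_fac _ _ _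
  let l : O₁.toScheme ⟶ V.toScheme := IsOpenImmersion.lift V.ι (m ≫ h) (by
    rw [Scheme.Opens.range_ι]
    rintro _ ⟨w, rfl⟩
    obtain ⟨o, ho, hwo⟩ := w.2
    have : m w = o := O.ι.isOpenEmbedding.injective (by
      rw [← Scheme.Hom.comp_apply, hm]; exact hwo.symm)
    show h (m w) ∈ V
    rw [this]; exact ho)
  have hl : l ≫ V.ι = m ≫ h := IsOpenImmersion.lift_fac _ _ _
  have : IsAffine V.toScheme := hV
  obtain ⟨e, he, -⟩ := existsUnique_extend_to_affine (Z.presheaf.stalk z) O₁ ⟨r₀, hr₀⟩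
    (fun π hπ => (hmeet π (by
      rw [IsLocalRing.mem_maximalIdeal, mem_nonunits_iff]; exact hπ.not_isUnit))) l
  have hφ : (e ≫ V.ι) ≫ q = φ ≫ pZ := by
    have : IsDominant O₁.ι := ⟨by
      rw [DenseRange, Scheme.Opens.range_ι]
      exact O₁.isOpen.dense ⟨r₀, hr₀⟩⟩
    refine ext_of_isDominant_of_isSeparated (terminal.from S) (terminal.hom_ext _ _) O₁.ι ?_
    rw [← Category.assoc, ← Category.assoc, show O₁.ι ≫ e = l from he, hl, Category.assoc, hh, ← Category.assoc, hm,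
      Category.assoc]
  obtain ⟨W₀, hzW₀, g₀, hg₀, hg₀S⟩ := spread_out_of_isGermInjective' pZ q (e ≫ V.ι) hφ
  obtain ⟨W, hzW, hW, hWle, hinj⟩ := Z.exists_le_and_germ_injective z W₀ hzW₀
  have hint : IsIntegral W.toScheme := by
    have : IsAffine W.toScheme := hW
    have : Nonempty W.toScheme := ⟨⟨z, hzW⟩⟩
    have hd : IsDomain Γ(Z, W) := hinj.isDomain (Z.presheaf.germ W z hzW).hom
    have : IsDomain Γ(W.toScheme, ⊤) :=
      (W.topIso.commRingCatIsoToRingEquiv.injective).isDomain W.topIso.hom.hom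
    exact isIntegral_of_isAffine_of_isDomain _
  refine ⟨W, hzW, Z.homOfLE hWle ≫ g₀, by rw [Category.assoc, hg₀S, ← Category.assoc, Scheme.homOfLE_ι],
    agree_of_homOfLE _ _ ?_⟩
  let WO := W ⊓ O
  let c : O₁.toScheme ⟶ WO.toScheme := IsOpenImmersion.lift WO.ι (O₁.ι ≫ φ) (by
    rw [Scheme.Opens.range_ι]
    rintro _ ⟨w, rfl⟩
    refine ⟨?_, hO'O w.2⟩
    have : φ (O₁.ι w) ∈ Set.range φ := ⟨_, rfl⟩
    rw [Scheme.range_fromSpecStalk] at this
    exact this.mem_open W.isOpen hzW)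
  have hc : c ≫ WO.ι = O₁.ι ≫ φ := IsOpenImmersion.lift_fac _ _ _
  have : IsReduced WO.toScheme := isReduced_of_isOpenImmersion (Z.homOfLE (inf_le_left : WO ≤ W))
  have : IsDominant c := by
    refine ⟨dense_iff_inter_open.2 fun T hT ⟨t, ht⟩ => ?_⟩
    let η : W.toScheme := genericPoint W.toScheme
    have hη : ∀ A : Z.Opens, A ≤ W → (A : Set Z).Nonempty → W.ι η ∈ A := by
      rintro A hA ⟨a, ha⟩
      exact ((genericPoint_spec W.toScheme).specializes (y := ⟨a, hA ha⟩) trivial).mem_open (W.ι ⁻¹ᵁ A).isOpen ha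
    have hηz : W.ι η ∈ Set.range φ := by
      rw [Scheme.range_fromSpecStalk]
      exact ((genericPoint_spec W.toScheme).specializes (y := ⟨z, hzW⟩) trivial).map W.ι.continuous
    obtain ⟨r, hr⟩ := hηz
    have hr₁ : r ∈ O₁ := by
      show φ r ∈ O'
      rw [hr]
      refine (hη (W ⊓ O') inf_le_left ⟨φ r₀, ?_, hr₀⟩).2
      have : φ r₀ ∈ Set.range φ := ⟨_, rfl⟩
      rw [Scheme.range_fromSpecStalk] at this
      exact this.mem_open W.isOpen hzW
    refine ⟨c ⟨r, hr₁⟩, ?_, Set.mem_range_self _⟩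
    have h1 : W.ι η ∈ WO.ι ''ᵁ ⟨T, hT⟩ := hη _ ((WO.ι_image_le _).trans inf_le_left) ⟨WO.ι t, t, ht, rfl⟩
    obtain ⟨t', ht', htη⟩ := h1
    have : c ⟨r, hr₁⟩ = t' := WO.ι.isOpenEmbedding.injective (by
      rw [← Scheme.Hom.comp_apply, hc]; exact hr.trans htη.symm)
    rw [this]; exact ht'
  refine ext_of_isDominant_of_isSeparated q ?_ c ?_
  · simp only [Category.assoc, hg₀S, hh, Scheme.homOfLE_ι_assoc]
  · have h1 : c ≫ Z.homOfLE (inf_le_left : WO ≤ W) ≫ Z.homOfLE hWle = O₁.ι ≫ W₀.fromSpecStalkOfMem z hzW₀ := by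
      rw [← cancel_mono W₀.ι]
      simp only [Category.assoc, Scheme.homOfLE_ι, hc, Scheme.Opens.fromSpecStalkOfMem_ι]
      rfl
    have h2 : c ≫ Z.homOfLE (inf_le_right : WO ≤ O) = m := by
      rw [← cancel_mono O.ι, Category.assoc, Scheme.homOfLE_ι, hc, hm]
    calc c ≫ Z.homOfLE _ ≫ Z.homOfLE hWle ≫ g₀ = (c ≫ Z.homOfLE (inf_le_left : WO ≤ W) ≫ Z.homOfLE hWle) ≫ g₀ := by
          simp only [Category.assoc]
      _ = O₁.ι ≫ e ≫ V.ι := by rw [h1, Category.assoc, ← hg₀]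
      _ = m ≫ h := by rw [← Category.assoc, show O₁.ι ≫ e = l from he, hl]
      _ = _ := by rw [← h2, Category.assoc]

end Groth.Agent.NeronLib
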