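import Groth.Agent.S4434
import Mathlib.RingTheory.TensorProduct.Free
import Mathlib.FieldTheory.IntermediateField.Adjoin.Basic

/-!
# Elements of `C ⊗ O` which are integral at all discrete valuations of `Frac C` are constant
-/

universe u

set_option autoImplicit false

open TensorProduct

namespace Groth.Agent.NeronLib

variable (K : Type u) [Field K] {C : Type u} [CommRing C] [IsDomain C] [Algebra K C] [Algebra.FiniteType K C]
  (L : Type u) [Field L] [Algebra C L] [IsFractionRing C L] [Algebra K L] [IsScalarTower K C L]

theorem fg_top_of_finiteType (C : Type u) [CommRing C] [Algebra K C] [Algebra.FiniteType K C] [Algebra C L]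
    [IsFractionRing C L] [IsScalarTower K C L] : (⊤ : IntermediateField K L).FG := by
  classical
  obtain ⟨s, hs⟩ := (inferInstance : Algebra.FiniteType K C).out
  refine ⟨s.image (algebraMap C L), eq_top_iff.2 fun x _ => ?_⟩
  have h : ∀ c : C, algebraMap C L c ∈ IntermediateField.adjoin K ((s.image (algebraMap C L) : Finset L) : Set L) := by
    intro c
    refine IntermediateField.algebra_adjoin_le_adjoin K _ ?_
    rw [Finset.coe_image, show algebraMap C L '' (s : Set C) = IsScalarTower.toAlgHom K C L '' (s : Set C) from rfl,
      ← AlgHom.map_adjoin, hs]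
    exact ⟨c, trivial, rfl⟩
  obtain ⟨a, b, -, rfl⟩ := IsFractionRing.div_surjective (A := C) x
  exact div_mem (h a) (h b)

theorem mem_range_includeRight_of_forall_dvr (hclosed : ∀ x : C, IsAlgebraic K x → x ∈ Set.range (algebraMap K C))
    {O : Type u} [CommRing O] [Algebra K O] (y : C ⊗[K] O)
    (h : ∀ R : ValuationSubring L, IsDiscreteValuationRing R → (∀ a : K, algebraMap K L a ∈ R) →
      Algebra.TensorProduct.map (IsScalarTower.toAlgHom K C L) (AlgHom.id K O) y ∈
        AddSubmonoid.closure {x : L ⊗[K] O | ∃ r ∈ R, ∃ o : O, x = r ⊗ₜ o}) :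
    y ∈ (Algebra.TensorProduct.includeRight (R := K) (A := C) (B := O)).range := by
  let b := Module.Free.chooseBasis K O
  let bC := Algebra.TensorProduct.basis C b
  let bL := Algebra.TensorProduct.basis L b
  have hmap : ∀ (z : C ⊗[K] O) i,
      bL.repr (Algebra.TensorProduct.map (IsScalarTower.toAlgHom K C L) (AlgHom.id K O) z) i =
        algebraMap C L (bC.repr z i) := by
    intro z i
    induction z with
    | zero => simp
    | tmul c o =>
      simp only [bL, bC, Algebra.TensorProduct.map_tmul, AlgHom.id_apply, Algebra.TensorProduct.basis_repr_tmul,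
        Finsupp.smul_apply, Finsupp.mapRange_apply, smul_eq_mul, map_mul, IsScalarTower.coe_toAlgHom',
        ← IsScalarTower.algebraMap_apply K C L]
    | add z w hz hw => simp [hz, hw]
  have key : ∀ i, bC.repr y i ∈ Set.range (algebraMap K C) := by
    intro i
    refine hclosed _ ?_
    have hint : IsIntegral K (algebraMap C L (bC.repr y i)) :=
      (Groth.Agent.S4434.result K K L (fg_top_of_finiteType K L C) _).2 fun R hR hK => by
        rw [← hmap]
        have hm := h R hR hK
        revert hm
        generalize Algebra.TensorProduct.map (IsScalarTower.toAlgHom K C L) (AlgHom.id K O) y = m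
        intro hm
        induction hm using AddSubmonoid.closure_induction with
        | mem x hx =>
          obtain ⟨r, hr, o, rfl⟩ := hx
          simp only [bL, Algebra.TensorProduct.basis_repr_tmul, Finsupp.smul_apply, Finsupp.mapRange_apply,
            smul_eq_mul]
          exact mul_mem hr (hK _)
        | zero => simp [zero_mem]
        | add a c _ _ ha hc => simpa using add_mem ha hc
    exact ((isIntegral_algebraMap_iff (IsFractionRing.injective C L)).1 hint).isAlgebraic
  rw [← bC.linearCombination_repr y, Finsupp.linearCombination_apply]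
  refine sum_mem fun i _ => ?_
  obtain ⟨k, hk⟩ := key i
  simp only [← hk, bC, Algebra.TensorProduct.basis_apply]
  exact ⟨k • b i, by simp only [Algebra.TensorProduct.includeRight_apply, AlgHom.toRingHom_eq_coe, RingHom.coe_coe, TensorProduct.tmul_smul, TensorProduct.smul_tmul', ← Algebra.algebraMap_eq_smul_one, smul_eq_mul, mul_one]⟩

end Groth.Agent.NeronLib
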