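import Groth.Agent.NeronLib.Formal
import Groth.Agent.AlgSpLib.FppfLocal

/-!
# Torsors inherit fppf local properties of the group
-/

universe u

noncomputable section

open CategoryTheory Limits AlgebraicGeometry MonoidalCategory CartesianMonoidalCategory

namespace Groth.Agent.NeronLib.Formal

variable {S : Scheme.{u}} {G N : Over S} [GrpObj G]

theorem isIso_of_bijective_comp {A B : Over S} (e : A ⟶ B)
    (h : ∀ W : Over S, Function.Bijective (fun f : W ⟶ A => f ≫ e)) : IsIso e := by
  obtain ⟨g, hg⟩ := (h B).2 (𝟙 B)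
  simp only at hg
  exact ⟨⟨g, (h A).1 (by simp [hg]), hg⟩⟩

/-- A pseudo-torsor becomes the group over any scheme where it has a point. -/
theorem exists_iso_tensor {a : AlgGrp.Action G N} (ha : NonAbH1.IsPseudoTorsorSch a) {T : Over S} (n : T ⟶ N) :
    ∃ e : G ⊗ T ≅ N ⊗ T, e.hom ≫ snd N T = snd G T := by
  let e : G ⊗ T ⟶ N ⊗ T := lift (lift (fst G T) (snd G T ≫ n) ≫ a.act) (snd G T)
  have : IsIso e := by
    refine isIso_of_bijective_comp e fun W => ?_
    refine ⟨fun f f' h => ?_, fun m => ?_⟩
    · simp only at h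
      have h2 : f ≫ snd G T = f' ≫ snd G T := by simpa [e] using congrArg (· ≫ snd N T) h
      have h1 : lift (f ≫ fst G T) (f ≫ snd G T ≫ n) ≫ a.act = lift (f' ≫ fst G T) (f ≫ snd G T ≫ n) ≫ a.act := by
        have := congrArg (· ≫ fst N T) h
        simp only [e, Category.assoc, lift_fst, comp_lift_assoc] at this
        rw [this, reassoc_of% h2]
      exact CartesianMonoidalCategory.hom_ext _ _ ((bijective_lift_act ha _).1 h1) h2
    · obtain ⟨b, hb⟩ := (bijective_lift_act ha ((m ≫ snd N T) ≫ n)).2 (m ≫ fst N T)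
      simp only at hb
      refine ⟨lift b (m ≫ snd N T), CartesianMonoidalCategory.hom_ext _ _ ?_ ?_⟩
      · simp only [e, Category.assoc, lift_fst, comp_lift_assoc, lift_snd_assoc]
        rwa [Category.assoc] at hb
      · simp [e]
  exact ⟨asIso e, lift_snd _ _⟩

/-- An fppf-local property of the group passes to its torsors. -/
theorem prop_of_torsor {a : AlgGrp.Action G N} (ha : NonAbH1.IsTorsorFor Scheme.fppfPrecoverage a)
    (Q : MorphismProperty Scheme.{u}) [Q.IsStableUnderBaseChange] [Q.IsLocalAtTarget Scheme.fppfPrecoverage]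
    (h : Q G.hom) : Q N.hom := by
  obtain ⟨hp, R, hR, hsec⟩ := ha
  refine MorphismProperty.IsLocalAtTarget.of_forall_pullbackSnd hR fun {U g} _ hg => ?_
  obtain ⟨s, hs⟩ := hsec g hg
  let T : Over S := Over.mk g
  obtain ⟨e, he⟩ := exists_iso_tensor hp (Over.homMk s hs : T ⟶ N)
  have h1 : Q (snd G T).left := Q.pullback_snd _ _ h
  have h2 : Q (e.hom.left ≫ (snd N T).left) := by rw [← Over.comp_left, he]; exact h1
  exact (Q.cancel_left_of_respectsIso ((Over.forget S).mapIso e).hom _).1 h2

end Groth.Agent.NeronLib.Formal
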