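import Groth.Prelude.Def_CInt
import Groth.Agent.Rat20Lib.SchDense
import Mathlib.AlgebraicGeometry.Morphisms.Flat
import Mathlib.AlgebraicGeometry.Noetherian

/-!
# Flat preimages of schematically dense opens over a locally Noetherian base
-/

set_option autoImplicit false

universe u

open CategoryTheory AlgebraicGeometry

namespace Groth.Agent.NeronLib

theorem map_mem_nonZeroDivisors_of_flat {A B : Type u} [CommRing A] [CommRing B] {f : A →+* B} (hf : f.Flat)
    {t : A} (ht : t ∈ nonZeroDivisors A) : f t ∈ nonZeroDivisors B := by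
  algebraize [f]
  rw [mem_nonZeroDivisors_iff_right] at ht ⊢
  have h : IsSMulRegular B (algebraMap A B t) := IsSMulRegular.of_flat (fun x y hxy => by
    simp only [smul_eq_mul] at hxy
    refine sub_eq_zero.1 (ht _ ?_)
    rw [sub_mul, mul_comm x, mul_comm y, hxy, sub_self])
  intro x hx
  refine h ?_
  show algebraMap A B t * x = algebraMap A B t * 0
  rw [mul_zero, mul_comm]
  exact hx

/-- The preimage of a schematically dense open under a flat morphism to a locally Noetherian scheme. -/
theorem isSchematicallyDense_preimage {X X' : Scheme.{u}} (f : X' ⟶ X) [Flat f] [IsLocallyNoetherian X]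
    {U : X.Opens} (hU : CInt.IsSchematicallyDense U) : CInt.IsSchematicallyDense (f ⁻¹ᵁ U) := by
  intro W a b hab
  refine TopCat.Presheaf.section_ext X'.sheaf W a b fun x hxW => ?_
  obtain ⟨V, hV, hxV, -⟩ := exists_isAffineOpen_mem_and_subset (x := f x) (U := ⊤) trivial
  obtain ⟨t, ht, htU⟩ := Rat20Lib.exists_regular_basicOpen_le hV hU
    (Or.inl (IsLocallyNoetherian.component_noetherian ⟨V, hV⟩))
  obtain ⟨W', hW', hxW', hle⟩ := exists_isAffineOpen_mem_and_subset (x := x) (U := W ⊓ f ⁻¹ᵁ V) ⟨hxW, hxV⟩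
  have hWW : W' ≤ W := fun y hy => (hle hy).1
  have hWV : W' ≤ f ⁻¹ᵁ V := fun y hy => (hle hy).2
  let s : Γ(X', W') := f.appLE V W' hWV t
  have hs : s ∈ nonZeroDivisors Γ(X', W') :=
    map_mem_nonZeroDivisors_of_flat (Flat.flat_appLE f hV hW' hWV) ht
  have hreg := Rat20Lib.germ_regular hW' s hs x hxW'
  have hsle : X'.basicOpen s ≤ W ⊓ f ⁻¹ᵁ U := fun y hy => ⟨hWW (X'.basicOpen_le s hy), htU (by
    have hy' : y ∈ f ⁻¹ᵁ X.basicOpen t := by
      rw [Scheme.preimage_basicOpen]
      have e := X'.basicOpen_res (f.app V t) (homOfLE hWV).op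
      rw [show (X'.presheaf.map (homOfLE hWV).op) (f.app V t) = s from rfl] at e
      rw [e] at hy
      exact hy.2
    exact hy')⟩
  have := hW'.isLocalization_basicOpen s
  have key : (algebraMap Γ(X', W') Γ(X', X'.basicOpen s)) (X'.presheaf.map (homOfLE hWW).op a) =
      (algebraMap Γ(X', W') Γ(X', X'.basicOpen s)) (X'.presheaf.map (homOfLE hWW).op b) := by
    have h1 := congrArg (X'.presheaf.map (homOfLE hsle).op) hab
    simp only [← CommRingCat.comp_apply, ← X'.presheaf.map_comp] at h1
    simp only [RingHom.algebraMap_toAlgebra, ← CommRingCat.comp_apply, ← X'.presheaf.map_comp]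
    exact h1
  obtain ⟨⟨_, n, rfl⟩, hn⟩ := (IsLocalization.eq_iff_exists (Submonoid.powers s) _).mp key
  have h2 := congrArg (X'.presheaf.germ W' x hxW') hn
  simp only [map_mul, map_pow] at h2
  have h3 := (mul_cancel_left_mem_nonZeroDivisors (pow_mem hreg n)).mp h2
  exact ((X'.presheaf.germ_res_apply (homOfLE hWW) x hxW' a).symm.trans h3).trans
    (X'.presheaf.germ_res_apply (homOfLE hWW) x hxW' b)

end Groth.Agent.NeronLib
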