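import Groth.Agent.NeronLib.WeilExtension
import Mathlib.AlgebraicGeometry.ValuativeCriterion
import Mathlib.RingTheory.DiscreteValuationRing.TFAE

/-!
# Extension to the points of codimension one of a morphism into a proper scheme
-/

universe u

set_option autoImplicit false

open AlgebraicGeometry CategoryTheory Limits TopologicalSpace

namespace Groth.Agent.NeronLib

theorem valuationRing_of_regular_of_dim_le_one (A : Type*) [CommRing A] [IsDomain A] [IsRegularLocalRing A]
    (h : ringKrullDim A ≤ 1) : ValuationRing A := by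
  have h1 : (IsLocalRing.maximalIdeal A).spanFinrank ≤ 1 := by
    rw [← IsRegularLocalRing.spanFinrank_maximalIdeal] at h
    exact_mod_cast h
  rw [IsLocalRing.spanFinrank_maximalIdeal_eq_finrank_cotangentSpace] at h1
  exact ((tfae_of_isNoetherianRing_of_isLocalRing_of_isDomain A).out 5 1).1 h1

theorem exists_extend_at_codim_one {X G S : Scheme.{u}} [IsLocallyNoetherian S] (hS : SmoothRegular S) (pX : X ⟶ S) [Smooth pX]
    (q : G ⟶ S) [IsProper q] (U : X.Opens) (hU : Dense (U : Set X)) (f : U.toScheme ⟶ G) (hf : f ≫ q = U.ι ≫ pX)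
    (x : X) (hx : ringKrullDim (X.presheaf.stalk x) ≤ 1) :
    ∃ (V : X.Opens) (_ : x ∈ V) (g : V.toScheme ⟶ G), g ≫ q = V.ι ≫ pX ∧ Agree g f := by
  have : IsLocallyNoetherian X := LocallyOfFiniteType.isLocallyNoetherian pX
  let A := X.presheaf.stalk x
  have : IsRegularLocalRing A := hS pX ‹_› x
  have : IsDomain A := CAlgH3.isDomain_of_isRegularLocalRing A
  have : ValuationRing A := valuationRing_of_regular_of_dim_le_one A hx
  let K := FractionRing A
  let φ := X.fromSpecStalk x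
  let j : Spec (CommRingCat.of K) ⟶ Spec A := Spec.map (CommRingCat.ofHom (algebraMap A K))
  let pt : Spec (CommRingCat.of K) := default
  have hj : ∀ r : Spec A, j pt ⤳ r := fun r => by
    refine (PrimeSpectrum.le_iff_specializes (R := A) (j pt) r).1 ?_
    show (PrimeSpectrum.comap (algebraMap A K) pt).asIdeal ≤ r.asIdeal
    intro a ha
    have h0 : algebraMap A K a ∈ pt.asIdeal := ha
    have hbot : pt.asIdeal = ⊥ := (Ideal.eq_bot_or_top pt.asIdeal).resolve_right pt.isPrime.ne_top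
    rw [hbot, Ideal.mem_bot] at h0
    rw [IsFractionRing.injective A K (h0.trans (map_zero _).symm)]
    exact zero_mem _
  have hgen : ∀ (W : X.Opens), IsIntegral W.toScheme → x ∈ W → ∀ A' : X.Opens, A' ≤ W → (A' : Set X).Nonempty → φ (j pt) ∈ A' := by
    intro W hW hxW A' hA ⟨a, ha⟩
    have h1 : W.ι (genericPoint W.toScheme) ∈ A' :=
      ((genericPoint_spec W.toScheme).specializes (y := ⟨a, hA ha⟩) trivial).mem_open (W.ι ⁻¹ᵁ A').isOpen ha
    have h2 : W.ι (genericPoint W.toScheme) ∈ Set.range φ := by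
      rw [Scheme.range_fromSpecStalk]
      exact ((genericPoint_spec W.toScheme).specializes (y := ⟨x, hxW⟩) trivial).map W.ι.continuous
    obtain ⟨r, hr⟩ := h2
    exact ((hj r).map φ.continuous).mem_open A'.isOpen (hr ▸ h1)
  have hint : ∀ W₀ : X.Opens, x ∈ W₀ → ∃ W ≤ W₀, x ∈ W ∧ IsIntegral W.toScheme := by
    intro W₀ hx₀
    obtain ⟨W, hxW, hW, hWle, hinj⟩ := X.exists_le_and_germ_injective x W₀ hx₀
    refine ⟨W, hWle, hxW, ?_⟩
    have : IsAffine W.toScheme := hW
    have : Nonempty W.toScheme := ⟨⟨x, hxW⟩⟩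
    have hd : IsDomain Γ(X, W) := hinj.isDomain (X.presheaf.germ W x hxW).hom
    have : IsDomain Γ(W.toScheme, ⊤) :=
      (W.topIso.commRingCatIsoToRingEquiv.injective).isDomain W.topIso.hom.hom
    exact isIntegral_of_isAffine_of_isDomain _
  obtain ⟨W₁, -, hxW₁, hW₁⟩ := hint ⊤ trivial
  have hptU : φ (j pt) ∈ U := by
    obtain ⟨y, hy⟩ := hU.inter_open_nonempty W₁ W₁.isOpen ⟨x, hxW₁⟩
    exact (hgen W₁ hW₁ hxW₁ (W₁ ⊓ U) inf_le_left ⟨y, hy⟩).2
  let i₁ : Spec (CommRingCat.of K) ⟶ U.toScheme := IsOpenImmersion.lift U.ι (j ≫ φ) (by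
    rw [Scheme.Opens.range_ι]
    rintro _ ⟨w, rfl⟩
    rw [Subsingleton.elim w pt]
    exact hptU)
  have hi₁ : i₁ ≫ U.ι = j ≫ φ := IsOpenImmersion.lift_fac _ _ _
  have hvc : ValuativeCriterion q := by
    have h := ‹IsProper q›
    rw [IsProper.eq_valuativeCriterion] at h
    exact h.1.1.1
  let sq : ValuativeCommSq q :=
    { R := A
      commRing := A.commRing
      domain := ‹IsDomain A›
      valuationRing := ‹ValuationRing A›
      K := K
      i₁ := i₁ ≫ f
      i₂ := φ ≫ pX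
      commSq := ⟨by rw [Category.assoc, hf, reassoc_of% hi₁]; rfl⟩ }
  have := hvc.existence sq
  let l : Spec A ⟶ G := sq.commSq.lift
  have hl₁ : j ≫ l = i₁ ≫ f := sq.commSq.fac_left
  have hl₂ : l ≫ q = φ ≫ pX := sq.commSq.fac_right
  obtain ⟨W₀, hxW₀, g₀, hg₀, hg₀S⟩ := spread_out_of_isGermInjective' pX q l hl₂
  obtain ⟨W, hWle, hxW, hW⟩ := hint W₀ hxW₀
  refine ⟨W, hxW, X.homOfLE hWle ≫ g₀, by rw [Category.assoc, hg₀S, ← Category.assoc, Scheme.homOfLE_ι],
    agree_of_homOfLE _ _ ?_⟩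
  let WU := W ⊓ U
  let c : Spec (CommRingCat.of K) ⟶ WU.toScheme := IsOpenImmersion.lift WU.ι (j ≫ φ) (by
    rw [Scheme.Opens.range_ι]
    rintro _ ⟨w, rfl⟩
    rw [Subsingleton.elim w pt]
    exact ⟨hgen W hW hxW W le_rfl ⟨x, hxW⟩, hptU⟩)
  have hc : c ≫ WU.ι = j ≫ φ := IsOpenImmersion.lift_fac _ _ _
  have : IsReduced WU.toScheme := isReduced_of_isOpenImmersion (X.homOfLE (inf_le_left : WU ≤ W))
  have : IsDominant c := by
    refine ⟨dense_iff_inter_open.2 fun T hT ⟨t, ht⟩ => ⟨c pt, ?_, pt, rfl⟩⟩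
    have h1 : φ (j pt) ∈ WU.ι ''ᵁ ⟨T, hT⟩ :=
      hgen W hW hxW _ ((WU.ι_image_le _).trans inf_le_left) ⟨WU.ι t, t, ht, rfl⟩
    obtain ⟨t', ht', htη⟩ := h1
    have : c pt = t' := WU.ι.isOpenEmbedding.injective (by
      rw [← Scheme.Hom.comp_apply, hc, Scheme.Hom.comp_apply]; exact htη.symm)
    rw [this]; exact ht'
  refine ext_of_isDominant_of_isSeparated q ?_ c ?_
  · simp only [Category.assoc, hg₀S, hf, Scheme.homOfLE_ι_assoc]
  · have h1 : c ≫ X.homOfLE (inf_le_left : WU ≤ W) ≫ X.homOfLE hWle = j ≫ W₀.fromSpecStalkOfMem x hxW₀ := by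
      rw [← cancel_mono W₀.ι]
      simp only [Category.assoc, Scheme.homOfLE_ι, hc, Scheme.Opens.fromSpecStalkOfMem_ι]
      rfl
    have h2 : c ≫ X.homOfLE (inf_le_right : WU ≤ U) = i₁ := by
      rw [← cancel_mono U.ι, Category.assoc, Scheme.homOfLE_ι, hc, hi₁]
    calc c ≫ X.homOfLE _ ≫ X.homOfLE hWle ≫ g₀ = (c ≫ X.homOfLE (inf_le_left : WU ≤ W) ≫ X.homOfLE hWle) ≫ g₀ := by
          simp only [Category.assoc]
      _ = j ≫ l := by rw [h1, Category.assoc, ← hg₀]
      _ = i₁ ≫ f := hl₁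
      _ = _ := by rw [← h2, Category.assoc]

/-- A morphism into a proper scheme, defined on a dense open of a smooth scheme over a base all of whose smooth
schemes are regular, extends to all points of codimension at most one. -/
theorem exists_extension_codim_one {X G S : Scheme.{u}} [IsLocallyNoetherian S] (hS : SmoothRegular S) (pX : X ⟶ S) [Smooth pX]
    (q : G ⟶ S) [IsProper q] (U : X.Opens) (hU : Dense (U : Set X)) (f : U.toScheme ⟶ G) (hf : f ≫ q = U.ι ≫ pX) :
    ∃ (U' : X.Opens) (hle : U ≤ U'), (∀ x : X, ringKrullDim (X.presheaf.stalk x) ≤ 1 → x ∈ U') ∧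
      ∃ f' : U'.toScheme ⟶ G, f' ≫ q = U'.ι ≫ pX ∧ X.homOfLE hle ≫ f' = f := by
  have : IsReduced X := isReduced_of_smooth_regular hS pX
  choose V hxV g hg hag using fun x : {x : X // ringKrullDim (X.presheaf.stalk x) ≤ 1} =>
    exists_extend_at_codim_one hS pX q U hU f hf x.1 x.2
  let V' : Option {x : X // ringKrullDim (X.presheaf.stalk x) ≤ 1} → X.Opens
    | none => U
    | some x => V x
  let g' : ∀ i, (V' i).toScheme ⟶ G
    | none => f
    | some x => g x
  have hag' : ∀ i, Agree (g' i) f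
    | none => fun W a b hab => by rw [(cancel_mono U.ι).1 hab]
    | some x => hag x
  have hg' : ∀ i, g' i ≫ q = (V' i).ι ≫ pX
    | none => hf
    | some x => hg x
  obtain ⟨F, hF, hFi⟩ := exists_glue pX q U hU f V' g' hg' hag'
  exact ⟨⨆ i, V' i, le_iSup V' none, fun x hx => Opens.mem_iSup.2 ⟨some ⟨x, hx⟩, hxV ⟨x, hx⟩⟩, F, hF, hFi none⟩

theorem two_le_of_not_le_one {d : WithBot ℕ∞} (h : ¬ d ≤ 1) : 2 ≤ d := by
  induction d with
  | bot => exact absurd bot_le h
  | coe d =>
    have h' : 1 < d := by simpa using h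
    exact WithBot.coe_le_coe.2 (Order.add_one_le_of_lt h' : (1 : ℕ∞) + 1 ≤ d)

/-- Weil's extension theorem for proper group schemes: it suffices that the points of `U` together with the
points of codimension at most one are dense in every fibre. -/
theorem weil_extension_proper {X G S : Scheme.{u}} [IsLocallyNoetherian S] [S.IsSeparated] (hS : SmoothRegular S)
    (pX : X ⟶ S) [Smooth pX] (pG : G ⟶ S) [GrpObj (Over.mk pG)] [IsProper pG] (U : X.Opens)
    (hU : Dense (U : Set X))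
    (hdense : ∀ x : X, x ∈ closure (((U : Set X) ∪ {y | ringKrullDim (X.presheaf.stalk y) ≤ 1}) ∩ {y | pX.base y = pX.base x}))
    (f : U.toScheme ⟶ G) (hf : f ≫ pG = U.ι ≫ pX) :
    ∃! g : X ⟶ G, g ≫ pG = pX ∧ U.ι ≫ g = f := by
  obtain ⟨U', hle, hU', f', hf', hf'U⟩ := exists_extension_codim_one hS pX pG U hU f hf
  have hd : ∀ x : X, x ∈ closure ((U' : Set X) ∩ {y | pX.base y = pX.base x}) := fun x =>
    closure_mono (Set.inter_subset_inter_left _ (Set.union_subset hle fun y hy => hU' y hy)) (hdense x)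
  obtain ⟨g, ⟨hg, hgU⟩, -⟩ := weil_extension hS pX pG U' f' hf' hd
    (fun x hx => two_le_of_not_le_one fun h => hx (hU' x h))
  have hgU' : U.ι ≫ g = f := by rw [← X.homOfLE_ι hle, Category.assoc, hgU, hf'U]
  have : IsReduced X := isReduced_of_smooth_regular hS pX
  exact ⟨g, ⟨hg, hgU'⟩, fun g' hg' => ext_of_dense pG _ _ (hg'.1.trans hg.symm) U hU (hg'.2.trans hgU'.symm)⟩

end Groth.Agent.NeronLib
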