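import Groth.Agent.NeronLib.ExtendAt
import Mathlib.AlgebraicGeometry.Morphisms.UniversallyOpen
import Mathlib.AlgebraicGeometry.Morphisms.Smooth
import Mathlib.AlgebraicGeometry.Sites.Fpqc
import Mathlib.AlgebraicGeometry.Fiber
import Mathlib.CategoryTheory.Monoidal.Cartesian.Over
import Mathlib.CategoryTheory.Monoidal.Cartesian.Grp

/-!
# Weil's extension theorem for maps into group schemes
-/

universe u

set_option autoImplicit false

open AlgebraicGeometry CategoryTheory Limits TopologicalSpace MonoidalCategory CartesianMonoidalCategory MonObj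

namespace Groth.Agent.NeronLib

/-- All schemes smooth over `S` are regular. -/
def SmoothRegular (S : Scheme.{u}) : Prop :=
  ∀ ⦃Y : Scheme.{u}⦄ (p : Y ⟶ S), Smooth p → ∀ y, IsRegularLocalRing (Y.presheaf.stalk y)

theorem smoothRegular_spec (R : Type u) [CommRing R] [IsRegularRing R] :
    SmoothRegular (Spec (CommRingCat.of R)) :=
  fun _ p _ y => isRegularLocalRing_stalk_of_smooth p y

theorem isReduced_of_smooth_regular {S : Scheme.{u}} (hS : SmoothRegular S) {Y : Scheme.{u}} (p : Y ⟶ S) [Smooth p] :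
    IsReduced Y :=
  isReduced_of_regular (hS p ‹_›)

theorem dense_of_fibrewise {X S : Scheme.{u}} (pX : X ⟶ S) (U : X.Opens)
    (hdense : ∀ x : X, x ∈ closure ((U : Set X) ∩ {y | pX.base y = pX.base x})) : Dense (U : Set X) :=
  fun x => closure_mono Set.inter_subset_left (hdense x)

section

variable {S X G : Scheme.{u}} [IsLocallyNoetherian S] [S.IsSeparated] (hS : SmoothRegular S)
  (pX : X ⟶ S) (pG : G ⟶ S) [Smooth pX] [GrpObj (Over.mk pG)] [IsSeparated pG] [LocallyOfFiniteType pG]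
  (U : X.Opens) (f : U.toScheme ⟶ G) (hf : f ≫ pG = U.ι ≫ pX)

/-- `U ×_S U` as an open of `X ×_S X`. -/
noncomputable abbrev sq : (pullback pX pX).Opens := pullback.fst pX pX ⁻¹ᵁ U ⊓ pullback.snd pX pX ⁻¹ᵁ U

noncomputable abbrev sqFst : (sq pX U).toScheme ⟶ U.toScheme :=
  IsOpenImmersion.lift U.ι ((sq pX U).ι ≫ pullback.fst pX pX) (by
    rw [Scheme.Opens.range_ι]; rintro _ ⟨w, rfl⟩; exact w.2.1)

noncomputable abbrev sqSnd : (sq pX U).toScheme ⟶ U.toScheme :=
  IsOpenImmersion.lift U.ι ((sq pX U).ι ≫ pullback.snd pX pX) (by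
    rw [Scheme.Opens.range_ι]; rintro _ ⟨w, rfl⟩; exact w.2.2)

/-- The morphism `f` composed with `c`, over `S`. -/
noncomputable abbrev fAt {T : Scheme.{u}} (t : T ⟶ S) (c : T ⟶ U.toScheme) (hc : c ≫ U.ι ≫ pX = t) :
    Over.mk t ⟶ Over.mk pG :=
  Over.homMk (c ≫ f) (by show (c ≫ f) ≫ pG = t; rw [Category.assoc, hf, hc])

theorem sqFst_w : sqFst pX U ≫ U.ι ≫ pX = (sq pX U).ι ≫ pullback.fst pX pX ≫ pX := by
  rw [← Category.assoc, IsOpenImmersion.lift_fac, Category.assoc]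

theorem sqSnd_w : sqSnd pX U ≫ U.ι ≫ pX = (sq pX U).ι ≫ pullback.fst pX pX ≫ pX := by
  rw [← Category.assoc, IsOpenImmersion.lift_fac, Category.assoc, pullback.condition]

/-- `(x, y) ↦ f(x) f(y)⁻¹` on `U ×_S U`. -/
noncomputable abbrev sqDiff : Over.mk ((sq pX U).ι ≫ pullback.fst pX pX ≫ pX) ⟶ Over.mk pG :=
  fAt pX pG U f hf _ (sqFst pX U) (sqFst_w pX U) * (fAt pX pG U f hf _ (sqSnd pX U) (sqSnd_w pX U))⁻¹

theorem comp_sqDiff {T : Scheme.{u}} (t : T ⟶ S) (c : T ⟶ (sq pX U).toScheme)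
    (hc : c ≫ (sq pX U).ι ≫ pullback.fst pX pX ≫ pX = t) :
    (Over.homMk c hc : Over.mk t ⟶ Over.mk ((sq pX U).ι ≫ pullback.fst pX pX ≫ pX)) ≫ sqDiff pX pG U f hf =
      fAt pX pG U f hf t (c ≫ sqFst pX U) (by rw [Category.assoc, sqFst_w, hc]) *
        (fAt pX pG U f hf t (c ≫ sqSnd pX U) (by rw [Category.assoc, sqSnd_w, hc]))⁻¹ := by
  rw [MonObj.comp_mul, GrpObj.comp_inv]
  congr 1

include hS hf in
theorem exists_diag_extension (hcodim : ∀ x : X, x ∉ U → (2 : WithBot ℕ∞) ≤ ringKrullDim (X.presheaf.stalk x))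
    (x : X) : ∃ (W : (pullback pX pX).Opens) (_ : pullback.diagonal pX x ∈ W) (F : W.toScheme ⟶ G),
      F ≫ pG = W.ι ≫ pullback.fst pX pX ≫ pX ∧ Agree F (sqDiff pX pG U f hf).left := by
  have : IsLocallyNoetherian X := LocallyOfFiniteType.isLocallyNoetherian pX
  have : IsLocallyNoetherian (pullback pX pX) := LocallyOfFiniteType.isLocallyNoetherian (pullback.fst pX pX ≫ pX)
  let Δ := pullback.diagonal pX
  let e : S ⟶ G := η[Over.mk pG].left
  obtain ⟨V, hV, hxV, -⟩ := exists_isAffineOpen_mem_and_subset (x := e (pX x)) (U := ⊤) trivial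
  refine exists_extend_at (pullback.fst pX pX ≫ pX) pG (Δ x) (hS (pullback.fst pX pX ≫ pX) inferInstance _) (sq pX U)
    (sqDiff pX pG U f hf).left (Over.w (sqDiff pX pG U f hf)) V hV fun π hπ => ?_
  have := hS pX ‹_› x
  have hπ' : Δ.stalkMap x π ∈ IsLocalRing.maximalIdeal (X.presheaf.stalk x) := map_nonunit (Δ.stalkMap x).hom π hπ
  obtain ⟨p, hp, hple⟩ := Ideal.exists_minimalPrimes_le
    (show Ideal.span {Δ.stalkMap x π} ≤ IsLocalRing.maximalIdeal (X.presheaf.stalk x) from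
      (Ideal.span_singleton_le_iff_mem _).2 hπ')
  have hpp : p.IsPrime := hp.1.1
  have hh : p.height ≤ 1 := Ideal.height_le_one_of_isPrincipal_of_mem_minimalPrimes _ p hp
  let q' : Spec (X.presheaf.stalk x) := ⟨p, hpp⟩
  let u := X.fromSpecStalk x q'
  have hu : u ∈ U := by
    by_contra hu
    have h2 := hcodim u hu
    rw [ringKrullDim_stalk_eq_coheight] at h2
    have h3 := (coheight_fromSpecStalk_le x q').trans_eq (idealHeight_eq_coheight (X.presheaf.stalk x) q').symm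
    have h4 : (2 : ℕ∞) ≤ 1 := (WithBot.coe_le_coe.1 h2).trans (h3.trans hh)
    exact absurd h4 (by decide)
  refine ⟨Spec.map (Δ.stalkMap x) q', hp.1.2 (Ideal.mem_span_singleton_self _), ?_⟩
  have hu' : (pullback pX pX).fromSpecStalk (Δ x) (Spec.map (Δ.stalkMap x) q') = Δ u := by
    rw [← Scheme.Hom.comp_apply, Scheme.SpecMap_stalkMap_fromSpecStalk, Scheme.Hom.comp_apply]
  rw [hu']
  let d : U.toScheme ⟶ (sq pX U).toScheme := IsOpenImmersion.lift (sq pX U).ι (U.ι ≫ Δ) (by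
    rw [Scheme.Opens.range_ι]
    rintro _ ⟨w, rfl⟩
    constructor
    · show (Δ ≫ pullback.fst pX pX) (U.ι w) ∈ U
      rw [pullback.diagonal_fst]; exact w.2
    · show (Δ ≫ pullback.snd pX pX) (U.ι w) ∈ U
      rw [pullback.diagonal_snd]; exact w.2)
  have hd : d ≫ (sq pX U).ι = U.ι ≫ Δ := IsOpenImmersion.lift_fac _ _ _
  have hda : d ≫ sqFst pX U = 𝟙 _ := by
    rw [← cancel_mono U.ι, Category.assoc, IsOpenImmersion.lift_fac, reassoc_of% hd, pullback.diagonal_fst,
      Category.comp_id, Category.id_comp]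
  have hdb : d ≫ sqSnd pX U = 𝟙 _ := by
    rw [← cancel_mono U.ι, Category.assoc, IsOpenImmersion.lift_fac, reassoc_of% hd, pullback.diagonal_snd,
      Category.comp_id, Category.id_comp]
  have hdS : d ≫ (sq pX U).ι ≫ pullback.fst pX pX ≫ pX = U.ι ≫ pX := by
    rw [reassoc_of% hd, pullback.diagonal_fst_assoc]
  refine ⟨d ⟨u, hu⟩, ?_, congrArg (fun k : U.toScheme ⟶ pullback pX pX => k ⟨u, hu⟩) hd⟩
  show (sqDiff pX pG U f hf).left (d ⟨u, hu⟩) ∈ V
  have h1 := congrArg CommaMorphism.left (comp_sqDiff pX pG U f hf _ d hdS)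
  simp only [hda, hdb, mul_inv_cancel, Hom.one_def, Over.comp_left, Over.toUnit_left, Over.homMk_left] at h1
  rw [← Scheme.Hom.comp_apply, h1]
  have h5 : pX u ⤳ pX x :=
    ((Scheme.range_fromSpecStalk (X := X) (x := x)).le ⟨q', rfl⟩ : u ⤳ x).map pX.continuous
  exact (h5.map e.continuous).mem_open V.isOpen hxV

include hS hf in
theorem exists_local_extension (hdense : ∀ x : X, x ∈ closure ((U : Set X) ∩ {y | pX.base y = pX.base x}))
    (hcodim : ∀ x : X, x ∉ U → (2 : WithBot ℕ∞) ≤ ringKrullDim (X.presheaf.stalk x))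
    (x : X) : ∃ (V : X.Opens) (_ : x ∈ V) (g : V.toScheme ⟶ G), g ≫ pG = V.ι ≫ pX ∧ Agree g f := by
  obtain ⟨W, hxW, F, hF, hFag⟩ := exists_diag_extension hS pX pG U f hf hcodim x
  let W₁ := W ⊓ pullback.snd pX pX ⁻¹ᵁ U
  let pr := W₁.ι ≫ pullback.fst pX pX
  have : Smooth pr := inferInstance
  -- the fibre of `W₁` over `x` is not empty
  have hx : x ∈ Set.range pr := by
    let s := pX x
    let t := Spec.map (pX.residueFieldMap x)
    let P := pullback (pX.fiberToSpecResidueField s) t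
    let m : P ⟶ pullback pX pX :=
      pullback.lift (pullback.snd _ _ ≫ X.fromSpecResidueField x) (pullback.fst _ _ ≫ pX.fiberι s) (by
        rw [Category.assoc, Category.assoc, Scheme.Hom.fiber_fac, pullback.condition_assoc,
          Scheme.Hom.SpecMap_residueFieldMap_fromSpecResidueField])
    let p₀ : Spec (X.residueField x) ⟶ P := pullback.lift (pX.asFiberHom x) (𝟙 _) ((pX.asFiberHom_fiberToSpecResidueField x).trans (Category.id_comp _).symm)
    have hp₀ : p₀ ≫ m = X.fromSpecResidueField x ≫ pullback.diagonal pX := by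
      apply pullback.hom_ext
      · simp only [m, p₀, Category.assoc, pullback.lift_fst, pullback.lift_snd_assoc, pullback.diagonal_fst,
          Category.comp_id, Category.id_comp]
      · simp only [m, p₀, Category.assoc, pullback.lift_snd, pullback.lift_fst_assoc, pullback.diagonal_snd,
          Category.comp_id]
        exact pX.asFiberHom_fiberι x
    let a := p₀ (IsLocalRing.closedPoint _)
    have ha : a ∈ m ⁻¹ᵁ W := by
      show m (p₀ _) ∈ W
      rw [← Scheme.Hom.comp_apply, hp₀, Scheme.Hom.comp_apply, Scheme.fromSpecResidueField_apply]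
      exact hxW
    have : UniversallyOpen t := inferInstance
    have hopen := (pullback.fst (pX.fiberToSpecResidueField s) t).isOpenMap _ (m ⁻¹ᵁ W).isOpen
    obtain ⟨T, hT, hTeq⟩ := ((pX.fiberι s).isEmbedding.isInducing.isOpen_iff).1 hopen
    have hy : pX (pX.fiberι s (pullback.fst (pX.fiberToSpecResidueField s) t a)) = s :=
      (pX.range_fiberι s).le ⟨_, rfl⟩
    obtain ⟨y, hyT, hyU, hys⟩ := mem_closure_iff.1 (hdense (pX.fiberι s (pullback.fst (pX.fiberToSpecResidueField s) t a)))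
      T hT (hTeq.ge ⟨a, ha, rfl⟩)
    obtain ⟨y', hy'⟩ := (pX.range_fiberι s).ge (show pX y = s from hys.trans hy)
    obtain ⟨b, hb, hby⟩ := hTeq.le (show y' ∈ pX.fiberι s ⁻¹' T by rw [Set.mem_preimage, hy']; exact hyT)
    have hb1 : m b ∈ W₁ := ⟨hb, by
      show (m ≫ pullback.snd pX pX) b ∈ U
      rw [pullback.lift_snd, Scheme.Hom.comp_apply, hby, hy']
      exact hyU⟩
    refine ⟨⟨m b, hb1⟩, ?_⟩
    show (m ≫ pullback.fst pX pX) b = x
    rw [pullback.lift_fst, Scheme.Hom.comp_apply, Scheme.fromSpecResidueField_apply]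
  let V : X.Opens := ⟨Set.range pr, pr.isOpenMap.isOpen_range⟩
  have htop : (⊤ : W₁.toScheme.Opens) = pr ⁻¹ᵁ V := (eq_top_iff.2 fun w _ => ⟨w, rfl⟩).symm
  let p' : W₁.toScheme ⟶ V.toScheme := W₁.toScheme.topIso.inv ≫ (W₁.toScheme.isoOfEq htop).hom ≫ pr ∣_ V
  have : Smooth (pr ∣_ V) := IsZariskiLocalAtTarget.restrict ‹_› V
  have : Smooth p' := inferInstance
  have hp' : p' ≫ V.ι = pr := by simp [p', morphismRestrict_ι]
  have : Surjective p' := ⟨fun v => by
    obtain ⟨w, hw⟩ := v.2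
    exact ⟨w, V.ι.isOpenEmbedding.injective (by rw [← Scheme.Hom.comp_apply, hp']; exact hw)⟩⟩
  -- the candidate on `W₁`
  let b₁ : W₁.toScheme ⟶ U.toScheme := IsOpenImmersion.lift U.ι (W₁.ι ≫ pullback.snd pX pX) (by
    rw [Scheme.Opens.range_ι]; rintro _ ⟨w, rfl⟩; exact w.2.2)
  have hb₁ : b₁ ≫ U.ι = W₁.ι ≫ pullback.snd pX pX := IsOpenImmersion.lift_fac _ _ _
  have hb₁w : b₁ ≫ U.ι ≫ pX = W₁.ι ≫ pullback.fst pX pX ≫ pX := by
    rw [reassoc_of% hb₁, pullback.condition]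
  let F₁ : Over.mk (W₁.ι ≫ pullback.fst pX pX ≫ pX) ⟶ Over.mk pG :=
    Over.homMk ((pullback pX pX).homOfLE (inf_le_left : W₁ ≤ W) ≫ F) (by
      exact (Category.assoc _ _ _).trans ((congrArg (_ ≫ ·) hF).trans ((pullback pX pX).homOfLE_ι_assoc inf_le_left _)))
  let gh : W₁.toScheme ⟶ G := (F₁ * fAt pX pG U f hf _ b₁ hb₁w).left
  have hgh : gh ≫ pG = pr ≫ pX := (Over.w (F₁ * fAt pX pG U f hf _ b₁ hb₁w)).trans (Category.assoc _ _ _).symm
  have key : ∀ (T : Scheme.{u}) (c : T ⟶ W₁.toScheme) (d : T ⟶ U.toScheme), c ≫ pr = d ≫ U.ι → c ≫ gh = d ≫ f := by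
    intro T c d hcd
    let c' : T ⟶ (sq pX U).toScheme := IsOpenImmersion.lift (sq pX U).ι (c ≫ W₁.ι) (by
      rw [Scheme.Opens.range_ι]
      rintro _ ⟨w, rfl⟩
      refine ⟨?_, (c w).2.2⟩
      show (c ≫ pr) w ∈ U
      rw [hcd]
      exact (d w).2)
    have hc' : c' ≫ (sq pX U).ι = c ≫ W₁.ι := IsOpenImmersion.lift_fac _ _ _
    have h1 : c' ≫ sqFst pX U = d := by
      rw [← cancel_mono U.ι, Category.assoc, IsOpenImmersion.lift_fac, reassoc_of% hc', ← hcd]
    have h2 : c' ≫ sqSnd pX U = c ≫ b₁ := by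
      rw [← cancel_mono U.ι, Category.assoc, IsOpenImmersion.lift_fac, reassoc_of% hc', Category.assoc, hb₁]
    have h3 : (Over.homMk c : Over.mk (c ≫ W₁.ι ≫ pullback.fst pX pX ≫ pX) ⟶ Over.mk (W₁.ι ≫ pullback.fst pX pX ≫ pX)) ≫ F₁ =
        (Over.homMk c' ((Category.assoc _ _ _).symm.trans ((congrArg (· ≫ pullback.fst pX pX ≫ pX) hc').trans (Category.assoc _ _ _))) : Over.mk (c ≫ W₁.ι ≫ pullback.fst pX pX ≫ pX) ⟶
          Over.mk ((sq pX U).ι ≫ pullback.fst pX pX ≫ pX)) ≫ sqDiff pX pG U f hf := by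
      refine Over.OverMorphism.ext ?_
      show c ≫ (pullback pX pX).homOfLE _ ≫ F = c' ≫ (sqDiff pX pG U f hf).left
      rw [← Category.assoc]
      exact hFag _ _ _ (by rw [Category.assoc, Scheme.homOfLE_ι, hc'])
    have h4 : (Over.homMk c : Over.mk (c ≫ W₁.ι ≫ pullback.fst pX pX ≫ pX) ⟶ Over.mk (W₁.ι ≫ pullback.fst pX pX ≫ pX)) ≫
        (F₁ * fAt pX pG U f hf _ b₁ hb₁w) = fAt pX pG U f hf _ d (by rw [← Category.assoc, ← hcd, Category.assoc, Category.assoc]) := by
      rw [MonObj.comp_mul, h3, comp_sqDiff]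
      simp only [h1, h2]
      refine Eq.trans ?_ (inv_mul_cancel_right _ (fAt pX pG U f hf _ (c ≫ b₁) (by rw [Category.assoc, hb₁w])))
      congr 1
    exact congrArg CommaMorphism.left h4
  -- descent along `p'`
  have hker : ∀ {Z : Scheme.{u}} (g₁ g₂ : Z ⟶ W₁.toScheme), g₁ ≫ p' = g₂ ≫ p' → g₁ ≫ gh = g₂ ≫ gh := by
    intro Z g₁ g₂ hg
    suffices hs : pullback.fst p' p' ≫ gh = pullback.snd p' p' ≫ gh by
      have := congrArg (pullback.lift g₁ g₂ hg ≫ ·) hs
      simpa only [pullback.lift_fst_assoc, pullback.lift_snd_assoc] using this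
    let a := pullback.fst p' p' ≫ pr
    have ha : pullback.snd p' p' ≫ pr = a := by
      rw [← hp', ← Category.assoc, ← pullback.condition, Category.assoc, hp']
    have : Smooth a := inferInstance
    have : IsReduced (pullback p' p') := isReduced_of_smooth_regular hS (a ≫ pX)
    refine ext_of_dense pG _ _ ?_ (a ⁻¹ᵁ U) ((dense_of_fibrewise pX U hdense).preimage a.isOpenMap) ?_
    · rw [Category.assoc, Category.assoc, hgh]
      exact (Category.assoc _ _ _).symm.trans ((congrArg (· ≫ pX) ha.symm).trans (Category.assoc _ _ _))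
    · rw [← Category.assoc, ← Category.assoc,
        key _ ((a ⁻¹ᵁ U).ι ≫ pullback.fst p' p') (a ∣_ U) (by rw [morphismRestrict_ι, Category.assoc]),
        key _ ((a ⁻¹ᵁ U).ι ≫ pullback.snd p' p') (a ∣_ U) (by rw [morphismRestrict_ι, Category.assoc, ha])]
  refine ⟨V, hx, EffectiveEpi.desc p' gh hker, ?_, fun T c d hcd => ?_⟩
  · rw [← cancel_epi p', EffectiveEpi.fac_assoc, hgh, ← Category.assoc, hp']
  · rw [← cancel_epi (pullback.fst c p'), ← Category.assoc, pullback.condition, Category.assoc, EffectiveEpi.fac,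
      ← Category.assoc (pullback.fst c p'), key _ (pullback.snd c p') (pullback.fst c p' ≫ d)]
    rw [← hp', ← Category.assoc, ← pullback.condition, Category.assoc, hcd, Category.assoc]

include hS hf in
/-- Weil's extension theorem. -/
theorem weil_extension (hdense : ∀ x : X, x ∈ closure ((U : Set X) ∩ {y | pX.base y = pX.base x}))
    (hcodim : ∀ x : X, x ∉ U → (2 : WithBot ℕ∞) ≤ ringKrullDim (X.presheaf.stalk x)) :
    ∃! g : X ⟶ G, g ≫ pG = pX ∧ U.ι ≫ g = f := by
  choose V hxV g hg hag using exists_local_extension hS pX pG U f hf hdense hcodim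
  have : IsReduced X := isReduced_of_smooth_regular hS pX
  obtain ⟨g', hg', hg'i⟩ := exists_glue pX pG U (dense_of_fibrewise pX U hdense) f V g hg hag
  have htop : ⊤ ≤ ⨆ i, V i := fun y _ => Opens.mem_iSup.2 ⟨y, hxV y⟩
  let G₀ : X ⟶ G := X.topIso.inv ≫ X.homOfLE htop ≫ g'
  have hι : ∀ i, (V i).ι ≫ G₀ = g i := fun i => by
    rw [← hg'i i]
    simp only [G₀, ← Category.assoc]
    congr 1
    rw [← cancel_mono (⨆ i, V i).ι]
    simp
  have hG₀ : G₀ ≫ pG = pX := by
    simp only [G₀, Category.assoc, hg', Scheme.homOfLE_ι_assoc]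
    simp
  have hU : U.ι ≫ G₀ = f := by
    refine Scheme.hom_ext_of_forall _ _ fun u => ⟨U.ι ⁻¹ᵁ V (U.ι u), hxV _, ?_⟩
    have h := morphismRestrict_ι U.ι (V (U.ι u))
    rw [← Category.assoc, ← h, Category.assoc, hι]
    exact hag _ _ _ _ h
  refine ⟨G₀, ⟨hG₀, hU⟩, fun g₂ hg₂ => ?_⟩
  exact ext_of_dense pG _ _ (hg₂.1.trans hG₀.symm) U (dense_of_fibrewise pX U hdense) (hg₂.2.trans hU.symm)

end

end Groth.Agent.NeronLib
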