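import Groth.Agent.CAlgH.KrullAkizukiLength
import Mathlib

/-!
# Flat finite type algebras over Dedekind domains with finite generic fibre are quasi-finite
-/

universe u

set_option autoImplicit false
set_option maxHeartbeats 400000

open scoped TensorProduct

namespace Groth.Agent.NeronLib

section Domain

variable (R D : Type u) [CommRing R] [IsDomain R] [CommRing D] [IsDomain D] [Algebra R D]

theorem injective_toGeneric (hinjR : Function.Injective (algebraMap R D)) :
    Function.Injective (Algebra.TensorProduct.includeRight : D →ₐ[R] FractionRing R ⊗[R] D) := by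
  have : IsLocalizedModule (nonZeroDivisors R) (TensorProduct.mk R (FractionRing R) D 1) :=
    (isLocalizedModule_iff_isBaseChange (nonZeroDivisors R) (FractionRing R) _).2 (TensorProduct.isBaseChange R D _)
  intro a b hab
  obtain ⟨c, hc⟩ := (IsLocalizedModule.eq_iff_exists (nonZeroDivisors R) (TensorProduct.mk R (FractionRing R) D 1)).1 hab
  simp only [Submonoid.smul_def, Algebra.smul_def] at hc
  exact mul_left_cancel₀ (fun h => nonZeroDivisors.ne_zero c.2 (hinjR (h.trans (map_zero _).symm))) hc

variable [Module.Finite (FractionRing R) (FractionRing R ⊗[R] D)]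

theorem eq_bot_of_comap_eq_bot (hinjR : Function.Injective (algebraMap R D)) (P : Ideal D)
    (hP : P.comap (algebraMap R D) = ⊥) : P = ⊥ := by
  refine eq_bot_iff.2 fun d hd => ?_
  rw [Ideal.mem_bot]
  by_contra hd0
  let φ : D →ₐ[R] FractionRing R ⊗[R] D := Algebra.TensorProduct.includeRight
  have hint : IsAlgebraic (FractionRing R) (φ d) := (IsIntegral.of_finite (FractionRing R) _).isAlgebraic
  have halg : IsAlgebraic R d :=
    (isAlgebraic_algHom_iff φ (injective_toGeneric R D hinjR)).1
      ((IsFractionRing.isAlgebraic_iff R (FractionRing R) _).2 hint)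
  obtain ⟨r, hr, c, hc⟩ := halg.exists_nonzero_dvd (mem_nonZeroDivisors_of_ne_zero hd0)
  have h2 : r ∈ P.comap (algebraMap R D) := by
    rw [Ideal.mem_comap, hc]; exact P.mul_mem_right c hd
  rw [hP, Ideal.mem_bot] at h2
  exact hr h2

theorem finite_primes_containing [IsNoetherianRing R] [Ring.KrullDimLE 1 R]
    (hinjR : Function.Injective (algebraMap R D)) (π : R) (hπ : π ≠ 0) :
    {P : Ideal D | P.IsPrime ∧ algebraMap R D π ∈ P}.Finite := by
  let b := Module.finBasis (FractionRing R) (FractionRing R ⊗[R] D)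
  let φ : D →ₗ[R] (Fin (Module.finrank (FractionRing R) (FractionRing R ⊗[R] D)) → FractionRing R) :=
    (b.equivFun.restrictScalars R).toLinearMap ∘ₗ
      (Algebra.TensorProduct.includeRight : D →ₐ[R] FractionRing R ⊗[R] D).toLinearMap
  have hlen := CAlgH.length_quot_ne_top (R := R) (K := FractionRing R) hπ D φ
    (((b.equivFun.restrictScalars R).injective).comp (injective_toGeneric R D hinjR))
  have hart := (isFiniteLength_iff_isNoetherian_isArtinian.1 (Module.length_ne_top_iff.1 hlen)).2
  let J : Ideal D := Ideal.span {algebraMap R D π}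
  let g : (D ⧸ (Ideal.span ({π} : Set R) • (⊤ : Submodule R D))) →ₗ[R] D ⧸ J :=
    Submodule.liftQ _ (Ideal.Quotient.mkₐ R J).toLinearMap (by
      refine Submodule.smul_le.2 fun r hr x _ => ?_
      obtain ⟨c, rfl⟩ := Ideal.mem_span_singleton.1 hr
      rw [LinearMap.mem_ker, AlgHom.toLinearMap_apply, Ideal.Quotient.mkₐ_eq_mk, Ideal.Quotient.eq_zero_iff_mem,
        Algebra.smul_def, map_mul, mul_assoc]
      exact J.mul_mem_right _ (Ideal.subset_span rfl))
  have hg : Function.Surjective g := fun y => by
    obtain ⟨x, rfl⟩ := Ideal.Quotient.mk_surjective y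
    exact ⟨Submodule.Quotient.mk x, rfl⟩
  have : IsArtinian R (D ⧸ J) := isArtinian_of_surjective _ g hg
  have : IsArtinianRing (D ⧸ J) := isArtinian_of_tower R this
  refine (Set.finite_range fun P : PrimeSpectrum (D ⧸ J) => P.asIdeal.comap (Ideal.Quotient.mk J)).subset ?_
  rintro P ⟨hP, hπP⟩
  have hJ : J ≤ P := (Ideal.span_singleton_le_iff_mem _).2 hπP
  have hP' : (P.map (Ideal.Quotient.mk J)).IsPrime :=
    Ideal.map_isPrime_of_surjective Ideal.Quotient.mk_surjective (by rwa [Ideal.mk_ker])
  refine ⟨⟨_, hP'⟩, ?_⟩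
  show (P.map (Ideal.Quotient.mk J)).comap _ = P
  rw [Ideal.comap_map_of_surjective _ Ideal.Quotient.mk_surjective, ← RingHom.ker_eq_comap_bot, Ideal.mk_ker,
    sup_eq_left.2 hJ]

end Domain

theorem quasiFinite_of_flat_of_finite_generic (R B : Type u) [CommRing R] [IsDedekindDomain R] [CommRing B]
    [Algebra R B] [Algebra.FiniteType R B] [Module.Flat R B]
    [Module.Finite (FractionRing R) (FractionRing R ⊗[R] B)] : Algebra.QuasiFinite R B := by
  have : IsNoetherianRing B := Algebra.FiniteType.isNoetherianRing R B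
  have : Module.IsTorsionFree R B := inferInstance
  have : Ring.KrullDimLE 1 R := inferInstance
  have hinj : ∀ q ∈ minimalPrimes B, Function.Injective (algebraMap R (B ⧸ q)) := by
    intro q hq
    refine (injective_iff_map_eq_zero _).2 fun r hr => ?_
    by_contra h0
    refine (Ideal.disjoint_nonZeroDivisors_of_mem_minimalPrimes hq).le_bot
      ⟨(Ideal.Quotient.eq_zero_iff_mem.1 hr : algebraMap R B r ∈ q), ?_⟩
    refine mem_nonZeroDivisors_iff_right.2 fun b hb => ?_
    exact (smul_eq_zero.1 (show r • b = 0 by rw [Algebra.smul_def, mul_comm]; exact hb)).resolve_left h0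
  have hfinK : ∀ q : Ideal B, Module.Finite (FractionRing R) (FractionRing R ⊗[R] (B ⧸ q)) := fun q =>
    Module.Finite.of_surjective ((Ideal.Quotient.mkₐ R q).toLinearMap.baseChange (FractionRing R))
      (LinearMap.lTensor_surjective _ Ideal.Quotient.mk_surjective)
  have hback : ∀ (q P : Ideal B), q ≤ P → (P.map (Ideal.Quotient.mk q)).comap (Ideal.Quotient.mk q) = P :=
    fun q P h => by
      rw [Ideal.comap_map_of_surjective _ Ideal.Quotient.mk_surjective, ← RingHom.ker_eq_comap_bot, Ideal.mk_ker,
        sup_eq_left.2 h]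
  have hfin : (minimalPrimes B).Finite := minimalPrimes.finite_of_isNoetherianRing B
  refine Algebra.QuasiFinite.iff_finite_primesOver.2 fun p hp => ?_
  by_cases hp0 : p = ⊥
  · refine hfin.subset fun P hP => ?_
    have hPp := hP.1
    obtain ⟨q, hq, hqP⟩ := Ideal.exists_minimalPrimes_le (I := (⊥ : Ideal B)) (J := P) bot_le
    have := hq.1.1
    have := hfinK q
    have h := eq_bot_of_comap_eq_bot R (B ⧸ q) (hinj q hq) (P.map (Ideal.Quotient.mk q)) (by
      show (P.map (Ideal.Quotient.mk q)).comap ((Ideal.Quotient.mk q).comp (algebraMap R B)) = ⊥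
      rw [← Ideal.comap_comap, hback q P hqP, ← Ideal.under_def, ← hP.2.over, hp0])
    have : P = q := by
      rw [← hback q P hqP, h, ← RingHom.ker_eq_comap_bot, Ideal.mk_ker]
    rwa [this]
  · obtain ⟨π, hπp, hπ⟩ := Submodule.exists_mem_ne_zero_of_ne_bot hp0
    refine Set.Finite.subset (s := ⋃ q ∈ minimalPrimes B, (fun Q : Ideal (B ⧸ q) => Q.comap (Ideal.Quotient.mk q)) ''
        {Q | Q.IsPrime ∧ algebraMap R (B ⧸ q) π ∈ Q}) (hfin.biUnion fun q hq => ?_) fun P hP => Set.mem_iUnion₂.2 ?_
    · have := hq.1.1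
      have := hfinK q
      exact (finite_primes_containing R (B ⧸ q) (hinj q hq) π hπ).image _
    · have hPp := hP.1
      obtain ⟨q, hq, hqP⟩ := Ideal.exists_minimalPrimes_le (I := (⊥ : Ideal B)) (J := P) bot_le
      refine ⟨q, hq, P.map (Ideal.Quotient.mk q), ⟨Ideal.map_isPrime_of_surjective Ideal.Quotient.mk_surjective
        (by rwa [Ideal.mk_ker]), ?_⟩, hback q P hqP⟩
      refine Ideal.mem_map_of_mem _ ?_
      show π ∈ P.under R
      rw [← hP.2.over]
      exact hπp

end Groth.Agent.NeronLib
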