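import Mathlib

/-!
# The non-etale locus of a morphism between smooth algebras of the same relative dimension has codimension at most one
-/

set_option autoImplicit false

universe u

open TensorProduct

namespace Groth.Agent.NeronLib

variable (R B L : Type u) [CommRing R] [CommRing B] [CommRing L] [Algebra R B] [Algebra R L] [Algebra B L]
  [IsScalarTower R B L]

/-- A finite free linear map which is surjective at a prime has determinant outside it. -/
theorem det_notMem_of_surjective_at {M₁ M₂ : Type u} [AddCommGroup M₁] [Module L M₁] [AddCommGroup M₂] [Module L M₂]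
    {ι : Type u} [Fintype ι] [DecidableEq ι] (e : Module.Basis ι L M₁) (f : Module.Basis ι L M₂)
    (φ : M₁ →ₗ[L] M₂) (q : Ideal L) [q.IsPrime] (h : ∀ i, ∃ s ∉ q, s • f i ∈ LinearMap.range φ) :
    (LinearMap.toMatrix e f φ).det ∉ q := by
  choose s hs y hy using h
  intro hd
  have hcomp : φ ∘ₗ f.constr L y = f.constr L (fun i => s i • f i) := f.ext fun i => by simp [hy]
  have hdiag : LinearMap.toMatrix f f (f.constr L (fun i => s i • f i)) = Matrix.diagonal s := by
    ext i j
    rw [LinearMap.toMatrix_apply, Module.Basis.constr_basis]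
    by_cases hij : i = j
    · subst hij; simp
    · simp [Finsupp.single_eq_of_ne hij, Matrix.diagonal_apply_ne _ hij]
  have h1 := congrArg Matrix.det ((LinearMap.toMatrix_comp f e f φ (f.constr L y)).symm.trans
    ((congrArg (LinearMap.toMatrix f f) hcomp).trans hdiag))
  rw [Matrix.det_mul, Matrix.det_diagonal] at h1
  have hmem : ∏ i, s i ∈ q := h1 ▸ q.mul_mem_right _ hd
  obtain ⟨i, -, hi⟩ := (Ideal.IsPrime.prod_mem_iff (hp := ‹q.IsPrime›)).1 hmem
  exact hs i hi

/-- Purity: a map to a local ring of a smooth algebra which is formally etale at all primes of height at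
most one is formally etale. -/
theorem formallyEtale_of_height_le_one [IsLocalRing L] [IsNoetherianRing L] [Algebra.FormallySmooth R L]
    [Module.Finite B Ω[B⁄R]] [Module.Projective B Ω[B⁄R]] [Module.Finite L Ω[L⁄R]]
    (h : ∀ (q : Ideal L) [q.IsPrime], q.height ≤ 1 → Algebra.FormallyEtale B (Localization.AtPrime q)) :
    Algebra.FormallyEtale B L := by
  classical
  let φ : L ⊗[B] Ω[B⁄R] →ₗ[L] Ω[L⁄R] := KaehlerDifferential.mapBaseChange R B L
  have : Module.Free L (L ⊗[B] Ω[B⁄R]) := Module.free_of_flat_of_isLocalRing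
  have : Module.Free L Ω[L⁄R] := Module.free_of_flat_of_isLocalRing
  have hmin : ∀ d : L, ¬ IsUnit d → ∃ q : Ideal L, q.IsPrime ∧ d ∈ q ∧ q.height ≤ 1 := fun d hd => by
    obtain ⟨q, hq, -⟩ := Ideal.exists_minimalPrimes_le
      (show Ideal.span {d} ≤ IsLocalRing.maximalIdeal L by
        rw [Ideal.span_le, Set.singleton_subset_iff]; exact hd)
    exact ⟨q, hq.1.1, hq.1.2 (Ideal.mem_span_singleton_self d),
      Ideal.height_le_one_of_isPrincipal_of_mem_minimalPrimes (Ideal.span {d}) q hq⟩
  -- equality of ranks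
  have hrank : Module.finrank L (L ⊗[B] Ω[B⁄R]) = Module.finrank L Ω[L⁄R] := by
    obtain ⟨q, hq, -, hq1⟩ := hmin 0 not_isUnit_zero
    have := h q hq1
    let Lq := Localization.AtPrime q
    have hloc : IsLocalizedModule q.primeCompl (KaehlerDifferential.map R R L Lq) :=
      KaehlerDifferential.isLocalizedModule_map (R := R) (S := L) (T := Lq) q.primeCompl
    let b := Module.Free.chooseBasis L Ω[L⁄R]
    let b' := b.ofIsLocalizedModule Lq q.primeCompl (KaehlerDifferential.map R R L Lq)
    rw [← Module.finrank_baseChange (R := Lq) (S := L) (M' := L ⊗[B] Ω[B⁄R]),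
      (TensorProduct.AlgebraTensorModule.cancelBaseChange B L Lq Lq Ω[B⁄R]).finrank_eq,
      (KaehlerDifferential.tensorKaehlerEquivOfFormallyEtale R B Lq).finrank_eq,
      Module.finrank_eq_card_basis b', Module.finrank_eq_card_basis b]
  obtain ⟨ι, _, e⟩ : Σ' (ι : Type u) (_ : Fintype ι), Module.Basis ι L (L ⊗[B] Ω[B⁄R]) :=
    ⟨_, inferInstance, Module.Free.chooseBasis L _⟩
  let f : Module.Basis ι L Ω[L⁄R] := (Module.finBasisOfFinrankEq L Ω[L⁄R]
    (n := Fintype.card ι) (by rw [← hrank, Module.finrank_eq_card_basis e])).reindex (Fintype.equivFin ι).symm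
  have hunit : IsUnit (LinearMap.toMatrix e f φ).det := by
    by_contra hd
    obtain ⟨q, hq, hdq, hq1⟩ := hmin _ hd
    have := h q hq1
    let Lq := Localization.AtPrime q
    refine det_notMem_of_surjective_at L e f φ q (fun i => ?_) hdq
    have hloc : IsLocalizedModule q.primeCompl (KaehlerDifferential.map B B L Lq) :=
      KaehlerDifferential.isLocalizedModule_map (R := B) (S := L) (T := Lq) q.primeCompl
    obtain ⟨s, hs⟩ := (IsLocalizedModule.eq_zero_iff q.primeCompl (KaehlerDifferential.map B B L Lq)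
      (m := KaehlerDifferential.map R B L L (f i))).1 (Subsingleton.elim _ _)
    refine ⟨s.1, s.2, ?_⟩
    have h0 : KaehlerDifferential.map R B L L (s.1 • f i) = 0 := by
      rw [map_smul]; exact hs
    exact (KaehlerDifferential.exact_mapBaseChange_map R B L _).1 h0
  let E : (L ⊗[B] Ω[B⁄R]) ≃ₗ[L] Ω[L⁄R] := LinearEquiv.ofIsUnitDet hunit
  have hsurj : Function.Surjective φ := E.surjective
  have hinj : Function.Injective φ := E.injective
  refine ⟨?_, ?_⟩
  · refine ⟨fun x y => ?_⟩
    obtain ⟨x, rfl⟩ := KaehlerDifferential.map_surjective R B L x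
    obtain ⟨y, rfl⟩ := KaehlerDifferential.map_surjective R B L y
    obtain ⟨z, hz⟩ := hsurj (x - y)
    rw [← sub_eq_zero, ← map_sub, ← hz]
    exact (KaehlerDifferential.exact_mapBaseChange_map R B L).apply_apply_eq_zero z
  · refine ⟨fun x y => ?_⟩
    have hδ : ∀ z, Algebra.H1Cotangent.δ R B L z = 0 := fun z => hinj (by
      rw [map_zero]; exact (Algebra.H1Cotangent.exact_δ_mapBaseChange R B L).apply_apply_eq_zero z)
    obtain ⟨z, hz⟩ := (Algebra.H1Cotangent.exact_map_δ R B L (x - y)).1 (hδ _)
    rw [← sub_eq_zero, ← hz, Subsingleton.elim z 0, map_zero]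

end Groth.Agent.NeronLib
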