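import Mathlib
import Groth.Agent.NeronLib.EtalePurity
import Groth.Agent.FlatMor12.FibreFlat

/-!
# A morphism between smooth schemes which is etale over a big open of the base is etale
-/

set_option autoImplicit false

universe u

open CategoryTheory CategoryTheory.Limits AlgebraicGeometry

namespace Groth.Agent.NeronLib

/-- A morphism of smooth schemes which is etale over an open containing all points of codimension at most
one of the base is etale. -/
theorem etale_of_etale_codim_one {G H S : Scheme.{u}} (f : G ⟶ H) (pH : H ⟶ S) [Smooth pH] [Smooth (f ≫ pH)]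
    [IsLocallyNoetherian S] (U : S.Opens)
    (hU : ∀ s : S, s ∉ U → (2 : WithBot ℕ∞) ≤ ringKrullDim (S.presheaf.stalk s))
    (het : Etale (((f ≫ pH) ⁻¹ᵁ U).ι ≫ f)) : Etale f := by
  have : LocallyOfFinitePresentation f := Groth.Agent.FlatMor12.lfp_of_comp f pH
  have key : ∀ g : G, ∃ W : G.Opens, g ∈ W ∧ Etale (W.ι ≫ f) := by
    intro g
    obtain ⟨V, hV, hsV, -⟩ := exists_isAffineOpen_mem_and_subset (x := pH (f g)) (U := ⊤) trivial
    obtain ⟨W', hW', hhW', e'⟩ := exists_isAffineOpen_mem_and_subset (x := f g) (U := pH ⁻¹ᵁ V) hsV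
    obtain ⟨W, hW, hgW, e⟩ := exists_isAffineOpen_mem_and_subset (x := g) (U := f ⁻¹ᵁ W') hhW'
    have e1 : W ≤ f ⁻¹ᵁ W' := e
    have e2 : W' ≤ pH ⁻¹ᵁ V := e'
    have e3 : W ≤ (f ≫ pH) ⁻¹ᵁ V := fun y hy => e2 (e1 hy)
    have hRB := HasRingHomProperty.appLE @Smooth pH inferInstance ⟨V, hV⟩ ⟨W', hW'⟩ e2
    have hRA := HasRingHomProperty.appLE @Smooth (f ≫ pH) inferInstance ⟨V, hV⟩ ⟨W, hW⟩ e3
    have hBA := HasRingHomProperty.appLE @LocallyOfFinitePresentation f inferInstance ⟨W', hW'⟩ ⟨W, hW⟩ e1
    have hA : (f.appLE W' W e1).hom.Etale := by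
      algebraize [(pH.appLE V W' e2).hom, ((f ≫ pH).appLE V W e3).hom, (f.appLE W' W e1).hom]
      have : IsScalarTower Γ(S, V) Γ(H, W') Γ(G, W) := IsScalarTower.of_algebraMap_eq' (by
        show _ = (f.appLE W' W e1).hom.comp (pH.appLE V W' e2).hom
        rw [← CommRingCat.hom_comp, Scheme.Hom.appLE_comp_appLE]
        rfl)
      have : IsNoetherianRing Γ(S, V) := IsLocallyNoetherian.component_noetherian ⟨V, hV⟩
      have : IsNoetherianRing Γ(G, W) :=
        Algebra.FiniteType.isNoetherianRing Γ(S, V) Γ(G, W)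
      rw [RingHom.Etale, ← Algebra.etaleLocus_eq_univ_iff_etale, Set.eq_univ_iff_forall]
      intro P
      rw [Algebra.mem_etaleLocus_iff]
      have : Algebra.FormallySmooth Γ(S, V) (Localization.AtPrime P.asIdeal) :=
        Algebra.FormallySmooth.comp Γ(S, V) Γ(G, W) (Localization.AtPrime P.asIdeal)
      have : Algebra.EssFiniteType Γ(S, V) (Localization.AtPrime P.asIdeal) :=
        Algebra.EssFiniteType.comp Γ(S, V) Γ(G, W) (Localization.AtPrime P.asIdeal)
      refine formallyEtale_of_height_le_one Γ(S, V) Γ(H, W') (Localization.AtPrime P.asIdeal) fun q _ hq => ?_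
      let Q : Ideal Γ(G, W) := q.comap (algebraMap Γ(G, W) (Localization.AtPrime P.asIdeal))
      have : IsLocalization.AtPrime (Localization.AtPrime q) Q :=
        IsLocalization.isLocalization_isLocalization_atPrime_isLocalization P.asIdeal.primeCompl
          (Localization.AtPrime q) q
      have hQ : Q.height ≤ 1 := (IsLocalization.height_under P.asIdeal.primeCompl q).trans_le hq
      -- the point of `Q` lies over `U`
      let x : G := hW.fromSpec ⟨Q, inferInstance⟩
      have hxW : x ∈ W := hW.range_fromSpec.le ⟨⟨Q, inferInstance⟩, rfl⟩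
      have hxQ : hW.primeIdealOf ⟨x, hxW⟩ = ⟨Q, inferInstance⟩ :=
        hW.fromSpec.injective (hW.fromSpec_primeIdealOf ⟨x, hxW⟩)
      have hxU : x ∈ (f ≫ pH) ⁻¹ᵁ U := by
        by_contra hx
        have hV' : (f ≫ pH) x ∈ V := e3 hxW
        let p := hV.primeIdealOf ⟨(f ≫ pH) x, hV'⟩
        have hp : p.asIdeal = Q.comap (algebraMap Γ(S, V) Γ(G, W)) := by
          have := IsAffineOpen.comap_primeIdealOf_appLE (f := f ≫ pH) V hV W hW e3 hxW
          rw [hxQ] at this
          exact (congrArg PrimeSpectrum.asIdeal this).symm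
        have : Q.LiesOver p.asIdeal := ⟨hp⟩
        have hle : p.asIdeal.height ≤ Q.height := by
          rw [Ideal.height_eq_height_add_of_liesOver_of_hasGoingDown p.asIdeal Q]
          exact le_self_add
        have := hV.isLocalization_stalk ⟨(f ≫ pH) x, hV'⟩
        letI := TopCat.Presheaf.algebra_section_stalk S.presheaf (⟨(f ≫ pH) x, hV'⟩ : V)
        have h2 := hU _ hx
        rw [IsLocalization.AtPrime.ringKrullDim_eq_height p.asIdeal (S.presheaf.stalk ((f ≫ pH) x))] at h2
        have h3 : (2 : ℕ∞) ≤ Q.height := le_trans (WithBot.coe_le_coe.1 h2) hle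
        exact absurd (h3.trans hQ) (by decide)
      obtain ⟨a, ha, hxa⟩ := hW.exists_basicOpen_le (V := (f ≫ pH) ⁻¹ᵁ U) ⟨x, hxU⟩ hxW
      have haW : G.basicOpen a ≤ W := G.basicOpen_le a
      have hDa : (f.appLE W' (G.basicOpen a) (haW.trans e1)).hom.Etale := by
        have hD := hW.basicOpen a
        rw [← HasRingHomProperty.Spec_iff (P := @Etale)]
        have : Etale (Spec.map (f.appLE W' (G.basicOpen a) (haW.trans e1)) ≫ hW'.fromSpec) := by
          rw [IsAffineOpen.SpecMap_appLE_fromSpec f hW' hD,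
            ← IsOpenImmersion.lift_fac ((f ≫ pH) ⁻¹ᵁ U).ι hD.fromSpec (by
              rw [IsAffineOpen.range_fromSpec, Scheme.Opens.range_ι]; exact ha), Category.assoc]
          exact MorphismProperty.comp_mem (W := @Etale) _ _ inferInstance het
        exact Etale.of_comp _ hW'.fromSpec
      letI := (f.appLE W' (G.basicOpen a) (haW.trans e1)).hom.toAlgebra
      have : IsScalarTower Γ(H, W') Γ(G, W) Γ(G, G.basicOpen a) := IsScalarTower.of_algebraMap_eq' (by
        show _ = (G.presheaf.map (homOfLE haW).op).hom.comp (f.appLE W' W e1).hom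
        rw [← CommRingCat.hom_comp, Scheme.Hom.appLE_map]
        rfl)
      have : IsLocalization.Away a Γ(G, G.basicOpen a) := hW.isLocalization_basicOpen a
      have : Algebra.Etale Γ(H, W') Γ(G, G.basicOpen a) := hDa
      have hsub : ↑(PrimeSpectrum.basicOpen a) ⊆ Algebra.etaleLocus Γ(H, W') Γ(G, W) :=
        Algebra.basicOpen_subset_etaleLocus_iff_etale.2
          (Algebra.Etale.of_equiv ((IsLocalization.algEquiv (Submonoid.powers a) Γ(G, G.basicOpen a)
            (Localization.Away a)).restrictScalars Γ(H, W')))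
      have hQa : (⟨Q, inferInstance⟩ : PrimeSpectrum Γ(G, W)) ∈ PrimeSpectrum.basicOpen a := by
        rw [← hxQ]
        exact (hW.fromSpec_preimage_basicOpen a).le (by
          show hW.fromSpec (hW.primeIdealOf ⟨x, hxW⟩) ∈ G.basicOpen a
          rw [hW.fromSpec_primeIdealOf]; exact hxa)
      have : Algebra.IsEtaleAt Γ(H, W') Q := hsub hQa
      exact Algebra.FormallyEtale.of_equiv ((IsLocalization.algEquiv Q.primeCompl (Localization.AtPrime Q)
        (Localization.AtPrime q)).restrictScalars Γ(H, W'))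
    refine ⟨W, hgW, ?_⟩
    have h1 : Etale (Spec.map (f.appLE W' W e1)) := (HasRingHomProperty.Spec_iff (P := @Etale)).2 hA
    rw [← hW.isoSpec_hom_fromSpec, Category.assoc, ← IsAffineOpen.SpecMap_appLE_fromSpec f hW' hW e1]
    exact MorphismProperty.comp_mem (W := @Etale) _ _ inferInstance
      (MorphismProperty.comp_mem (W := @Etale) _ _ h1 inferInstance)
  choose W hgW hW using key
  rw [IsZariskiLocalAtSource.iff_of_openCover (P := @Etale)
    (G.openCoverOfIsOpenCover W (TopologicalSpace.IsOpenCover.mk (eq_top_iff.2 fun x _ =>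
      TopologicalSpace.Opens.mem_iSup.2 ⟨x, hgW x⟩)))]
  exact hW

end Groth.Agent.NeronLib
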