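import Mathlib.RingTheory.RingHom.StandardSmooth
import Mathlib.RingTheory.Etale.StandardEtale
import Mathlib.RingTheory.Polynomial.ScaleRoots
import Mathlib.FieldTheory.PrimitiveElement
import Mathlib.Algebra.Polynomial.Lifts

/-!
# Etale quasi-sections of a standard smooth algebra through points closed in their fibres
-/

set_option autoImplicit false

universe u

open Polynomial

namespace Groth.Agent.NeronLib

variable {R K L : Type u} [CommRing R] [Field K] [Field L] [Algebra R K] [Algebra R L] [Algebra K L]
  [IsScalarTower R K L]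

/-- Common denominator of a finite family. -/
theorem exists_common_denominator (hK : ∀ x : K, ∃ a b : R, algebraMap R K b ≠ 0 ∧ x * algebraMap R K b = algebraMap R K a)
    (s : Finset K) : ∃ b : R, algebraMap R K b ≠ 0 ∧ ∀ x ∈ s, x * algebraMap R K b ∈ (algebraMap R K).range := by
  classical
  induction s using Finset.induction_on with
  | empty => exact ⟨1, by simp, by simp⟩
  | insert a s ha ih =>
    obtain ⟨b, hb, hs⟩ := ih
    obtain ⟨a', b', hb', h⟩ := hK a
    refine ⟨b' * b, by rw [map_mul]; exact mul_ne_zero hb' hb, fun x hx => ?_⟩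
    rcases Finset.mem_insert.1 hx with rfl | hx
    · exact ⟨a' * b, by rw [map_mul, map_mul, ← h, mul_assoc]⟩
    · obtain ⟨c, hc⟩ := hs x hx
      exact ⟨c * b', by rw [map_mul, map_mul, hc]; ring⟩

/-- A finite separable extension of a field of fractions is realised by a standard etale pair. -/
theorem exists_standardEtalePair (hK : ∀ x : K, ∃ a b : R, algebraMap R K b ≠ 0 ∧ x * algebraMap R K b = algebraMap R K a)
    [FiniteDimensional K L] [Algebra.IsSeparable K L] {ι : Type*} [Finite ι] (l : ι → L) :
    ∃ (P : StandardEtalePair R) (ψ : P.Ring →ₐ[R] L) (c : ι → P.Ring), ∀ i, ψ (c i) = l i := by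
  classical
  obtain ⟨α, hα⟩ := Field.exists_primitive_element K L
  have hint : IsIntegral K α := Algebra.IsIntegral.isIntegral α
  set μ := minpoly K α with hμ
  have hmon : μ.Monic := minpoly.monic hint
  obtain ⟨b, hb, hbs⟩ := exists_common_denominator hK (μ.support.image μ.coeff)
  set β := algebraMap K L (algebraMap R K b) * α with hβdef
  have hint' : IsIntegral K β := Algebra.IsIntegral.isIntegral β
  have hbL : algebraMap K L (algebraMap R K b) ≠ 0 := by simpa using hb
  have hgen : IntermediateField.adjoin K {β} = ⊤ := by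
    rw [eq_top_iff, ← hα, IntermediateField.adjoin_simple_le_iff]
    have e : α = algebraMap K L (algebraMap R K b)⁻¹ * β := by
      rw [hβdef, map_inv₀, inv_mul_cancel_left₀ hbL]
    rw [e]
    exact mul_mem (IntermediateField.algebraMap_mem _ _) (IntermediateField.subset_adjoin K _ rfl)
  set ν := scaleRoots μ (algebraMap R K b) with hν
  have hνmon : ν.Monic := (monic_scaleRoots_iff _).2 hmon
  have hνroot : aeval β ν = 0 := scaleRoots_aeval_eq_zero (minpoly.aeval K α)
  have hdeg : ν.natDegree ≤ (minpoly K β).natDegree := by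
    rw [hν, natDegree_scaleRoots, hμ, ← IntermediateField.adjoin.finrank hint,
      ← IntermediateField.adjoin.finrank hint', hgen, hα]
  have hνeq : minpoly K β = ν :=
    (Polynomial.eq_of_monic_of_dvd_of_natDegree_le (minpoly.monic hint') hνmon (minpoly.dvd K β hνroot) hdeg).symm
  have hlifts : ν ∈ Polynomial.lifts (algebraMap R K) := by
    rw [lifts_iff_coeff_lifts]
    intro i
    rw [hν, coeff_scaleRoots]
    rcases lt_trichotomy i μ.natDegree with hlt | rfl | hgt
    · obtain ⟨m, hm⟩ : ∃ m, μ.natDegree - i = m + 1 := ⟨μ.natDegree - i - 1, by omega⟩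
      rw [hm, pow_succ', ← mul_assoc]
      refine Subsemiring.mul_mem (algebraMap R K).rangeS ?_ ⟨b ^ m, map_pow _ _ _⟩
      by_cases h0 : μ.coeff i = 0
      · rw [h0, zero_mul]; exact Subsemiring.zero_mem _
      · obtain ⟨c, hc⟩ := hbs _ (Finset.mem_image_of_mem _ (mem_support_iff.2 h0))
        exact ⟨c, hc⟩
    · rw [tsub_self, pow_zero, mul_one, hmon.coeff_natDegree]
      exact ⟨1, map_one _⟩
    · rw [coeff_eq_zero_of_natDegree_lt hgt, zero_mul]
      exact ⟨0, map_zero _⟩
  obtain ⟨F, hFmap, -, hFmon⟩ := lifts_and_degree_eq_and_monic hlifts hνmon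
  have hsep : (aeval β) (derivative ν) ≠ 0 := by
    rw [← hνeq]
    exact Polynomial.Separable.aeval_derivative_ne_zero (Algebra.IsSeparable.isSeparable K β) (minpoly.aeval K β)
  -- write the targets as polynomials in the generator
  have hpol : ∀ i, ∃ Q : K[X], aeval β Q = l i := by
    intro i
    have h1 : l i ∈ (IntermediateField.adjoin K {β}).toSubalgebra := by
      rw [hgen]; exact IntermediateField.mem_top
    rw [IntermediateField.adjoin_simple_toSubalgebra_of_isAlgebraic hint'.isAlgebraic,
      Algebra.adjoin_singleton_eq_range_aeval] at h1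
    exact h1
  choose Q hQ using hpol
  have := Fintype.ofFinite ι
  obtain ⟨b₂, hb₂, hb₂s⟩ := exists_common_denominator hK (Finset.univ.biUnion fun i => (Q i).support.image (Q i).coeff)
  have hP : ∀ i, ∃ P : R[X], P.map (algebraMap R K) = C (algebraMap R K b₂) * Q i := by
    intro i
    rw [← mem_lifts, lifts_iff_coeff_lifts]
    intro j
    rw [coeff_C_mul]
    by_cases h0 : (Q i).coeff j = 0
    · rw [h0, mul_zero]; exact ⟨0, map_zero _⟩
    · obtain ⟨c, hc⟩ := hb₂s _ (Finset.mem_biUnion.2 ⟨i, Finset.mem_univ _,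
        Finset.mem_image_of_mem _ (mem_support_iff.2 h0)⟩)
      exact ⟨c, by rw [hc, mul_comm]⟩
  choose P hP using hP
  let E : StandardEtalePair R :=
    { f := F, monic_f := hFmon, g := derivative F * C b₂, cond := ⟨C b₂, 0, 1, by rw [mul_zero, add_zero, pow_one]⟩ }
  have hmap : E.HasMap β := by
    constructor
    · show aeval β F = 0
      rw [← aeval_map_algebraMap K, hFmap, hνroot]
    · show IsUnit (aeval β (derivative F * C b₂))
      rw [map_mul, ← aeval_map_algebraMap K, ← derivative_map, hFmap, aeval_C,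
        IsScalarTower.algebraMap_apply R K L]
      exact isUnit_iff_ne_zero.2 (mul_ne_zero hsep (by simpa using hb₂))
  have hu : IsUnit (aeval E.X (C b₂ : R[X])) := by
    have h := (StandardEtalePair.hasMap_X (P := E)).2
    rw [show E.g = derivative F * C b₂ from rfl, map_mul] at h
    exact isUnit_of_mul_isUnit_right h
  refine ⟨E, E.lift β hmap, fun i => ↑hu.unit⁻¹ * aeval E.X (P i), fun i => ?_⟩
  have h2 : E.lift β hmap (aeval E.X (P i)) = algebraMap R L b₂ * l i := by
    rw [← aeval_algHom_apply, StandardEtalePair.lift_X, ← aeval_map_algebraMap K, hP, map_mul, aeval_C, hQ,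
      ← IsScalarTower.algebraMap_apply]
  have h3 : E.lift β hmap (aeval E.X (C b₂ : R[X])) = algebraMap R L b₂ := by
    rw [← aeval_algHom_apply, StandardEtalePair.lift_X, aeval_C]
  have h4 := congrArg (E.lift β hmap) hu.val_inv_mul
  rw [map_mul, map_one, h3] at h4
  rw [map_mul, h2, ← mul_assoc, h4, one_mul]

/-- An etale quasi-section of a standard smooth algebra through a point closed in its fibre. -/
theorem exists_etale_quasiSection (B : Type u) [CommRing B] [Algebra R B] [Algebra.IsStandardSmooth R B]
    (hK : ∀ x : K, ∃ a b : R, algebraMap R K b ≠ 0 ∧ x * algebraMap R K b = algebraMap R K a)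
    [FiniteDimensional K L] [Algebra.IsSeparable K L] (χ : B →ₐ[R] L) :
    ∃ (D : Type u) (_ : CommRing D) (_ : Algebra R D) (φ : B →ₐ[R] D) (ψ : D →ₐ[R] L),
      Algebra.Etale R D ∧ ψ.comp φ = χ := by
  obtain ⟨n, g, hgC, hg⟩ := RingHom.IsStandardSmooth.exists_etale_mvPolynomial
    (RingHom.isStandardSmooth_algebraMap.2 ‹Algebra.IsStandardSmooth R B›)
  obtain ⟨E, ψ, c, hc⟩ := exists_standardEtalePair hK (fun i => χ (g (MvPolynomial.X i)))
  let A := MvPolynomial (Fin n) R
  letI : Algebra A B := g.toAlgebra
  letI : Algebra A E.Ring := (MvPolynomial.aeval (R := R) c).toRingHom.toAlgebra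
  letI : Algebra A L := (ψ.toRingHom.comp (algebraMap A E.Ring)).toAlgebra
  have : IsScalarTower R A B := IsScalarTower.of_algebraMap_eq' hgC.symm
  have : IsScalarTower R A E.Ring := IsScalarTower.of_algebraMap_eq' (MvPolynomial.aeval c).comp_algebraMap.symm
  have : IsScalarTower R A L := IsScalarTower.of_algebraMap_eq fun r => by
    show _ = ψ (algebraMap A E.Ring (algebraMap R A r))
    rw [← IsScalarTower.algebraMap_apply, AlgHom.commutes]
  have hA : Algebra.Etale A B := hg
  have key : (χ.comp (IsScalarTower.toAlgHom R A B)) = ψ.comp (IsScalarTower.toAlgHom R A E.Ring) := by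
    refine MvPolynomial.algHom_ext fun i => ?_
    show χ (g (MvPolynomial.X i)) = ψ ((MvPolynomial.aeval c) (MvPolynomial.X i))
    rw [MvPolynomial.aeval_X, hc]
  let χA : B →ₐ[A] L := AlgHom.mk χ.toRingHom fun a => by exact DFunLike.congr_fun key a
  let ψA : E.Ring →ₐ[A] L := AlgHom.mk ψ.toRingHom fun _ => rfl
  let D := TensorProduct A E.Ring B
  have : Algebra.Etale R D := Algebra.Etale.comp R E.Ring D
  refine ⟨D, inferInstance, inferInstance,
    (Algebra.TensorProduct.includeRight (R := A) (A := E.Ring) (B := B)).restrictScalars R,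
    (Algebra.TensorProduct.lift ψA χA (fun _ _ => .all _ _)).restrictScalars R, inferInstance, ?_⟩
  ext x
  exact (Algebra.TensorProduct.lift_tmul ψA χA (fun _ _ => .all _ _) 1 x).trans (by rw [map_one, one_mul]; rfl)

end Groth.Agent.NeronLib
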