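import Groth.Agent.NeronLib.Formal
import Groth.Agent.AbVarLib.KernelTorsor
import Groth.Agent.AlgSpLib.FppfLocal

/-!
# The mapping property is stable under extensions
-/

universe u

noncomputable section

open CategoryTheory Limits AlgebraicGeometry MonoidalCategory CartesianMonoidalCategory MonObj GrpObj

namespace Groth.Agent.NeronLib.Formal

variable {S T : Scheme.{u}} (j : T ⟶ S) [IsLocallyNoetherian S]

theorem nmp_of_extension {G' G G'' : Over S} [GrpObj G'] [GrpObj G] [GrpObj G''] [Smooth G'.hom] [Smooth G.hom]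
    [Smooth G''.hom] (i : G' ⟶ G) (q : G ⟶ G'') [IsMonHom q] (hker : AlgGrp.IsKernel i q)
    [Flat q.left] [Surjective q.left] (h' : Nmp j G') (h'' : Nmp j G'') : Nmp j G := by
  have : IsLocallyNoetherian G''.left := LocallyOfFiniteType.isLocallyNoetherian G''.hom
  have : LocallyOfFiniteType q.left := by
    have : LocallyOfFiniteType (q.left ≫ G''.hom) := by rw [Over.w]; infer_instance
    exact locallyOfFiniteType_of_comp q.left G''.hom
  have : LocallyOfFinitePresentation q.left := inferInstance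
  have hq : Smooth q.left := by
    have h2 := (AbVarLib.isPullback_kernel q i hker).map (Over.forget S)
    have h1 : Smooth (fst G G').left := inferInstanceAs (Smooth (pullback.fst G.hom G'.hom))
    exact MorphismProperty.of_isPullback_of_descendsAlong (Q := AlgSpLib.FPPF) h2
      ⟨⟨‹Surjective q.left›, ‹Flat q.left›⟩, ‹LocallyOfFinitePresentation q.left›⟩ h1
  have h1 : η[G''] = (1 : 𝟙_ _ ⟶ G'') := by
    rw [Hom.one_def, toUnit_unique (toUnit (𝟙_ (Over S))) (𝟙 _), Category.id_comp]
  have hiq : i ≫ q = 1 := by rw [hker.w, h1, MonObj.comp_one]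
  have himono : Mono i :=
    ⟨fun a b hab => hker.hom_ext hab (toUnit_unique _ _)⟩
  let F := Over.pullback j
  letI : GrpObj (F.obj G) := F.grpObjObj
  letI : GrpObj (F.obj G'') := F.grpObjObj
  have : Mono (F.map i) := inferInstance
  have hinj : ∀ Z : Over S, Smooth Z.hom → Function.Injective (fun g : Z ⟶ G => F.map g) := by
    intro Z hZ g g' h
    simp only at h
    have hq' : g ≫ q = g' ≫ q := (h'' Z hZ).1 (by simp [Functor.map_comp, F, h] )
    have hd : (g * g'⁻¹) ≫ q = 1 := by rw [MonObj.mul_comp, GrpObj.inv_comp, hq', mul_inv_cancel]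
    let k : Z ⟶ G' := hker.lift (g * g'⁻¹) (toUnit Z) (by rw [hd, h1, MonObj.comp_one])
    have hk : k ≫ i = g * g'⁻¹ := hker.lift_fst _ _ _
    let k₁ : Z ⟶ G' := hker.lift 1 (toUnit Z) (by rw [MonObj.one_comp, h1, MonObj.comp_one])
    have hk₁ : k₁ ≫ i = 1 := hker.lift_fst _ _ _
    have : k = k₁ := (h' Z hZ).1 (by
      simp only
      rw [← cancel_mono (F.map i), ← Functor.map_comp, ← Functor.map_comp, hk, hk₁, Functor.map_mul, h,
        ← Functor.map_mul, mul_inv_cancel])
    rw [this, hk₁] at hk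
    exact mul_inv_eq_one.1 hk.symm
  intro Z hZ
  refine ⟨hinj Z hZ, fun φ => ?_⟩
  obtain ⟨h, hh⟩ := (h'' Z hZ).2 (φ ≫ F.map q)
  simp only at hh
  let Z' : Over S := Over.mk (pullback.fst h.left q.left ≫ Z.hom)
  let p : Z' ⟶ Z := Over.homMk (pullback.fst h.left q.left) rfl
  let g₁ : Z' ⟶ G := Over.homMk (pullback.snd h.left q.left) (by
    show pullback.snd h.left q.left ≫ G.hom = pullback.fst h.left q.left ≫ Z.hom
    rw [← Over.w q, ← Over.w h, pullback.condition_assoc])
  have hpg : g₁ ≫ q = p ≫ h := Over.OverMorphism.ext pullback.condition.symm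
  have hpsm : Smooth p.left := inferInstanceAs (Smooth (pullback.fst h.left q.left))
  have hZ' : Smooth Z'.hom := inferInstanceAs (Smooth (pullback.fst h.left q.left ≫ Z.hom))
  have hp : Cover p := ⟨inferInstance, inferInstance, inferInstanceAs (Surjective (pullback.fst h.left q.left))⟩
  have hdd : ((F.map p ≫ φ) * (F.map g₁)⁻¹) ≫ F.map q = 1 := by
    have : F.map g₁ ≫ F.map q = (F.map p ≫ φ) ≫ F.map q := by
      rw [← Functor.map_comp, hpg, Functor.map_comp, hh, Category.assoc]
    rw [MonObj.mul_comp, GrpObj.inv_comp, this, mul_inv_cancel]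
  have hFker : IsPullback (F.map i) (F.map (toUnit G')) (F.map q) (F.map η[G'']) := hker.map F
  obtain ⟨k₀, hk₀⟩ : ∃ k₀ : F.obj Z' ⟶ F.obj G', k₀ ≫ F.map i = (F.map p ≫ φ) * (F.map g₁)⁻¹ := by
    refine ⟨hFker.lift _ (F.map (toUnit Z')) ?_, hFker.lift_fst _ _ _⟩
    rw [hdd, ← Functor.map_comp, h1, MonObj.comp_one, Functor.map_one]
  obtain ⟨k, hk⟩ := (h' Z' hZ').2 k₀
  simp only at hk
  let a : Z' ⟶ G := (k ≫ i) * g₁
  have ha : F.map a = F.map p ≫ φ := by
    simp only [a, Functor.map_mul, Functor.map_comp, F] at hk₀ ⊢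
    rw [hk, hk₀, inv_mul_cancel_right]
  exact exists_of_cover hp ha (hinj _ (smooth_selfProd p))

end Groth.Agent.NeronLib.Formal
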