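import Groth.Prelude.Def_ActBC
import Mathlib.AlgebraicGeometry.Morphisms.Smooth
import Mathlib.AlgebraicGeometry.Sites.Fpqc

/-!
# Formal properties of the Néron mapping property

Restriction along `j`, tested on a class of objects: products, isomorphisms, descent, pseudo-torsors.
-/

universe u

noncomputable section

open CategoryTheory Limits AlgebraicGeometry MonoidalCategory CartesianMonoidalCategory

namespace Groth.Agent.NeronLib.Formal

variable {S T : Scheme.{u}} (j : T ⟶ S)

/-- Restriction along `j` is bijective on morphisms `Z ⟶ N`. -/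
abbrev Res (Z N : Over S) : Prop := Function.Bijective (fun g : Z ⟶ N => (Over.pullback j).map g)

/-- The mapping property: restriction along `j` is bijective for every smooth test object. -/
abbrev Nmp (N : Over S) : Prop := ∀ Z : Over S, Smooth Z.hom → Res j Z N

variable {j}

theorem res_tensor {Z A B : Over S} (hA : Res j Z A) (hB : Res j Z B) : Res j Z (A ⊗ B) := by
  refine ⟨fun g g' h => ?_, fun φ => ?_⟩
  · refine CartesianMonoidalCategory.hom_ext _ _ (hA.1 ?_) (hB.1 ?_)
    · exact congrArg (· ≫ (Over.pullback j).map (fst A B)) h |> fun h => by simpa [Functor.map_comp] using h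
    · exact congrArg (· ≫ (Over.pullback j).map (snd A B)) h |> fun h => by simpa [Functor.map_comp] using h
  · obtain ⟨a, ha⟩ := hA.2 (φ ≫ (Over.pullback j).map (fst A B))
    obtain ⟨b, hb⟩ := hB.2 (φ ≫ (Over.pullback j).map (snd A B))
    refine ⟨lift a b, ?_⟩
    simp only at ha hb ⊢
    have hφ : φ = φ ≫ inv (Functor.LaxMonoidal.μ (Over.pullback j) A B) ≫ Functor.LaxMonoidal.μ (Over.pullback j) A B := by
      simp
    rw [← Functor.Monoidal.lift_μ, ha, hb]
    conv_rhs => rw [hφ, ← Category.assoc]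
    congr 1
    refine CartesianMonoidalCategory.hom_ext _ _ ?_ ?_
    · rw [lift_fst, Category.assoc, ← Functor.Monoidal.μ_fst, IsIso.inv_hom_id_assoc]
    · rw [lift_snd, Category.assoc, ← Functor.Monoidal.μ_snd, IsIso.inv_hom_id_assoc]

theorem nmp_tensor {A B : Over S} (hA : Nmp j A) (hB : Nmp j B) : Nmp j (A ⊗ B) := fun Z hZ =>
  res_tensor (hA Z hZ) (hB Z hZ)

theorem isIso_of_isIso_map {A B : Over S} (hAA : Res j A A) (hBA : Res j B A) (hBB : Res j B B) (φ : A ⟶ B)
    [IsIso ((Over.pullback j).map φ)] : IsIso φ := by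
  obtain ⟨ψ, hψ⟩ := hBA.2 (inv ((Over.pullback j).map φ))
  simp only at hψ
  refine ⟨⟨ψ, hAA.1 ?_, hBB.1 ?_⟩⟩
  · simp [Functor.map_comp, hψ]
  · simp [Functor.map_comp, hψ]

theorem smooth_tensor {A B : Over S} [Smooth A.hom] [Smooth B.hom] : Smooth (A ⊗ B).hom := by
  show Smooth (pullback.fst A.hom B.hom ≫ A.hom)
  infer_instance

/-- An fppf covering morphism over `S`. -/
structure Cover {Z' Z : Over S} (p : Z' ⟶ Z) : Prop where
  flat : Flat p.left
  lfp : LocallyOfFinitePresentation p.left
  surj : Surjective p.left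

theorem Cover.epi {Z' Z : Over S} {p : Z' ⟶ Z} (hp : Cover p) : Epi p := by
  have := hp.flat; have := hp.lfp; have := hp.surj
  have : Epi p.left := inferInstance
  exact (Over.forget S).epi_of_epi_map this

theorem Cover.map {Z' Z : Over S} {p : Z' ⟶ Z} (hp : Cover p) (j : T ⟶ S) : Cover ((Over.pullback j).map p) := by
  have h : IsPullback ((Over.pullback j).map p).left (pullback.fst Z'.hom j) (pullback.fst Z.hom j) p.left := by
    refine (IsPullback.of_bot (h₁₁ := pullback.fst Z'.hom j) (v₁₁ := ((Over.pullback j).map p).left) (v₁₂ := p.left)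
      (v₂₂ := Z.hom) ?_ (pullback.lift_fst _ _ _).symm (IsPullback.of_hasPullback Z.hom j)).flip
    have e : ((Over.pullback j).map p).left ≫ pullback.snd Z.hom j = pullback.snd Z'.hom j :=
      pullback.lift_snd _ _ _
    rw [e, Over.w]
    exact IsPullback.of_hasPullback Z'.hom j
  exact ⟨MorphismProperty.of_isPullback h.flip hp.flat, MorphismProperty.of_isPullback h.flip hp.lfp,
    MorphismProperty.of_isPullback h.flip hp.surj⟩

/-- The self fibre product of a morphism over `S`. -/
abbrev selfProd {Z' Z : Over S} (p : Z' ⟶ Z) : Over S := Over.mk (pullback.fst p.left p.left ≫ Z'.hom)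

theorem smooth_selfProd {Z' Z : Over S} (p : Z' ⟶ Z) [Smooth Z'.hom] [Smooth p.left] :
    Smooth (selfProd p).hom :=
  inferInstanceAs (Smooth (pullback.fst p.left p.left ≫ Z'.hom))

theorem injective_of_cover {Z' Z N : Over S} {p : Z' ⟶ Z} (hp : Cover p)
    (h' : Function.Injective (fun g : Z' ⟶ N => (Over.pullback j).map g)) :
    Function.Injective (fun g : Z ⟶ N => (Over.pullback j).map g) := fun g g' h => by
  have := hp.epi
  rw [← cancel_epi p]
  exact h' (by simp only at h ⊢; simp [Functor.map_comp, h])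

/-- A morphism after restriction extends as soon as it does on an fppf covering. -/
theorem exists_of_cover {Z' Z N : Over S} {p : Z' ⟶ Z} (hp : Cover p) {φ : (Over.pullback j).obj Z ⟶ (Over.pullback j).obj N}
    {a : Z' ⟶ N} (ha : (Over.pullback j).map a = (Over.pullback j).map p ≫ φ)
    (h'' : Function.Injective (fun g : selfProd p ⟶ N => (Over.pullback j).map g)) :
    ∃ g : Z ⟶ N, (Over.pullback j).map g = φ := by
  have := hp.flat; have := hp.lfp; have := hp.surj
  let q₁ : selfProd p ⟶ Z' := Over.homMk (pullback.fst p.left p.left) rfl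
  let q₂ : selfProd p ⟶ Z' := Over.homMk (pullback.snd p.left p.left) (by
    show pullback.snd p.left p.left ≫ Z'.hom = pullback.fst p.left p.left ≫ Z'.hom
    rw [← Over.w p, pullback.condition_assoc])
  have hq : q₁ ≫ p = q₂ ≫ p := Over.OverMorphism.ext pullback.condition
  have hqa : q₁ ≫ a = q₂ ≫ a := h'' (by
    simp only [Functor.map_comp, ha]
    rw [← Category.assoc, ← Category.assoc, ← Functor.map_comp, ← Functor.map_comp, hq])
  have hc : ∀ {W : Scheme.{u}} (g₁ g₂ : W ⟶ Z'.left), g₁ ≫ p.left = g₂ ≫ p.left → g₁ ≫ a.left = g₂ ≫ a.left :=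
    fun g₁ g₂ h => by
      have := congrArg (fun t : selfProd p ⟶ N => pullback.lift g₁ g₂ h ≫ t.left) hqa
      simpa only [q₁, q₂, Over.comp_left, Over.homMk_left, pullback.lift_fst_assoc, pullback.lift_snd_assoc] using this
  let d := EffectiveEpi.desc p.left a.left hc
  have hd : p.left ≫ d = a.left := EffectiveEpi.fac p.left a.left hc
  have hdw : d ≫ N.hom = Z.hom := by
    rw [← cancel_epi p.left, reassoc_of% hd, Over.w, Over.w]
  refine ⟨Over.homMk d hdw, ?_⟩
  have := (hp.map j).epi
  rw [← cancel_epi ((Over.pullback j).map p)]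
  rw [← Functor.map_comp, show p ≫ Over.homMk d hdw = a from Over.OverMorphism.ext hd, ha]

/-- Descent of the bijectivity of restriction along an fppf covering. -/
theorem res_of_cover {Z' Z N : Over S} {p : Z' ⟶ Z} (hp : Cover p) (h' : Res j Z' N)
    (h'' : Function.Injective (fun g : selfProd p ⟶ N => (Over.pullback j).map g)) : Res j Z N :=
  ⟨injective_of_cover hp h'.1, fun φ => by
    obtain ⟨a, ha⟩ := h'.2 ((Over.pullback j).map p ≫ φ)
    exact exists_of_cover hp ha h''⟩

section PseudoTorsor

variable {G N : Over S} [GrpObj G]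

theorem bijective_lift_act {a : AlgGrp.Action G N} (ha : NonAbH1.IsPseudoTorsorSch a) {Z : Over S} (n : Z ⟶ N) :
    Function.Bijective (fun b : Z ⟶ G => lift b n ≫ a.act) := by
  have : IsIso (lift a.act (snd G N)) := ha
  refine ⟨fun b b' h => ?_, fun m => ?_⟩
  · have h2 : lift b n ≫ lift a.act (snd G N) = lift b' n ≫ lift a.act (snd G N) := by
      simp only at h
      simp only [comp_lift, lift_snd, h]
    simpa using congrArg (· ≫ fst G N) ((cancel_mono _).1 h2)
  · refine ⟨(lift m n ≫ inv (lift a.act (snd G N))) ≫ fst G N, ?_⟩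
    have hsnd : (lift m n ≫ inv (lift a.act (snd G N))) ≫ snd G N = n := by
      have : inv (lift a.act (snd G N)) ≫ snd G N = snd N N := by
        rw [IsIso.inv_comp_eq, lift_snd]
      rw [Category.assoc, this, lift_snd]
    have hk : lift ((lift m n ≫ inv (lift a.act (snd G N))) ≫ fst G N) n = lift m n ≫ inv (lift a.act (snd G N)) := by
      refine CartesianMonoidalCategory.hom_ext _ _ (by simp) ?_
      rw [lift_snd, hsnd]
    show lift _ n ≫ a.act = m
    rw [hk]
    have : inv (lift a.act (snd G N)) ≫ a.act = fst N N := by rw [IsIso.inv_comp_eq, lift_fst]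
    rw [Category.assoc, this, lift_fst]

theorem res_iff_of_pseudoTorsor {a : AlgGrp.Action G N} (ha : NonAbH1.IsPseudoTorsorSch a) {Z : Over S} (n : Z ⟶ N) :
    Res j Z G ↔ Res j Z N := by
  let α := fun b : Z ⟶ G => lift b n ≫ a.act
  let β := fun c : (Over.pullback j).obj Z ⟶ Red.bc j G => lift c ((Over.pullback j).map n) ≫ (a.bc j).act
  have hα : Function.Bijective α := bijective_lift_act ha n
  have hβ : Function.Bijective β := bijective_lift_act (NonAbH1.isPseudoTorsorSch_bc j ha) _
  have hcomm : ∀ b, (Over.pullback j).map (α b) = β ((Over.pullback j).map b) := fun b => by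
    simp only [α, β, AlgGrp.Action.bc_act, Functor.map_comp, Functor.Monoidal.lift_μ_assoc]
  have hsq : (fun g : Z ⟶ N => (Over.pullback j).map g) ∘ α = β ∘ (fun g : Z ⟶ G => (Over.pullback j).map g) :=
    funext hcomm
  unfold Res
  rw [← hα.of_comp_iff (fun g : Z ⟶ N => (Over.pullback j).map g), hsq]
  exact (Function.Bijective.of_comp_iff' hβ (fun g : Z ⟶ G => (Over.pullback j).map g)).symm

theorem nmp_iff_of_pseudoTorsor [Smooth N.hom] [Surjective N.hom] {a : AlgGrp.Action G N}
    (ha : NonAbH1.IsPseudoTorsorSch a) : Nmp j G ↔ Nmp j N := by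
  have key : ∀ Z : Over S, Smooth Z.hom → ∃ (p : Z ⊗ N ⟶ Z), Cover p ∧ Smooth (Z ⊗ N).hom ∧ Smooth (selfProd p).hom ∧
      Nonempty (Z ⊗ N ⟶ N) ∧ Nonempty (selfProd p ⟶ N) := fun Z hZ => by
    have h1 : Smooth (fst Z N).left := inferInstanceAs (Smooth (pullback.fst Z.hom N.hom))
    have h2 : Surjective (fst Z N).left := inferInstanceAs (Surjective (pullback.fst Z.hom N.hom))
    have h3 : Smooth (Z ⊗ N).hom := smooth_tensor
    exact ⟨fst Z N, ⟨inferInstance, inferInstance, h2⟩, h3, smooth_selfProd _, ⟨snd Z N⟩,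
      ⟨(Over.homMk (pullback.fst (fst Z N).left (fst Z N).left) rfl : selfProd (fst Z N) ⟶ Z ⊗ N) ≫ snd Z N⟩⟩
  constructor
  all_goals
    intro h Z hZ
    obtain ⟨p, hp, hs, hs', ⟨n⟩, ⟨n'⟩⟩ := key Z hZ
  · exact res_of_cover hp ((res_iff_of_pseudoTorsor ha n).1 (h _ hs)) ((res_iff_of_pseudoTorsor ha n').1 (h _ hs')).1
  · exact res_of_cover hp ((res_iff_of_pseudoTorsor ha n).2 (h _ hs)) ((res_iff_of_pseudoTorsor ha n').2 (h _ hs')).1

/-- An action which is simply transitive after restriction is simply transitive, for Néron objects. -/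
theorem isPseudoTorsorSch_of_nmp [Smooth G.hom] [Smooth N.hom] (hG : Nmp j G) (hN : Nmp j N)
    (a : AlgGrp.Action G N) [IsIso ((Over.pullback j).map (lift a.act (snd G N)))] :
    NonAbH1.IsPseudoTorsorSch a :=
  isIso_of_isIso_map (nmp_tensor hG hN _ smooth_tensor) (nmp_tensor hG hN _ smooth_tensor)
    (nmp_tensor hN hN _ smooth_tensor) _

end PseudoTorsor

end Groth.Agent.NeronLib.Formal
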