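import Groth.Agent.NeronLib.Regular
import Mathlib.RingTheory.Ideal.KrullsHeightTheorem
import Mathlib.AlgebraicGeometry.SpreadingOut
import Mathlib.RingTheory.UniqueFactorizationDomain.Basic

/-!
# Functions on an open subscheme of the spectrum of a factorial domain meeting all divisors
-/

universe u

set_option autoImplicit false

open AlgebraicGeometry CategoryTheory Limits TopologicalSpace

namespace Groth.Agent.NeronLib

/-- An open of `Spec A`, `A` factorial, meeting `V(π)` for every prime element `π`, has the same functions. -/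
theorem bijective_res_of_meets_primes (A : CommRingCat.{u}) [IsDomain A] [UniqueFactorizationMonoid A]
    (O : (Spec A).Opens) (hne : (O : Set (Spec A)).Nonempty)
    (hO : ∀ π : A, Prime π → ∃ q : Spec A, π ∈ q.asIdeal ∧ q ∈ O) :
    Function.Bijective ((Scheme.ΓSpecIso A).inv ≫ (Spec A).presheaf.map (homOfLE (le_top : O ≤ ⊤)).op) := by
  set ι := (Scheme.ΓSpecIso A).inv ≫ (Spec A).presheaf.map (homOfLE (le_top : O ≤ ⊤)).op
  have : Nonempty O.toScheme := ⟨⟨hne.some, hne.some_mem⟩⟩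
  have hinj : Function.Injective ι := by
    have h1 : Function.Injective ((Spec A).presheaf.map (homOfLE (le_top : O ≤ ⊤)).op) :=
      map_injective_of_isIntegral (Spec A) _
    exact h1.comp (ConcreteCategory.bijective_of_isIso (Scheme.ΓSpecIso A).inv).1
  refine ⟨hinj, fun t => ?_⟩
  have key : ∀ q : Spec A, q ∈ O →
      ∃ d c : A, d ∉ q.asIdeal ∧ ι d * t = ι c := by
    intro q hq
    obtain ⟨_, ⟨d, rfl⟩, hd, hdO⟩ :=
      PrimeSpectrum.isTopologicalBasis_basic_opens.exists_subset_of_mem_open hq O.isOpen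
    have hle : (PrimeSpectrum.basicOpen d : (Spec A).Opens) ≤ O := hdO
    have : Nonempty (Scheme.Opens.toScheme (X := Spec A) (PrimeSpectrum.basicOpen d)) := ⟨⟨q, hd⟩⟩
    obtain ⟨⟨c, m⟩, hc⟩ := IsLocalization.surj (S := Γ(Spec A, PrimeSpectrum.basicOpen d)) (Submonoid.powers d)
      ((Spec A).presheaf.map (homOfLE hle).op t)
    obtain ⟨n, hn⟩ := m.2
    refine ⟨d ^ n, c, fun h => hd (q.2.mem_of_pow_mem n h), ?_⟩
    apply map_injective_of_isIntegral (Spec A) (homOfLE hle)
    refine (map_mul _ _ _).trans ?_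
    show algebraMap A Γ(Spec A, PrimeSpectrum.basicOpen d) (d ^ n) * _ = algebraMap A Γ(Spec A, PrimeSpectrum.basicOpen d) c
    rw [mul_comm]
    simp only [← hn] at hc
    exact hc
  obtain ⟨q₀, hq₀⟩ := hne
  obtain ⟨d₀, c₀, hd₀, h₀⟩ := key q₀ hq₀
  have hd0 : d₀ ≠ 0 := fun h => hd₀ (h ▸ q₀.asIdeal.zero_mem)
  obtain ⟨a, b, e, hrel, ha, hb⟩ := UniqueFactorizationMonoid.exists_reduced_factors' c₀ d₀ hd0
  have he : ι e ≠ 0 := fun h => hd0 (by
    rw [← hb, hinj (h.trans (map_zero _).symm), zero_mul])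
  have h1 : ι b * t = ι a := by
    refine mul_left_cancel₀ he ?_
    rw [← mul_assoc, ← map_mul, ← map_mul, hb, ha, h₀]
  by_cases hbu : IsUnit b
  · obtain ⟨w, hw⟩ := hbu
    refine ⟨↑w⁻¹ * a, ?_⟩
    rw [map_mul, ← h1, ← mul_assoc, ← map_mul, ← hw, Units.inv_mul, map_one, one_mul]
  · exfalso
    have hb0 : b ≠ 0 := fun h => hd0 (by rw [← hb, h, mul_zero])
    obtain ⟨π, hπ, hπb⟩ := WfDvdMonoid.exists_irreducible_factor hbu hb0
    have hπ' := UniqueFactorizationMonoid.irreducible_iff_prime.1 hπ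
    obtain ⟨q, hπq, hq⟩ := hO π hπ'
    obtain ⟨d, c, hd, hdc⟩ := key q hq
    have h2 : a * d = b * c := hinj (by rw [map_mul, map_mul, ← h1, ← hdc]; ring)
    rcases hπ'.dvd_or_dvd (h2 ▸ hπb.mul_right c) with h | h
    · exact hπ.not_isUnit (hrel h hπb)
    · exact hd (Ideal.mem_of_dvd _ h hπq)

/-- A morphism from such an open to an affine scheme extends. -/
theorem existsUnique_extend_to_affine (A : CommRingCat.{u}) [IsDomain A] [UniqueFactorizationMonoid A]
    (O : (Spec A).Opens) (hne : (O : Set (Spec A)).Nonempty)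
    (hO : ∀ π : A, Prime π → ∃ q : Spec A, π ∈ q.asIdeal ∧ q ∈ O)
    {V : Scheme.{u}} [IsAffine V] (h : O.toScheme ⟶ V) : ∃! e : Spec A ⟶ V, O.ι ≫ e = h := by
  have hb := bijective_res_of_meets_primes A O hne hO
  have h1 : O.ι.appTop = (Spec A).presheaf.map (homOfLE (le_top : O ≤ ⊤)).op ≫ O.topIso.inv := by
    rw [Iso.eq_comp_inv, Scheme.Opens.ι_appTop, Scheme.Opens.topIso_hom]
    exact ((Spec A).presheaf.map_comp _ _).symm
  have h2 := ConcreteCategory.bijective_of_isIso (Scheme.ΓSpecIso A).inv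
  have h3 : Function.Bijective ((Spec A).presheaf.map (homOfLE (le_top : O ≤ ⊤)).op) :=
    (Function.Bijective.of_comp_iff _ h2).1 hb
  have : IsIso O.ι.appTop := by
    rw [h1, ConcreteCategory.isIso_iff_bijective]
    exact (ConcreteCategory.bijective_of_isIso O.topIso.inv).comp h3
  let ψ : Γ(V, ⊤) ⟶ A := h.appTop ≫ inv O.ι.appTop ≫ (Scheme.ΓSpecIso A).hom
  refine ⟨Spec.map ψ ≫ V.isoSpec.inv, ?_, fun e he => ext_of_isAffine ?_⟩
  · refine ext_of_isAffine ?_
    have hinv : V.isoSpec.inv.appTop = (Scheme.ΓSpecIso Γ(V, ⊤)).inv := by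
      have : IsIso V.toSpecΓ := IsAffine.affine
      have : IsIso V.toSpecΓ.appTop := inferInstanceAs (IsIso (V.toSpecΓ.app ⊤))
      rw [← cancel_mono V.toSpecΓ.appTop, ← Scheme.Hom.comp_appTop]
      simp [Scheme.isoSpec]
    rw [Scheme.Hom.comp_appTop, Scheme.Hom.comp_appTop, hinv, Category.assoc, ← Scheme.ΓSpecIso_inv_naturality_assoc]
    simp [ψ]
  · have hinv : V.isoSpec.inv.appTop = (Scheme.ΓSpecIso Γ(V, ⊤)).inv := by
      have : IsIso V.toSpecΓ := IsAffine.affine
      have : IsIso V.toSpecΓ.appTop := inferInstanceAs (IsIso (V.toSpecΓ.app ⊤))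
      rw [← cancel_mono V.toSpecΓ.appTop, ← Scheme.Hom.comp_appTop]
      simp [Scheme.isoSpec]
    rw [Scheme.Hom.comp_appTop, hinv, ← Scheme.ΓSpecIso_inv_naturality]
    have he' : h.appTop = e.appTop ≫ O.ι.appTop := by rw [← Scheme.Hom.comp_appTop, show O.ι ≫ e = h from he]
    simp [ψ, he']

end Groth.Agent.NeronLib
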