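import Groth.Agent.NeronLib.InfinitesimalAlg
import Groth.Agent.NeronLib.Dedekind
import Mathlib.RingTheory.Filtration

/-!
# A morphism `V × W ⟶ A` to a proper group scheme, constant on `{v₀} × W` and on `V × D`, is constant
-/

universe u

set_option autoImplicit false

open AlgebraicGeometry CategoryTheory Limits TopologicalSpace TensorProduct

namespace Groth.Agent.NeronLib

variable {K : Type u} [Field K]

/-- Maps from `Spec T` into an affine open are determined by, and give, ring maps. -/
theorem exists_ringHom_of_range_subset {A : Scheme.{u}} {B : A.Opens} (hB : IsAffineOpen B) {T : CommRingCat.{u}}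
    (φ : Spec T ⟶ A) (h : ∀ x, φ x ∈ B) : ∃ β : Γ(A, B) ⟶ T, φ = Spec.map β ≫ hB.fromSpec := by
  refine ⟨Spec.preimage (IsOpenImmersion.lift hB.fromSpec φ (by
    rw [hB.range_fromSpec]; rintro _ ⟨x, rfl⟩; exact h x)), ?_⟩
  rw [Spec.map_preimage, IsOpenImmersion.lift_fac]

theorem algHom_preimage {R T : Type u} [CommRing R] [CommRing T] [Algebra K R] [Algebra K T] (φ : R →ₐ[K] T) :
    Spec.map (CommRingCat.ofHom φ.toRingHom) ≫ Spec.map (CommRingCat.ofHom (algebraMap K R)) =
      Spec.map (CommRingCat.ofHom (algebraMap K T)) := by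
  rw [← Spec.map_comp]
  congr 1
  exact CommRingCat.hom_ext (RingHom.ext fun r => φ.commutes r)

/-- Extension to `Spec R × W`, for `R` a discrete valuation ring, and its constancy on `Spec R × D`. -/
theorem exists_dvr_extension {R L : Type u} [CommRing R] [IsDomain R] [IsDiscreteValuationRing R] [Field L]
    [Algebra K R] [Algebra R L] [IsFractionRing R L] [Algebra K L] [IsScalarTower K R L] {W D A : Scheme.{u}}
    (pW : W ⟶ Spec (CommRingCat.of K)) (pA : A ⟶ Spec (CommRingCat.of K)) [Smooth pW] [GrpObj (Over.mk pA)]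
    [IsProper pA] (hL : pullback (Spec.map (CommRingCat.ofHom (algebraMap K L))) pW ⟶ A)
    (hhL : hL ≫ pA = pullback.snd _ pW ≫ pW) (δ : D ⟶ W) [Smooth (δ ≫ pW)]
    (e : Spec (CommRingCat.of K) ⟶ A) (he : e ≫ pA = 𝟙 _)
    (hD : pullback.map (Spec.map (CommRingCat.ofHom (algebraMap K L))) (δ ≫ pW)
        (Spec.map (CommRingCat.ofHom (algebraMap K L))) pW (𝟙 _) δ (𝟙 _) (by simp) (by simp) ≫ hL =
      pullback.snd _ (δ ≫ pW) ≫ (δ ≫ pW) ≫ e) :
    ∃ H : pullback (Spec.map (CommRingCat.ofHom (algebraMap K R))) pW ⟶ A,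
      pullback.map (Spec.map (CommRingCat.ofHom (algebraMap K L))) pW
          (Spec.map (CommRingCat.ofHom (algebraMap K R))) pW (Spec.map (CommRingCat.ofHom (algebraMap R L))) (𝟙 _)
          (𝟙 _) (by
            rw [Category.comp_id, ← Spec.map_comp]
            congr 1
            exact CommRingCat.hom_ext (RingHom.ext fun r => (IsScalarTower.algebraMap_apply K R L r)))
          (by simp) ≫ H = hL ∧
      ∀ x, pullback.snd (Spec.map (CommRingCat.ofHom (algebraMap K R))) pW x ∈ Set.range δ → H x = e default := by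
  let t := Spec.map (CommRingCat.ofHom (algebraMap K R))
  let pY := pullback.fst t pW
  let pG := pullback.snd pA t
  letI : GrpObj (Over.mk pG) := Over.grpObjMkPullbackSnd
  let σ := (FractionRing.algEquiv R L).symm
  let ρ : Spec (CommRingCat.of (FractionRing R)) ⟶ Spec (CommRingCat.of L) :=
    Spec.map (CommRingCat.ofHom (σ : L →+* FractionRing R))
  have hρ : ρ ≫ Spec.map (CommRingCat.ofHom (algebraMap R L)) = Neron.genPt R := by
    rw [← Spec.map_comp]
    congr 1
    exact CommRingCat.hom_ext (RingHom.ext fun r => σ.commutes r)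
  have hKL : Spec.map (CommRingCat.ofHom (algebraMap R L)) ≫ t = Spec.map (CommRingCat.ofHom (algebraMap K L)) := by
    rw [← Spec.map_comp]
    congr 1
    exact CommRingCat.hom_ext (RingHom.ext fun r => (IsScalarTower.algebraMap_apply K R L r).symm)
  let m : pullback pY (Neron.genPt R) ⟶ pullback (Spec.map (CommRingCat.ofHom (algebraMap K L))) pW :=
    pullback.lift (pullback.snd _ _ ≫ ρ) (pullback.fst _ _ ≫ pullback.snd _ _) (by
      rw [Category.assoc, Category.assoc, ← hKL, reassoc_of% hρ, ← pullback.condition_assoc, pullback.condition])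
  let hK : pullback pY (Neron.genPt R) ⟶ pullback pA t := pullback.lift (m ≫ hL) (pullback.fst _ _ ≫ pY) (by
    rw [Category.assoc, hhL, pullback.lift_snd_assoc, Category.assoc, Category.assoc, ← pullback.condition])
  obtain ⟨g, ⟨hg, hgK⟩, -⟩ := existsUnique_extension_genericFibre pY pG hK (pullback.lift_snd _ _ _)
  let H := g ≫ pullback.fst pA t
  let em := pullback.map (Spec.map (CommRingCat.ofHom (algebraMap K L))) pW t pW
      (Spec.map (CommRingCat.ofHom (algebraMap R L))) (𝟙 _) (𝟙 _) (by rw [Category.comp_id, hKL]) (by simp)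
  have hem : em ≫ H = hL := by
    have hσ : Spec.map (CommRingCat.ofHom (σ.symm : FractionRing R →+* L)) ≫ Neron.genPt R =
        Spec.map (CommRingCat.ofHom (algebraMap R L)) := by
      rw [← Spec.map_comp]
      congr 1
      exact CommRingCat.hom_ext (RingHom.ext fun r => σ.symm.commutes r)
    let c : pullback (Spec.map (CommRingCat.ofHom (algebraMap K L))) pW ⟶ pullback pY (Neron.genPt R) :=
      pullback.lift em (pullback.fst _ _ ≫ Spec.map (CommRingCat.ofHom (σ.symm : FractionRing R →+* L))) (by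
        rw [pullback.lift_fst, Category.assoc, hσ])
    have hc : c ≫ m = 𝟙 _ := by
      apply pullback.hom_ext
      · rw [Category.assoc, pullback.lift_fst, pullback.lift_snd_assoc, Category.assoc, Category.id_comp]
        refine (congrArg (pullback.fst _ _ ≫ ·) ?_).trans (Category.comp_id _)
        rw [← Spec.map_comp, ← Spec.map_id]
        congr 1
        exact CommRingCat.hom_ext (RingHom.ext fun r => σ.symm_apply_apply r)
      · rw [Category.assoc, pullback.lift_snd, pullback.lift_fst_assoc, pullback.lift_snd, Category.comp_id,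
          Category.id_comp]
    calc em ≫ H = (c ≫ pullback.fst pY (Neron.genPt R)) ≫ g ≫ pullback.fst pA t := by
          rw [pullback.lift_fst]
      _ = c ≫ m ≫ hL := by rw [Category.assoc, reassoc_of% hgK, pullback.lift_fst]
      _ = hL := by rw [reassoc_of% hc]
  refine ⟨H, hem, fun x hx => ?_⟩
  let μ := pullback.map t (δ ≫ pW) t pW (𝟙 _) δ (𝟙 _) (by simp) (by simp)
  obtain ⟨q, rfl⟩ : x ∈ Set.range μ := by
    rw [Scheme.Pullback.range_map]
    exact ⟨⟨pullback.fst t pW x, rfl⟩, hx⟩
  have hH : H ≫ pA = pullback.snd t pW ≫ pW := by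
    rw [Category.assoc, pullback.condition, reassoc_of% hg, pullback.condition]
  have hμ : μ ≫ H = pullback.snd t (δ ≫ pW) ≫ (δ ≫ pW) ≫ e := by
    have : Smooth (pullback.fst t (δ ≫ pW)) := inferInstance
    refine eq_of_fst_genPt (pullback.fst t (δ ≫ pW)) pA _ _ ?_ ?_
    · rw [Category.assoc, hH, pullback.lift_snd_assoc, Category.assoc, Category.assoc, Category.assoc, he,
        Category.comp_id]
    · let n : pullback (pullback.fst t (δ ≫ pW)) (Neron.genPt R) ⟶
          pullback (Spec.map (CommRingCat.ofHom (algebraMap K L))) (δ ≫ pW) :=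
        pullback.lift (pullback.snd _ _ ≫ ρ) (pullback.fst _ _ ≫ pullback.snd _ _) (by
          rw [Category.assoc, Category.assoc, ← hKL, reassoc_of% hρ, ← pullback.condition_assoc, pullback.condition])
      have hn : pullback.fst (pullback.fst t (δ ≫ pW)) (Neron.genPt R) ≫ μ =
          n ≫ pullback.map (Spec.map (CommRingCat.ofHom (algebraMap K L))) (δ ≫ pW) _ pW (𝟙 _) δ (𝟙 _) (by simp) (by simp) ≫ em := by
        apply pullback.hom_ext
        · simp only [Category.assoc, μ, em, n, pullback.lift_fst, pullback.lift_fst_assoc, Category.comp_id,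
            Category.id_comp]
          rw [hρ, pullback.condition]
        · simp only [Category.assoc, μ, em, n, pullback.lift_snd, pullback.lift_snd_assoc, Category.comp_id]
      rw [reassoc_of% hn, hem, hD, pullback.lift_snd_assoc, Category.assoc]
  rw [← Scheme.Hom.comp_apply, hμ]
  simp only [Scheme.Hom.comp_apply]
  exact congrArg _ (Subsingleton.elim _ _)

/-- The point `Spec (O_{X,x}/𝔪ⁿ) ⟶ X`. -/
noncomputable abbrev nthNbhd (X : Scheme.{u}) (x : X) (n : ℕ) :
    Spec (CommRingCat.of (X.presheaf.stalk x ⧸ IsLocalRing.maximalIdeal (X.presheaf.stalk x) ^ n)) ⟶ X :=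
  Spec.map (CommRingCat.ofHom (Ideal.Quotient.mk _)) ≫ X.fromSpecStalk x

theorem nthNbhd_apply {X : Scheme.{u}} (x : X) (n : ℕ) (q) : nthNbhd X x n q = x := by
  have h : Spec.map (CommRingCat.ofHom (Ideal.Quotient.mk (IsLocalRing.maximalIdeal (X.presheaf.stalk x) ^ n))) q =
      IsLocalRing.closedPoint (X.presheaf.stalk x) := by
    refine PrimeSpectrum.ext ((IsLocalRing.le_maximalIdeal (PrimeSpectrum.isPrime _).ne_top).antisymm ?_)
    intro a ha
    have h2 : Ideal.Quotient.mk (IsLocalRing.maximalIdeal (X.presheaf.stalk x) ^ n) (a ^ n) = 0 :=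
      Ideal.Quotient.eq_zero_iff_mem.2 (Ideal.pow_mem_pow ha n)
    have h3 : Ideal.Quotient.mk (IsLocalRing.maximalIdeal (X.presheaf.stalk x) ^ n) a ∈ q.asIdeal :=
      q.isPrime.mem_of_pow_mem n (by rw [← map_pow, h2]; exact zero_mem _)
    exact h3
  rw [nthNbhd, Scheme.Hom.comp_apply, h, Scheme.fromSpecStalk_closedPoint]

/-- Two morphisms agree near `p` if they agree on all infinitesimal neighbourhoods of `p`. -/
theorem fromSpecStalk_comp_eq_of_nthNbhd {X A : Scheme.{u}} (p : X) [IsNoetherianRing (X.presheaf.stalk p)]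
    (f g : X ⟶ A) (hfg : f p = g p) (h : ∀ n, nthNbhd X p n ≫ f = nthNbhd X p n ≫ g) :
    X.fromSpecStalk p ≫ f = X.fromSpecStalk p ≫ g := by
  obtain ⟨B, hB, hfB, -⟩ := exists_isAffineOpen_mem_and_subset (x := f p) (U := ⊤) trivial
  have hmem : ∀ (k : X ⟶ A), k p ∈ B → ∀ y, (X.fromSpecStalk p ≫ k) y ∈ B := fun k hk y => by
    have : X.fromSpecStalk p y ⤳ p := (Scheme.range_fromSpecStalk (X := X) (x := p)).le ⟨y, rfl⟩
    exact (this.map k.continuous).mem_open B.isOpen hk
  obtain ⟨α, hα⟩ := exists_ringHom_of_range_subset hB _ (hmem f hfB)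
  obtain ⟨β, hβ⟩ := exists_ringHom_of_range_subset hB _ (hmem g (hfg ▸ hfB))
  rw [hα, hβ]
  congr 2
  refine CommRingCat.hom_ext (RingHom.ext fun b => sub_eq_zero.1 ?_)
  rw [← Ideal.mem_bot, ← Ideal.iInf_pow_eq_bot_of_isLocalRing (IsLocalRing.maximalIdeal _) (IsLocalRing.maximalIdeal.isMaximal _).ne_top,
    Ideal.mem_iInf]
  intro n
  rw [← Ideal.Quotient.eq_zero_iff_mem, map_sub, sub_eq_zero]
  have h1 := h n
  rw [nthNbhd, Category.assoc, Category.assoc, hα, hβ, ← Category.assoc, ← Category.assoc, cancel_mono,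
    ← Spec.map_comp, ← Spec.map_comp] at h1
  exact congrArg (fun k => k b) (Spec.map_injective h1)

/-- If `h : Spec C × W ⟶ A` is trivial on `{v₀} × W` and on `Spec C × D`, with `K` algebraically closed in `C`,
`W` smooth and `Spec C × W` integral, then it is trivial. -/
theorem eq_const_of_infinitesimal {C : Type u} [CommRing C] [IsDomain C] [Algebra K C] [Algebra.FiniteType K C]
    (hclosed : ∀ x : C, IsAlgebraic K x → x ∈ Set.range (algebraMap K C)) {W D A : Scheme.{u}}
    (pW : W ⟶ Spec (CommRingCat.of K)) (pA : A ⟶ Spec (CommRingCat.of K)) [Smooth pW] [GrpObj (Over.mk pA)]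
    [IsProper pA] [IsIntegral (pullback (Spec.map (CommRingCat.ofHom (algebraMap K C))) pW)]
    (h : pullback (Spec.map (CommRingCat.ofHom (algebraMap K C))) pW ⟶ A)
    (hh : h ≫ pA = pullback.snd _ pW ≫ pW) (e : Spec (CommRingCat.of K) ⟶ A) (he : e ≫ pA = 𝟙 _)
    (v₀ : C →ₐ[K] K)
    (h₀ : pullback.lift (pW ≫ Spec.map (CommRingCat.ofHom v₀.toRingHom)) (𝟙 W) (by
        rw [Category.assoc, algHom_preimage, Algebra.algebraMap_self]
        exact (congrArg (pW ≫ ·) (Spec.map_id _)).trans (by simp)) ≫ h = pW ≫ e)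
    (δ : D ⟶ W) [Smooth (δ ≫ pW)] [Nonempty D]
    (hD : pullback.map (Spec.map (CommRingCat.ofHom (algebraMap K C))) (δ ≫ pW)
        (Spec.map (CommRingCat.ofHom (algebraMap K C))) pW (𝟙 _) δ (𝟙 _) (by simp) (by simp) ≫ h =
      pullback.snd _ (δ ≫ pW) ≫ (δ ≫ pW) ≫ e) :
    h = pullback.snd _ pW ≫ pW ≫ e := by
  let pV := Spec.map (CommRingCat.ofHom (algebraMap K C))
  let L := FractionRing C
  let z : W := δ (Classical.arbitrary D)
  let s : W ⟶ pullback pV pW := pullback.lift (pW ≫ Spec.map (CommRingCat.ofHom v₀.toRingHom)) (𝟙 W) (by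
        rw [Category.assoc, algHom_preimage, Algebra.algebraMap_self]
        exact (congrArg (pW ≫ ·) (Spec.map_id _)).trans (by simp))
  let p := s z
  have hzp : pullback.snd pV pW p = z := by
    rw [← Scheme.Hom.comp_apply, pullback.lift_snd]; rfl
  have : IsLocallyNoetherian W := LocallyOfFiniteType.isLocallyNoetherian pW
  have : LocallyOfFiniteType pV := by
    rw [HasRingHomProperty.Spec_iff (P := @LocallyOfFiniteType)]
    exact (RingHom.finiteType_algebraMap).2 ‹_›
  have : IsLocallyNoetherian (pullback pV pW) :=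
    LocallyOfFiniteType.isLocallyNoetherian (pullback.snd pV pW ≫ pW)
  obtain ⟨B, hB, hzB, -⟩ := exists_isAffineOpen_mem_and_subset (x := e default) (U := ⊤) trivial
  have hpt : ∀ y : ↥(pullback pV pW), pullback.snd pV pW y ∈ Set.range δ → h y = e default := by
    intro y hy
    obtain ⟨q, rfl⟩ : y ∈ Set.range (pullback.map pV (δ ≫ pW) pV pW (𝟙 _) δ (𝟙 _) (by simp) (by simp)) := by
      rw [Scheme.Pullback.range_map]
      exact ⟨⟨_, rfl⟩, hy⟩
    rw [← Scheme.Hom.comp_apply, hD]
    simp only [Scheme.Hom.comp_apply]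
    exact congrArg _ (Subsingleton.elim _ _)
  -- infinitesimal constancy
  have main : ∀ n, pullback.map pV (nthNbhd W z n ≫ pW) pV pW (𝟙 _) (nthNbhd W z n) (𝟙 _) (by simp) (by simp) ≫ h =
      pullback.snd _ _ ≫ (nthNbhd W z n ≫ pW) ≫ e := by
    intro n
    let O := W.presheaf.stalk z ⧸ IsLocalRing.maximalIdeal (W.presheaf.stalk z) ^ n
    let ζ := nthNbhd W z n
    letI : Algebra K O := (Spec.preimage (ζ ≫ pW)).hom.toAlgebra
    have hζ : Spec.map (CommRingCat.ofHom (algebraMap K O)) = ζ ≫ pW := Spec.map_preimage (ζ ≫ pW)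
    have hη : ∀ (R : Type u) [CommRing R] [Algebra K R],
        ∃ η : Spec (CommRingCat.of (R ⊗[K] O)) ⟶ pullback (Spec.map (CommRingCat.ofHom (algebraMap K R))) pW,
          η ≫ pullback.fst _ _ = Spec.map (CommRingCat.ofHom (Algebra.TensorProduct.includeLeftRingHom : R →+* R ⊗[K] O)) ∧
          η ≫ pullback.snd _ _ = Spec.map (CommRingCat.ofHom (Algebra.TensorProduct.includeRight : O →ₐ[K] R ⊗[K] O).toRingHom) ≫ ζ := by
      intro R _ _
      refine ⟨pullback.lift (Spec.map (CommRingCat.ofHom (Algebra.TensorProduct.includeLeftRingHom : R →+* R ⊗[K] O)))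
        (Spec.map (CommRingCat.ofHom (Algebra.TensorProduct.includeRight : O →ₐ[K] R ⊗[K] O).toRingHom) ≫ ζ) ?_,
        pullback.lift_fst _ _ _, pullback.lift_snd _ _ _⟩
      rw [Category.assoc, ← hζ, ← Spec.map_comp, ← Spec.map_comp]
      congr 1
      exact CommRingCat.hom_ext (RingHom.ext fun r =>
        (Algebra.TensorProduct.includeLeft : R →ₐ[K] R ⊗[K] O).commutes r |>.trans
          ((Algebra.TensorProduct.includeRight : O →ₐ[K] R ⊗[K] O).commutes r).symm)
    obtain ⟨ηC, hηC1, hηC2⟩ := hη C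
    have hz : ∀ {T : Scheme.{u}} (k : T ⟶ Spec (CommRingCat.of O)) t, (k ≫ ζ) t ∈ Set.range δ := fun k t => by
      rw [Scheme.Hom.comp_apply, nthNbhd_apply]; exact ⟨_, rfl⟩
    obtain ⟨βC, hβC⟩ := exists_ringHom_of_range_subset hB (ηC ≫ h) (fun t => by
      rw [Scheme.Hom.comp_apply, hpt _ (by rw [← Scheme.Hom.comp_apply, hηC2]; exact hz _ t)]
      exact hzB)
    obtain ⟨γ, hγ⟩ := exists_ringHom_of_range_subset hB (Spec.map (CommRingCat.ofHom (algebraMap K O)) ≫ e)
      (fun t => by rw [Scheme.Hom.comp_apply, Subsingleton.elim (Spec.map _ t) default]; exact hzB)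
    have hrange : ∀ b, βC b ∈ (Algebra.TensorProduct.includeRight (R := K) (A := C) (B := O)).range := by
      intro b
      refine mem_range_includeRight_of_forall_dvr K L hclosed _ fun R hR hK => ?_
      letI : Algebra K R := ((algebraMap K L).codRestrict R.toSubring hK).toAlgebra
      haveI : IsScalarTower K R L := IsScalarTower.of_algebraMap_eq fun _ => rfl
      let eC : Spec (CommRingCat.of L) ⟶ Spec (CommRingCat.of C) := Spec.map (CommRingCat.ofHom (algebraMap C L))
      have hCL : eC ≫ pV = Spec.map (CommRingCat.ofHom (algebraMap K L)) :=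
        algHom_preimage (IsScalarTower.toAlgHom K C L)
      let ec := pullback.map (Spec.map (CommRingCat.ofHom (algebraMap K L))) pW pV pW eC (𝟙 _) (𝟙 _)
        (by rw [Category.comp_id, hCL]) (by simp)
      obtain ⟨H, hH, hHpt⟩ := exists_dvr_extension (R := R) (L := L) pW pA (ec ≫ h)
        (by rw [Category.assoc, hh, pullback.lift_snd_assoc, Category.comp_id]) δ e he (by
          let ec' := pullback.map (Spec.map (CommRingCat.ofHom (algebraMap K L))) (δ ≫ pW) pV (δ ≫ pW) eC (𝟙 _) (𝟙 _)
            (by rw [Category.comp_id, hCL]) (by simp)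
          have hec' : ec' ≫ pullback.snd pV (δ ≫ pW) = pullback.snd _ _ :=
            (pullback.lift_snd _ _ _).trans (Category.comp_id _)
          calc _ ≫ ec ≫ h = ec' ≫ (pullback.map pV (δ ≫ pW) pV pW (𝟙 _) δ (𝟙 _) (by simp) (by simp) ≫ h) := by
                rw [← Category.assoc, ← Category.assoc]
                congr 1
                apply pullback.hom_ext <;>
                  simp [ec, ec', pullback.map, pullback.lift_fst, pullback.lift_snd, pullback.lift_fst_assoc, pullback.lift_snd_assoc]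
            _ = _ := by rw [hD]; exact (Category.assoc _ _ _).symm.trans (congrArg (· ≫ (δ ≫ pW) ≫ e) hec'))
      obtain ⟨ηR, hηR1, hηR2⟩ := hη R
      obtain ⟨βR, hβR⟩ := exists_ringHom_of_range_subset hB (ηR ≫ H) (fun t => by
        rw [Scheme.Hom.comp_apply, hHpt _ (by rw [← Scheme.Hom.comp_apply, hηR2]; exact hz _ t)]
        exact hzB)
      obtain ⟨ηL, hηL1, hηL2⟩ := hη L
      let φC := Algebra.TensorProduct.map (IsScalarTower.toAlgHom K C L) (AlgHom.id K O)
      let φR := Algebra.TensorProduct.map (IsScalarTower.toAlgHom K R L) (AlgHom.id K O)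
      have hsq : ∀ (R' : Type u) [CommRing R'] [Algebra K R'] (f : R' →ₐ[K] L)
          (η : Spec (CommRingCat.of (R' ⊗[K] O)) ⟶ pullback (Spec.map (CommRingCat.ofHom (algebraMap K R'))) pW)
          (h1 : η ≫ pullback.fst _ _ = Spec.map (CommRingCat.ofHom (Algebra.TensorProduct.includeLeftRingHom : R' →+* R' ⊗[K] O)))
          (h2 : η ≫ pullback.snd _ _ = Spec.map (CommRingCat.ofHom (Algebra.TensorProduct.includeRight : O →ₐ[K] R' ⊗[K] O).toRingHom) ≫ ζ),
          Spec.map (CommRingCat.ofHom (Algebra.TensorProduct.map f (AlgHom.id K O)).toRingHom) ≫ η =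
            ηL ≫ pullback.map _ pW _ pW (Spec.map (CommRingCat.ofHom f.toRingHom)) (𝟙 _) (𝟙 _)
              (by rw [Category.comp_id]; exact (algHom_preimage f).symm) (by simp) := by
        intro R' _ _ f η h1 h2
        apply pullback.hom_ext
        · rw [Category.assoc, h1, Category.assoc, pullback.lift_fst, ← Category.assoc, hηL1, ← Spec.map_comp,
            ← Spec.map_comp]
          congr 1
        · rw [Category.assoc, h2, Category.assoc, pullback.lift_snd, Category.comp_id, hηL2, ← Category.assoc,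
            ← Spec.map_comp]
          congr 2
          exact CommRingCat.hom_ext (RingHom.ext fun r => by simp)
      have heq : φC (βC b) = φR (βR b) := by
        have h1 : Spec.map (CommRingCat.ofHom φC.toRingHom) ≫ ηC ≫ h = Spec.map (CommRingCat.ofHom φR.toRingHom) ≫ ηR ≫ H := by
          rw [← Category.assoc, hsq C (IsScalarTower.toAlgHom K C L) ηC hηC1 hηC2, ← Category.assoc,
            hsq R (IsScalarTower.toAlgHom K R L) ηR hηR1 hηR2, Category.assoc, Category.assoc]
          exact congrArg (ηL ≫ ·) hH.symm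
        rw [hβC, hβR, ← Category.assoc, ← Category.assoc, cancel_mono, ← Spec.map_comp, ← Spec.map_comp] at h1
        exact congrArg (fun k => k b) (Spec.map_injective h1)
      rw [heq]
      induction βR b using TensorProduct.induction_on with
      | zero => rw [map_zero]; exact zero_mem _
      | tmul r o => exact AddSubmonoid.subset_closure ⟨r, r.2, o, rfl⟩
      | add a c ha hc => rw [map_add]; exact add_mem ha hc
    -- evaluation at `v₀`
    let ε : C ⊗[K] O →ₐ[K] O := Algebra.TensorProduct.lift ((Algebra.ofId K O).comp v₀) (AlgHom.id K O)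
      fun _ _ => Commute.all _ _
    have hε : ∀ b, ε (βC b) = γ b := by
      have hs : Spec.map (CommRingCat.ofHom ε.toRingHom) ≫ ηC = ζ ≫ s := by
        apply pullback.hom_ext
        · rw [Category.assoc, hηC1, Category.assoc, pullback.lift_fst, ← Category.assoc ζ, ← hζ, ← Spec.map_comp,
            ← Spec.map_comp]
          congr 1
          exact CommRingCat.hom_ext (RingHom.ext fun r => by simp [ε])
        · rw [Category.assoc, hηC2, Category.assoc, pullback.lift_snd, Category.comp_id, ← Category.assoc,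
            ← Spec.map_comp]
          refine (congrArg (· ≫ ζ) ((congrArg Spec.map ?_).trans (Spec.map_id _))).trans (Category.id_comp _)
          exact CommRingCat.hom_ext (RingHom.ext fun r => by simp [ε]; rfl)
      intro b
      have h1 : Spec.map (CommRingCat.ofHom ε.toRingHom) ≫ ηC ≫ h = Spec.map (CommRingCat.ofHom (algebraMap K O)) ≫ e := by
        rw [reassoc_of% hs, h₀, hζ]; exact (Category.assoc _ _ _).symm
      rw [hβC, hγ, ← Category.assoc, cancel_mono, ← Spec.map_comp] at h1
      exact congrArg (fun k => k b) (Spec.map_injective h1)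
    have hβ : βC = γ ≫ CommRingCat.ofHom (Algebra.TensorProduct.includeRight : O →ₐ[K] C ⊗[K] O).toRingHom := by
      refine CommRingCat.hom_ext (RingHom.ext fun b => ?_)
      obtain ⟨o, ho⟩ := hrange b
      have : γ b = o := by
        rw [← hε b, ← ho]
        simp [ε]
      exact ho.symm.trans (congrArg (fun o => (Algebra.TensorProduct.includeRight : O →ₐ[K] C ⊗[K] O) o) this.symm)
    have hC : ηC ≫ h = ηC ≫ pullback.snd pV pW ≫ pW ≫ e := by
      rw [hβC, hβ, Spec.map_comp, Category.assoc, ← hγ, hζ, reassoc_of% hηC2, Category.assoc]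
    let ξ : pullback pV (ζ ≫ pW) ⟶ Spec (CommRingCat.of (C ⊗[K] O)) :=
      pullback.map pV (ζ ≫ pW) pV (Spec.map (CommRingCat.ofHom (algebraMap K O))) (𝟙 _) (𝟙 _) (𝟙 _) (by simp)
        (by simp [hζ]) ≫ (pullbackSpecIso K C O).hom
    let μ := pullback.map pV (ζ ≫ pW) pV pW (𝟙 _) ζ (𝟙 _) (by simp) (by simp)
    have hξ : ξ ≫ ηC = μ := by
      refine pullback.hom_ext ?_ ?_
      · refine (Category.assoc _ _ _).trans ((congrArg (ξ ≫ ·) hηC1).trans ?_)
        refine (Category.assoc _ _ _).trans ((congrArg (_ ≫ ·) (pullbackSpecIso_hom_fst K C O)).trans ?_)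
        exact (pullback.lift_fst _ _ _).trans (pullback.lift_fst _ _ _).symm
      · refine (Category.assoc _ _ _).trans ((congrArg (ξ ≫ ·) hηC2).trans ?_)
        refine (Category.assoc _ _ _).trans ((congrArg (_ ≫ ·) (pullbackSpecIso_hom_snd_assoc K C O ζ)).trans ?_)
        refine Eq.trans ?_ (pullback.lift_snd _ _ _).symm
        exact (Category.assoc _ _ _).symm.trans (congrArg (· ≫ ζ) ((pullback.lift_snd _ _ _).trans (Category.comp_id _)))
    have hμ : μ ≫ pullback.snd pV pW = pullback.snd pV (ζ ≫ pW) ≫ ζ := pullback.lift_snd _ _ _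
    calc μ ≫ h = ξ ≫ ηC ≫ h := (congrArg (· ≫ h) hξ.symm).trans (Category.assoc _ _ _)
      _ = (ξ ≫ ηC) ≫ pullback.snd pV pW ≫ pW ≫ e := (congrArg (ξ ≫ ·) hC).trans (Category.assoc _ _ _).symm
      _ = μ ≫ pullback.snd pV pW ≫ pW ≫ e := congrArg (· ≫ _) hξ
      _ = (μ ≫ pullback.snd pV pW) ≫ pW ≫ e := (Category.assoc _ _ _).symm
      _ = (pullback.snd pV (ζ ≫ pW) ≫ ζ) ≫ pW ≫ e := congrArg (· ≫ _) hμ
      _ = pullback.snd pV (ζ ≫ pW) ≫ ζ ≫ pW ≫ e := Category.assoc _ _ _
      _ = _ := congrArg (pullback.snd pV (ζ ≫ pW) ≫ ·) (Category.assoc _ _ _).symm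
  -- conclusion
  have hloc : (pullback pV pW).fromSpecStalk p ≫ h = (pullback pV pW).fromSpecStalk p ≫ pullback.snd pV pW ≫ pW ≫ e := by
    refine fromSpecStalk_comp_eq_of_nthNbhd p _ _ ?_ fun n => ?_
    · rw [hpt p (by rw [hzp]; exact ⟨_, rfl⟩)]
      simp only [Scheme.Hom.comp_apply]
      exact congrArg _ (Subsingleton.elim _ _)
    · let P := pullback pV pW
      let f := pullback.snd pV pW
      have hle : IsLocalRing.maximalIdeal (W.presheaf.stalk (f p)) ^ n ≤
          (IsLocalRing.maximalIdeal (P.presheaf.stalk p) ^ n).comap (f.stalkMap p).hom := by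
        rw [← Ideal.map_le_iff_le_comap, Ideal.map_pow]
        exact Ideal.pow_right_mono (Ideal.map_le_iff_le_comap.2 fun a ha => Ideal.mem_comap.2 (map_nonunit (f.stalkMap p).hom a ha)) n
      have hfac : ∃ θ, nthNbhd P p n ≫ f = θ ≫ nthNbhd W (f p) n := by
        refine ⟨Spec.map (CommRingCat.ofHom (Ideal.quotientMap _ (f.stalkMap p).hom hle)), ?_⟩
        rw [nthNbhd, nthNbhd, Category.assoc, ← Scheme.SpecMap_stalkMap_fromSpecStalk, ← Category.assoc,
          ← Category.assoc, ← Spec.map_comp, ← Spec.map_comp]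
        rfl
      rw [hzp] at hfac
      obtain ⟨θ, hθ⟩ := hfac
      let k : _ ⟶ pullback pV (nthNbhd W z n ≫ pW) := pullback.lift (nthNbhd P p n ≫ pullback.fst pV pW) θ (by
        rw [Category.assoc, pullback.condition, ← Category.assoc, hθ, Category.assoc])
      have hk : nthNbhd P p n = k ≫ pullback.map pV (nthNbhd W z n ≫ pW) pV pW (𝟙 _) (nthNbhd W z n) (𝟙 _) (by simp) (by simp) := by
        apply pullback.hom_ext
        · simp only [k, Category.assoc, pullback.lift_fst, pullback.lift_fst_assoc, Category.comp_id]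
        · simp only [k, Category.assoc, pullback.lift_snd, pullback.lift_snd_assoc]
          exact hθ
      rw [hk]
      refine (Category.assoc _ _ _).trans ((congrArg (k ≫ ·) (main n)).trans ?_)
      simp only [Category.assoc, pullback.lift_snd_assoc]
  have : IsDominant ((pullback pV pW).fromSpecStalk p) := by
    refine ⟨dense_iff_inter_open.2 fun T hT ⟨t, ht⟩ => ?_⟩
    have h1 : genericPoint ↑(pullback pV pW) ∈ Set.range ((pullback pV pW).fromSpecStalk p) := by
      rw [Scheme.range_fromSpecStalk]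
      exact (genericPoint_spec ↑(pullback pV pW)).specializes trivial
    exact ⟨_, ((genericPoint_spec ↑(pullback pV pW)).specializes trivial).mem_open hT ht, h1⟩
  refine ext_of_isDominant_of_isSeparated pA ?_ _ hloc
  rw [hh, Category.assoc, Category.assoc, he, Category.comp_id]

end Groth.Agent.NeronLib
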