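import Mathlib

/-!
# A finite extension of normal domains with at most one rational point over each rational point is birational
-/

set_option autoImplicit false

universe u

open Polynomial

namespace Groth.Agent.NeronLib

/-- A maximal ideal with residue field `k` gives a point. -/
theorem exists_algHom_ker_eq {k R : Type u} [Field k] [IsAlgClosed k] [CommRing R] [Algebra k R]
    [Algebra.FiniteType k R] (m : Ideal R) [m.IsMaximal] : ∃ p : R →ₐ[k] k, RingHom.ker p = m := by
  let := Ideal.Quotient.field m
  have : Module.Finite k (R ⧸ m) := finite_of_finite_type_of_isJacobsonRing k (R ⧸ m)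
  have hb := IsAlgClosed.algebraMap_bijective_of_isIntegral (k := k) (K := R ⧸ m)
  let e : k ≃ₐ[k] R ⧸ m := AlgEquiv.ofBijective (Algebra.ofId k (R ⧸ m)) hb
  refine ⟨e.symm.toAlgHom.comp (Ideal.Quotient.mkₐ k m), ?_⟩
  ext x
  rw [RingHom.mem_ker]
  show e.symm (Ideal.Quotient.mk m x) = 0 ↔ _
  rw [EmbeddingLike.map_eq_zero_iff, Ideal.Quotient.eq_zero_iff_mem]

variable {k A B : Type u} [Field k] [IsAlgClosed k] [CharZero k] [CommRing A] [CommRing B]
  [Algebra k A] [Algebra k B] [Algebra A B] [IsScalarTower k A B]

/-- For normal `A` and a finite extension `B` with at most one point over each point, the fraction fields agree. -/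
theorem fractionField_surjective_of_points_injective (K L : Type u) [Field K] [Field L] [Algebra A K]
    [Algebra B L] [Algebra A L] [Algebra K L] [IsScalarTower A B L] [IsScalarTower A K L]
    [IsDomain A] [IsDomain B] [IsFractionRing A K] [IsFractionRing B L] [IsIntegrallyClosed A]
    [Algebra.FiniteType k A] [Module.Finite A B] (hinj : Function.Injective (algebraMap A B))
    (hpts : ∀ a b : B →ₐ[k] k, a.comp (IsScalarTower.toAlgHom k A B) = b.comp (IsScalarTower.toAlgHom k A B) → a = b) :
    Function.Surjective (algebraMap K L) := by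
  classical
  have : Module.IsTorsionFree A B := Module.isTorsionFree_iff_algebraMap_injective.2 hinj
  have : CharZero A := charZero_of_injective_algebraMap (algebraMap k A).injective
  have : CharZero K := charZero_of_injective_algebraMap (IsFractionRing.injective A K)
  have : Algebra.IsIntegral A B := Algebra.IsIntegral.of_finite A B
  -- `L` is finite over `K`
  have hgen : ∀ x : L, ∃ (b : B) (a : A), a ≠ 0 ∧ algebraMap A L a * x = algebraMap B L b := by
    intro x
    obtain ⟨⟨b, c, hc⟩, hx⟩ := IsLocalization.surj (nonZeroDivisors B) x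
    obtain ⟨a, ha, e, he⟩ := (Algebra.IsIntegral.isIntegral (R := A) c).isAlgebraic.exists_nonzero_dvd hc
    refine ⟨b * e, a, ha, ?_⟩
    rw [IsScalarTower.algebraMap_apply A B L, he, map_mul, map_mul, ← hx]
    ring
  have : FiniteDimensional K L := by
    obtain ⟨s, hs⟩ := (Module.Finite.fg_top (R := A) (M := B))
    refine ⟨⟨s.image (algebraMap B L), eq_top_iff.2 fun x _ => ?_⟩⟩
    obtain ⟨b, a, ha, hb⟩ := hgen x
    have haK : algebraMap A K a ≠ 0 := by simpa using ha
    have hx : x = (algebraMap A K a)⁻¹ • algebraMap B L b := by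
      rw [← hb, Algebra.smul_def, ← mul_assoc, IsScalarTower.algebraMap_apply A K L, ← map_mul,
        inv_mul_cancel₀ haK, map_one, one_mul]
    rw [hx]
    refine Submodule.smul_mem _ _ ?_
    rw [Finset.coe_image]
    have hb' : b ∈ Submodule.span A (s : Set B) := hs ▸ Submodule.mem_top
    have := Submodule.apply_mem_span_image_of_mem_span (IsScalarTower.toAlgHom A B L).toLinearMap hb'
    exact Submodule.span_subset_span A K _ this
  obtain ⟨α, hα⟩ := Field.exists_primitive_element K L
  obtain ⟨θ, a₁, ha₁, hθ⟩ := hgen α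
  have hint : IsIntegral A θ := Algebra.IsIntegral.isIntegral θ
  set F := minpoly A θ with hF
  have hFK : minpoly K (algebraMap B L θ) = F.map (algebraMap A K) := minpoly.isIntegrallyClosed_eq_field_fractions K L hint
  have htop : IntermediateField.adjoin K {algebraMap B L θ} = ⊤ := by
    rw [eq_top_iff, ← hα, IntermediateField.adjoin_simple_le_iff]
    have haK : algebraMap A K a₁ ≠ 0 := by simpa using ha₁
    have e : α = algebraMap K L (algebraMap A K a₁)⁻¹ * algebraMap B L θ := by
      rw [← hθ, ← mul_assoc, IsScalarTower.algebraMap_apply A K L, ← map_mul, inv_mul_cancel₀ haK, map_one,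
        one_mul]
    rw [e]
    exact mul_mem (IntermediateField.algebraMap_mem _ _) (IntermediateField.subset_adjoin K _ rfl)
  by_contra hsurj
  have hdeg : 2 ≤ F.natDegree := by
    by_contra hd
    have h1 : (minpoly K (algebraMap B L θ)).natDegree = 1 := by
      rw [hFK, (minpoly.monic hint).natDegree_map]
      have := minpoly.natDegree_pos hint
      rw [← hF] at this ⊢
      omega
    refine hsurj fun x => ?_
    have hfr : Module.finrank K L = 1 := by
      rw [← IntermediateField.finrank_top', ← htop, IntermediateField.adjoin.finrank (Algebra.IsIntegral.isIntegral _), h1]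
    obtain ⟨c, hc⟩ := exists_smul_eq_of_finrank_eq_one hfr one_ne_zero x
    exact ⟨c, by rw [← hc, Algebra.smul_def, mul_one]⟩
  -- separability spreads out
  have hsep : (F.map (algebraMap A K)).Separable := by
    rw [← hFK]
    exact (minpoly.irreducible (Algebra.IsIntegral.isIntegral _)).separable
  rw [Polynomial.separable_def, Polynomial.derivative_map] at hsep
  obtain ⟨p, q, hpq⟩ := hsep
  obtain ⟨s, hs⟩ := IsLocalization.integerNormalization_map_to_map (nonZeroDivisors A) p
  obtain ⟨s', hs'⟩ := IsLocalization.integerNormalization_map_to_map (nonZeroDivisors A) q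
  set p₀ := IsLocalization.integerNormalization (nonZeroDivisors A) p
  set q₀ := IsLocalization.integerNormalization (nonZeroDivisors A) q
  have hid : C (s' : A) * p₀ * F + C (s : A) * q₀ * derivative F = C ((s : A) * s') := by
    refine map_injective (algebraMap A K) (IsFractionRing.injective A K) ?_
    simp only [Polynomial.map_add, Polynomial.map_mul, Polynomial.map_C, hs, hs', Algebra.smul_def,
      Polynomial.algebraMap_apply, map_mul]
    linear_combination (C (algebraMap A K s) * C (algebraMap A K s')) * hpq
  have hd0 : (s : A) * s' ≠ 0 := mul_ne_zero (nonZeroDivisors.ne_zero s.2) (nonZeroDivisors.ne_zero s'.2)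
  have : IsJacobsonRing A := isJacobsonRing_of_finiteType (A := k) (B := A)
  obtain ⟨m, hm, hdm⟩ : ∃ m : Ideal A, m.IsMaximal ∧ (s : A) * s' ∉ m := by
    by_contra hcon
    have h1 : (s : A) * s' ∈ Ideal.jacobson (⊥ : Ideal A) := Ideal.mem_sInf.2 fun {J} hJ => by
      by_contra hmem
      exact hcon ⟨J, hJ.2, hmem⟩
    rw [IsJacobsonRing.out' (⊥ : Ideal A) (Ideal.isPrime_bot.isRadical)] at h1
    exact hd0 h1
  obtain ⟨π, hπ⟩ := exists_algHom_ker_eq (k := k) m
  have hsepπ : (F.map π.toRingHom).Separable := by
    have hu : IsUnit (π ((s : A) * s')) := by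
      refine isUnit_iff_ne_zero.2 fun h0 => hdm ?_
      rw [← hπ]; exact h0
    obtain ⟨w, hw⟩ := hu.exists_right_inv
    rw [Polynomial.separable_def, Polynomial.derivative_map]
    refine ⟨C w * (C (π s') * p₀.map π.toRingHom), C w * (C (π s) * q₀.map π.toRingHom), ?_⟩
    have h := congrArg (Polynomial.map π.toRingHom) hid
    simp only [Polynomial.map_add, Polynomial.map_mul, Polynomial.map_C] at h
    have h2 : ∀ x : A, (C (π.toRingHom x) : k[X]) = C (π x) := fun x => rfl
    simp only [h2] at h
    have hw' := congrArg (C (R := k)) hw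
    simp only [map_mul, map_one] at h hw'
    linear_combination C w * h + hw'
  obtain ⟨r₁, hr₁, r₂, hr₂, hne⟩ : ∃ r₁ ∈ (F.map π.toRingHom).roots, ∃ r₂ ∈ (F.map π.toRingHom).roots, r₁ ≠ r₂ := by
    have hcard : 2 ≤ (F.map π.toRingHom).roots.toFinset.card := by
      rw [Multiset.toFinset_card_of_nodup (Polynomial.nodup_roots hsepπ), IsAlgClosed.card_roots_eq_natDegree,
        (minpoly.monic hint).natDegree_map]
      exact hdeg
    obtain ⟨r₁, h₁, r₂, h₂, hne⟩ := Finset.one_lt_card.1 hcard
    exact ⟨r₁, Multiset.mem_toFinset.1 h₁, r₂, Multiset.mem_toFinset.1 h₂, hne⟩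
  have hlift : ∀ r ∈ (F.map π.toRingHom).roots, ∃ b : B →ₐ[k] k,
      b.comp (IsScalarTower.toAlgHom k A B) = π ∧ b θ = r := by
    intro r hr
    letI algP : Algebra A[X] B := (Polynomial.aeval (R := A) θ).toRingHom.toAlgebra
    have : IsScalarTower A A[X] B := IsScalarTower.of_algebraMap_eq fun a => ((Polynomial.aeval (R := A) θ).commutes a).symm
    have : Algebra.IsIntegral A[X] B := ⟨fun b => (Algebra.IsIntegral.isIntegral (R := A) b).tower_top⟩
    let ev : A[X] →+* k := Polynomial.eval₂RingHom π.toRingHom r
    have hev : Function.Surjective ev := fun c => ⟨C (algebraMap k A c), by simp [ev]⟩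
    have : (RingHom.ker ev).IsMaximal := RingHom.ker_isMaximal_of_surjective ev hev
    have hker : RingHom.ker (algebraMap A[X] B) ≤ RingHom.ker ev := fun P hP => by
      obtain ⟨Q, rfl⟩ := minpoly.isIntegrallyClosed_dvd hint (show Polynomial.aeval θ P = 0 from hP)
      have h0 : ev F = 0 := by
        have := (Polynomial.mem_roots'.1 hr).2
        rw [Polynomial.IsRoot.def, Polynomial.eval_map] at this
        exact this
      rw [RingHom.mem_ker, map_mul, ← hF, h0, zero_mul]
    obtain ⟨Q, -, hQ, hQc⟩ := Ideal.exists_ideal_over_prime_of_isIntegral (RingHom.ker ev) (⊥ : Ideal B) (by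
      rw [← RingHom.ker_eq_comap_bot]; exact hker)
    have : Q.IsMaximal := Ideal.isMaximal_of_isIntegral_of_isMaximal_comap (R := A[X]) Q (hQc ▸ inferInstance)
    have : Algebra.FiniteType k B := Algebra.FiniteType.trans (S := A) inferInstance inferInstance
    obtain ⟨b, hb⟩ := exists_algHom_ker_eq (k := k) Q
    have key : ∀ P : A[X], ev P = 0 → b (Polynomial.aeval θ P) = 0 := fun P hP => by
      have : P ∈ Q.comap (algebraMap A[X] B) := hQc ▸ hP
      rw [Ideal.mem_comap, ← hb] at this
      exact this
    refine ⟨b, AlgHom.ext fun a => ?_, ?_⟩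
    · have := key (C (a - algebraMap k A (π a))) (by simp [ev])
      rw [Polynomial.aeval_C, map_sub, map_sub, sub_eq_zero, ← IsScalarTower.algebraMap_apply, AlgHom.commutes] at this
      exact this
    · have := key (Polynomial.X - C (algebraMap k A r)) (by simp [ev])
      rw [map_sub, map_sub, Polynomial.aeval_X, Polynomial.aeval_C, sub_eq_zero, ← IsScalarTower.algebraMap_apply,
        AlgHom.commutes] at this
      exact this
  obtain ⟨b₁, h₁, e₁⟩ := hlift r₁ hr₁
  obtain ⟨b₂, h₂, e₂⟩ := hlift r₂ hr₂
  exact hne (by rw [← e₁, ← e₂, hpts b₁ b₂ (h₁.trans h₂.symm)])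

end Groth.Agent.NeronLib
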