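import Mathlib
import Groth.Agent.CAlgH3.RegularLocal
import Groth.Agent.CAlgH3.RationalPointSmooth

/-!
# Sections through regular points land in the smooth locus

For a flat algebra over a ring whose local rings have principal maximal ideals, a point of the
spectrum with regular local ring through which an algebraic section passes is a smooth point.
-/

set_option autoImplicit false

universe u

open IsLocalRing TensorProduct

namespace Groth.Agent.NeronLib.RegularSection

/-- Local form: a flat local algebra with a local retraction, regular, over a local ring with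
principal maximal ideal, has formally smooth closed fibre. -/
theorem formallySmooth_fibre {A B : Type u} [CommRing A] [CommRing B] [IsLocalRing A] [IsLocalRing B]
    [Algebra A B] [IsLocalHom (algebraMap A B)] [Algebra.EssFiniteType A B] [IsRegularLocalRing B]
    (π : A) (hπ : maximalIdeal A = Ideal.span {π}) (hπ2 : π = 0 ∨ π ∉ maximalIdeal A ^ 2)
    (ε : B →ₐ[A] A) [IsLocalHom ε.toRingHom] :
    Algebra.FormallySmooth (ResidueField A) (ResidueField A ⊗[A] B) := by
  let J : Ideal B := (maximalIdeal A).map (algebraMap A B)
  have hJ : J = Ideal.span {algebraMap A B π} := by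
    simp only [J, hπ, Ideal.map_span, Set.image_singleton]
  have hεm : (maximalIdeal B).map ε.toRingHom ≤ maximalIdeal A :=
    ((IsLocalRing.local_hom_TFAE ε.toRingHom).out 0 2).mp ‹_›
  have hJle : J ≤ maximalIdeal B := ((IsLocalRing.local_hom_TFAE (algebraMap A B)).out 0 2).mp ‹_›
  have hreg : IsRegularLocalRing (B ⧸ J) := by
    rcases hπ2 with h | h
    · have : J = ⊥ := by rw [hJ, h, map_zero, Ideal.span_singleton_eq_bot]
      exact IsRegularLocalRing.of_ringEquiv
        ((RingEquiv.quotientBot B).symm.trans (Ideal.quotEquivOfEq this.symm))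
    · have hm : algebraMap A B π ∈ maximalIdeal B :=
        hJle (hJ ▸ Ideal.mem_span_singleton_self _)
      have h2 : algebraMap A B π ∉ maximalIdeal B ^ 2 := fun hc => h (by
        have := Ideal.mem_map_of_mem ε.toRingHom hc
        rw [Ideal.map_pow] at this
        simpa using Ideal.pow_right_mono hεm 2 this)
      have := (CAlgH3.regular_quotient_of_notMem_sq hm h2).1
      exact IsRegularLocalRing.of_ringEquiv (Ideal.quotEquivOfEq hJ.symm)
  let C := ResidueField A ⊗[A] B
  let e : (B ⧸ J) ≃+* C :=
    ((Algebra.TensorProduct.quotIdealMapEquivTensorQuot B (maximalIdeal A)).toRingEquiv).trans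
      (Algebra.TensorProduct.comm A B (ResidueField A)).toRingEquiv
  have : IsRegularLocalRing C := IsRegularLocalRing.of_ringEquiv e
  let g : B →+* C := (Algebra.TensorProduct.includeRight (R := A) (A := ResidueField A)).toRingHom
  have hg : Function.Surjective g := TensorProduct.mk_surjective A B (ResidueField A) residue_surjective
  have : IsLocalHom g := hg.isLocalHom
  refine CAlgH3.formallySmooth_of_regular (ResidueField A) C ⟨(algebraMap (ResidueField A) (ResidueField C)).injective, fun z => ?_⟩
  obtain ⟨c, rfl⟩ := IsLocalRing.residue_surjective z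
  obtain ⟨b, rfl⟩ := hg c
  have hg1 : ∀ a : A, g (algebraMap A B a) = algebraMap (ResidueField A) C (residue A a) := fun a =>
    (Algebra.TensorProduct.includeRight.commutes a).trans (IsScalarTower.algebraMap_apply A (ResidueField A) C a)
  have hm : b - algebraMap A B (ε b) ∈ maximalIdeal B := by
    rw [mem_maximalIdeal, mem_nonunits_iff]
    intro hu
    have := hu.map ε
    simp at this
  refine ⟨residue A (ε b), ?_⟩
  rw [IsScalarTower.algebraMap_apply (ResidueField A) C (ResidueField C), ← hg1]
  refine (Ideal.Quotient.eq.mpr ?_).symm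
  rw [← map_sub]
  exact fun hu => hm (isUnit_of_map_unit g _ hu)

/-- An algebraic section through a point with regular local ring makes the point smooth. -/
theorem isSmoothAt_of_retraction {R S : Type u} [CommRing R] [CommRing S] [Algebra R S]
    [Algebra.FinitePresentation R S] [Module.Flat R S] (p : Ideal R) [p.IsPrime]
    (π : Localization.AtPrime p) (hπ : maximalIdeal (Localization.AtPrime p) = Ideal.span {π})
    (hπ2 : π = 0 ∨ π ∉ maximalIdeal (Localization.AtPrime p) ^ 2)
    (ε : S →ₐ[R] Localization.AtPrime p) (q : Ideal S) [q.IsPrime]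
    (hq : q = (maximalIdeal (Localization.AtPrime p)).comap ε.toRingHom)
    [IsRegularLocalRing (Localization.AtPrime q)] : Algebra.IsSmoothAt R q := by
  have : q.LiesOver p := ⟨by
    rw [hq, Ideal.under, Ideal.comap_comap, AlgHom.toRingHom_eq_coe, ε.comp_algebraMap]
    exact (Localization.AtPrime.under_maximalIdeal (I := p)).symm⟩
  let Rp := Localization.AtPrime p
  let Sp := Localization (Algebra.algebraMapSubmonoid S p.primeCompl)
  let Sq := Localization.AtPrime q
  let := Localization.AtPrime.algebraOfLiesOver p q
  let f : Sp →ₐ[S] Sq := IsLocalization.liftAlgHom (M := Algebra.algebraMapSubmonoid S p.primeCompl)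
        (f := Algebra.ofId _ _) (by
      rintro ⟨_, x, hx, rfl⟩
      simpa using! IsLocalization.map_units (M := q.primeCompl) Sq ⟨algebraMap _ _ x,
        by simp_all [q.over_def p]⟩)
  algebraize [f.toRingHom]
  have : IsScalarTower R Sp Sq := .to₁₃₄ _ S _ _
  have : IsScalarTower Rp Sp Sq := .of_algebraMap_eq' <| by
    apply IsLocalization.ringHom_ext p.primeCompl
    simp only [RingHom.comp_assoc, ← IsScalarTower.algebraMap_eq]
  have : IsLocalization (Algebra.algebraMapSubmonoid Sp q.primeCompl) Sq :=
    .isLocalization_of_submonoid_le _ _ (Algebra.algebraMapSubmonoid S p.primeCompl) _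
    (by rintro _ ⟨x, hx, rfl⟩; simp_all [q.over_def p])
  have : Algebra.FinitePresentation Rp Sp := by
    have : Algebra.IsPushout R Rp S Sp :=
      .symm <| Algebra.isPushout_of_isLocalization p.primeCompl _ _ _
    exact .equiv (Algebra.IsPushout.equiv R Rp S Sp)
  have : Module.Flat Rp Sq := by
    have : Module.Flat R Sq := Module.Flat.trans R S Sq
    exact (Module.flat_iff_of_isLocalization Rp p.primeCompl Sq).mpr this
  have : Algebra.EssFiniteType R Sq := .comp R S Sq
  have : Algebra.EssFiniteType Rp Sq := .of_comp R Rp Sq
  let εq : Sq →ₐ[R] Rp := IsLocalization.liftAlgHom (M := q.primeCompl) (f := ε) (fun y => by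
    by_contra hc
    exact y.2 (hq ▸ hc))
  let εq' : Sq →ₐ[Rp] Rp :=
    { εq with
      commutes' := fun r => RingHom.congr_fun (IsLocalization.ringHom_ext p.primeCompl
        (j := εq.toRingHom.comp (algebraMap Rp Sq)) (k := RingHom.id Rp) (by
          rw [RingHom.comp_assoc, ← IsScalarTower.algebraMap_eq, RingHom.id_comp]
          exact εq.comp_algebraMap)) r }
  have : IsLocalHom εq'.toRingHom := ⟨fun x hx => by
    obtain ⟨s, t, rfl⟩ := IsLocalization.exists_mk'_eq q.primeCompl x
    refine (IsLocalization.AtPrime.isUnit_mk'_iff Sq q s t).mpr fun hs => ?_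
    change IsUnit (εq (IsLocalization.mk' Sq s t)) at hx
    have h1 : IsUnit (εq (algebraMap S Sq s)) := by
      rw [← IsLocalization.mk'_spec Sq s t, map_mul]
      exact hx.mul ((IsLocalization.map_units Sq t).map εq)
    rw [IsLocalization.liftAlgHom_apply, IsLocalization.lift_eq] at h1
    rw [SetLike.mem_coe, hq, Ideal.mem_comap] at hs
    exact hs h1⟩
  have := formallySmooth_fibre (A := Rp) (B := Sq) π hπ hπ2 εq'
  have := Algebra.FormallySmooth.of_formallySmooth_residueField_tensor
    (R := Rp) (S := Sq) (P := Sp) (Algebra.algebraMapSubmonoid _ q.primeCompl)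
  exact .comp R Rp Sq

end Groth.Agent.NeronLib.RegularSection
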