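import Mathlib.AlgebraicGeometry.Morphisms.Smooth
import Mathlib.AlgebraicGeometry.Morphisms.Etale
import Mathlib.RingTheory.Jacobson.Ring
import Mathlib.RingTheory.LocalRing.ResidueField.Fiber
import Groth.Agent.NeronLib.EtaleQuasiSection

/-!
# Etale schemes over the base through a specialisation of any point of a smooth scheme (characteristic zero)
-/

set_option autoImplicit false

universe u

open CategoryTheory AlgebraicGeometry TensorProduct

namespace Groth.Agent.NeronLib

/-- Over a base of residue characteristic zero, every point of a smooth algebra has an etale quasi-section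
through one of its specialisations. -/
theorem exists_etale_quasiSection_ge {R B : Type u} [CommRing R] [CommRing B] [Algebra R B]
    [Algebra.IsStandardSmooth R B] (q : Ideal B) [q.IsPrime] [CharZero (q.under R).ResidueField] :
    ∃ (D : Type u) (_ : CommRing D) (_ : Algebra R D) (φ : B →ₐ[R] D) (P : Ideal D),
      Algebra.Etale R D ∧ P.IsPrime ∧ q ≤ P.comap φ.toRingHom := by
  set p := q.under R with hp
  let K := p.ResidueField
  let T := K ⊗[R] B
  have hK : ∀ x : K, ∃ a b : R, algebraMap R K b ≠ 0 ∧ x * algebraMap R K b = algebraMap R K a := by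
    intro x
    obtain ⟨⟨a, b, hb⟩, hx⟩ := IsLocalization.surj (nonZeroDivisors (R ⧸ p)) x
    obtain ⟨a, rfl⟩ := Ideal.Quotient.mk_surjective a
    obtain ⟨b, rfl⟩ := Ideal.Quotient.mk_surjective b
    have e : ∀ r : R, algebraMap (R ⧸ p) K (Ideal.Quotient.mk p r) = algebraMap R K r := fun r =>
      (IsScalarTower.algebraMap_apply R (R ⧸ p) K r).symm
    refine ⟨a, b, ?_, by simpa only [e] using hx⟩
    rw [← e]
    exact fun h => nonZeroDivisors.ne_zero hb (IsFractionRing.injective (R ⧸ p) K (h.trans (map_zero _).symm))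
  let a : K →ₐ[R] q.ResidueField := Ideal.ResidueField.mapₐ p q (Algebra.ofId R B) rfl
  let j : B →ₐ[R] q.ResidueField := IsScalarTower.toAlgHom R B q.ResidueField
  let h : T →ₐ[R] q.ResidueField := Algebra.TensorProduct.lift a j fun _ _ => .all _ _
  have hprime : (RingHom.ker h.toRingHom).IsPrime := RingHom.ker_isPrime _
  obtain ⟨m, hm, hle⟩ := Ideal.exists_le_maximal (RingHom.ker h.toRingHom) hprime.ne_top
  letI := Ideal.Quotient.field m
  have : Module.Finite K (T ⧸ m) := finite_of_finite_type_of_isJacobsonRing K (T ⧸ m)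
  have : Algebra.IsSeparable K (T ⧸ m) := inferInstance
  let χ : B →ₐ[R] T ⧸ m := (Ideal.Quotient.mkₐ R m).comp Algebra.TensorProduct.includeRight
  obtain ⟨D, _, _, φ, ψ, het, hψ⟩ := exists_etale_quasiSection (K := K) B hK χ
  refine ⟨D, inferInstance, inferInstance, φ, RingHom.ker ψ.toRingHom, het, RingHom.ker_isPrime _, fun x hx => ?_⟩
  show ψ (φ x) = 0
  rw [show ψ (φ x) = χ x from DFunLike.congr_fun hψ x]
  refine Ideal.Quotient.eq_zero_iff_mem.2 (hle ?_)
  show h ((1 : K) ⊗ₜ x) = 0
  rw [Algebra.TensorProduct.lift_tmul, map_one, one_mul]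
  exact (Ideal.algebraMap_residueField_eq_zero (I := q)).2 hx

/-- Every point of a smooth scheme over a base of characteristic zero specialises to the image of an etale
scheme over the base. -/
theorem exists_etale_specializes {k : Type u} [Field k] [CharZero k] {S Z : Scheme.{u}}
    (σ : S ⟶ Spec (CommRingCat.of k)) (f : Z ⟶ S) [Smooth f] (z : Z) :
    ∃ (U : Scheme.{u}) (g : U ⟶ Z) (y : U), Etale (g ≫ f) ∧ z ⤳ g y := by
  obtain ⟨V, hV, W, hW, hzW, e, hstd⟩ := Smooth.exists_isStandardSmooth f z
  algebraize [(f.appLE V W e).hom]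
  let q := (hW.primeIdealOf ⟨z, hzW⟩).asIdeal
  have : CharZero (q.under Γ(S, V)).ResidueField :=
    charZero_of_injective_ringHom ((algebraMap Γ(S, V) (q.under Γ(S, V)).ResidueField).comp
      ((σ.appLE ⊤ V le_top).hom.comp (Scheme.ΓSpecIso (CommRingCat.of k)).inv.hom)).injective
  obtain ⟨D, _, _, φ, P, het, hP, hle⟩ := exists_etale_quasiSection_ge (R := Γ(S, V)) q
  refine ⟨Spec (CommRingCat.of D), Spec.map (CommRingCat.ofHom φ.toRingHom) ≫ hW.fromSpec, ⟨P, hP⟩, ?_, ?_⟩
  · rw [Category.assoc, ← IsAffineOpen.SpecMap_appLE_fromSpec f hV hW e, ← Spec.map_comp_assoc]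
    have he : f.appLE V W e ≫ CommRingCat.ofHom φ.toRingHom = CommRingCat.ofHom (algebraMap Γ(S, V) D) :=
      CommRingCat.hom_ext φ.comp_algebraMap
    rw [he]
    have : Etale (Spec.map (CommRingCat.ofHom (algebraMap Γ(S, V) D))) :=
      HasRingHomProperty.Spec_iff.2 (RingHom.etale_algebraMap.2 het)
    infer_instance
  · have h1 : hW.primeIdealOf ⟨z, hzW⟩ ⤳ Spec.map (CommRingCat.ofHom φ.toRingHom) ⟨P, hP⟩ :=
      (PrimeSpectrum.le_iff_specializes _ _).1 hle
    have h2 := h1.map hW.fromSpec.continuous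
    rw [hW.fromSpec_primeIdealOf] at h2
    exact h2

end Groth.Agent.NeronLib
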