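import Groth.Agent.DVRDom.SectionQF
import Groth.Agent.NeronLib.Glue
import Mathlib.AlgebraicGeometry.ValuativeCriterion
import Mathlib.RingTheory.Valuation.LocalSubring

/-!
# Extension of rational sections of separated quasi-finite morphisms satisfying the valuative criterion
-/

universe u

open CategoryTheory CategoryTheory.Limits AlgebraicGeometry TopologicalSpace

namespace Groth.Agent.NeronLib

variable {Z S : Scheme.{u}} (f : Z ⟶ S) [IsLocallyNoetherian S] [IsSeparated f] [LocallyOfFiniteType f]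
  [LocallyQuasiFinite f]

theorem exists_extension_at_point (hS : ∀ x : S, IsDomain (S.presheaf.stalk x) ∧ IsIntegrallyClosed (S.presheaf.stalk x))
    (hfp : ValuativeCriterion.Existence f) (U : S.Opens) (hU : Dense (U : Set S)) (v : ↑U ⟶ Z) (hv : v ≫ f = U.ι)
    (x : S) : ∃ (U' : S.Opens) (hUU' : U ≤ U') (h' : ↑U' ⟶ Z), x ∈ U' ∧ h' ≫ f = U'.ι ∧ S.homOfLE hUU' ≫ h' = v := by
  by_cases hxU : x ∈ U
  · exact ⟨U, le_rfl, v, hxU, hv, by simp⟩
  have := (hS x).1
  -- a valuation ring centred at `x` with generic point in `U`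
  let K := FractionRing (S.presheaf.stalk x)
  obtain ⟨V, hV, hVloc⟩ := IsLocalRing.exists_factor_valuationRing (algebraMap (S.presheaf.stalk x) K)
  let φ : S.presheaf.stalk x ⟶ CommRingCat.of V :=
    CommRingCat.ofHom ((algebraMap (S.presheaf.stalk x) K).codRestrict V.toSubring hV)
  let L := FractionRing V
  let m : Spec (CommRingCat.of L) ⟶ S :=
    Spec.map (CommRingCat.ofHom (algebraMap V L)) ≫ Spec.map φ ≫ S.fromSpecStalk x
  have hinj : Function.Injective (φ ≫ CommRingCat.ofHom (algebraMap V L)).hom := by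
    intro a b hab
    apply IsFractionRing.injective (S.presheaf.stalk x) K
    exact congrArg Subtype.val (IsFractionRing.injective V L hab)
  have hmU : ∀ z, m z ∈ U := by
    intro z
    let η₀ : Spec (S.presheaf.stalk x) := ⟨⊥, Ideal.bot_prime⟩
    have hz : (Spec.map (CommRingCat.ofHom (algebraMap V L)) ≫ Spec.map φ) z = η₀ := by
      rw [← Spec.map_comp]
      refine PrimeSpectrum.ext ?_
      show Ideal.comap _ z.asIdeal = ⊥
      rw [(Ideal.eq_bot_or_top z.asIdeal).resolve_right z.isPrime.ne_top]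
      exact (RingHom.injective_iff_ker_eq_bot _).1 hinj
    have hm : m z = S.fromSpecStalk x η₀ := by
      rw [← hz]
      simp only [m, ← Scheme.Hom.comp_apply, Category.assoc]
    -- every non-empty open of an integral neighbourhood meets the generic point
    obtain ⟨w, hwU, hwx⟩ : ∃ w ∈ U, w ⤳ x := by
      obtain ⟨W, hxW, hW, hWinj⟩ := S.exists_germ_injective x
      have : IsDomain Γ(S, W) := hWinj.isDomain
      have : IsIntegral (W : Scheme.{u}) := by
        have : IsDomain (CommRingCat.of Γ(S, W)) := ‹_›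
        have : Nonempty (W : Scheme.{u}) := ⟨⟨x, hxW⟩⟩
        exact isIntegral_of_isOpenImmersion hW.isoSpec.hom
      obtain ⟨t, htW, htU⟩ := hU.inter_open_nonempty W W.isOpen ⟨x, hxW⟩
      refine ⟨(genericPoint (W : Scheme.{u})).1, ?_, ?_⟩
      · exact (((genericPoint_spec (W : Scheme.{u})).specializes (trivial : (⟨t, htW⟩ : W) ∈ ⊤)).map
          continuous_subtype_val).mem_open U.isOpen htU
      · exact ((genericPoint_spec (W : Scheme.{u})).specializes (trivial : (⟨x, hxW⟩ : W) ∈ ⊤)).map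
          continuous_subtype_val
    obtain ⟨p, hp⟩ : w ∈ Set.range (S.fromSpecStalk x) := by rw [Scheme.range_fromSpecStalk]; exact hwx
    have hsp : S.fromSpecStalk x η₀ ⤳ w := by
      rw [← hp]
      exact ((PrimeSpectrum.le_iff_specializes η₀ p).1 bot_le).map (S.fromSpecStalk x).continuous
    rw [hm]
    exact hsp.mem_open U.isOpen hwU
  let ub : Spec (CommRingCat.of L) ⟶ (U : Scheme.{u}) := IsOpenImmersion.lift U.ι m (by
    rintro _ ⟨z, rfl⟩; rw [Scheme.Opens.range_ι]; exact hmU z)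
  have hub : ub ≫ U.ι = m := IsOpenImmersion.lift_fac _ _ _
  have hsq : CommSq (ub ≫ v) (Spec.map (CommRingCat.ofHom (algebraMap V L))) f (Spec.map φ ≫ S.fromSpecStalk x) :=
    ⟨by rw [Category.assoc, hv, hub]⟩
  obtain ⟨l, hl₁, hl₂⟩ := (hfp ⟨V, L, ub ≫ v, Spec.map φ ≫ S.fromSpecStalk x, hsq⟩).exists_lift
  dsimp only at hl₁ hl₂
  have hu : (Spec.map φ ≫ S.fromSpecStalk x) (IsLocalRing.closedPoint V) = x := by
    rw [Scheme.Hom.comp_apply]
    have : IsLocalHom φ.hom := hVloc
    rw [show Spec.map φ (IsLocalRing.closedPoint V) = IsLocalRing.closedPoint _ from Spec_closedPoint (f := φ),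
      Scheme.fromSpecStalk_closedPoint]
  obtain ⟨U', hUU', h', hx', hh', hh''⟩ := DVRDom.exists_extension_of_quasiFinite f U hU v hv x hxU (hS x).2 V
    (Spec.map φ ≫ S.fromSpecStalk x) ub l hu hub hl₂ hl₁
  exact ⟨U', hUU', h', hx', hh', hh''⟩

theorem exists_section_extending (hS : ∀ x : S, IsDomain (S.presheaf.stalk x) ∧ IsIntegrallyClosed (S.presheaf.stalk x))
    (hfp : ValuativeCriterion.Existence f) (U : S.Opens) (hU : Dense (U : Set S)) (v : ↑U ⟶ Z) (hv : v ≫ f = U.ι) :
    ∃ w : S ⟶ Z, w ≫ f = 𝟙 S ∧ U.ι ≫ w = v := by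
  have : IsReduced S := by
    have : ∀ x : S, _root_.IsReduced (S.presheaf.stalk x) := fun x =>
      haveI := (hS x).1
      inferInstance
    exact isReduced_of_isReduced_stalk S
  choose U' hUU' h' hx hh hext using exists_extension_at_point f hS hfp U hU v hv
  obtain ⟨g, hg, hgi⟩ := exists_glue (𝟙 S) f U hU v U' h' (fun x => (hh x).trans (Category.comp_id _).symm)
    (fun x => agree_of_homOfLE _ _ (by
      have e : S.homOfLE (inf_le_left : U' x ⊓ U ≤ U' x) =
          S.homOfLE (inf_le_right : U' x ⊓ U ≤ U) ≫ S.homOfLE (hUU' x) := by simp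
      rw [e, Category.assoc, hext]))
  have htop : ⊤ ≤ ⨆ x, U' x := fun y _ => Opens.mem_iSup.2 ⟨y, hx y⟩
  let w : S ⟶ Z := S.topIso.inv ≫ S.homOfLE htop ≫ g
  have hw : w ≫ f = 𝟙 S := by
    simp only [w, Category.assoc, hg, Scheme.homOfLE_ι_assoc, Category.comp_id]
    simp
  refine ⟨w, hw, Scheme.hom_ext_of_forall _ _ fun u => ⟨⊤, trivial, ?_⟩⟩
  have e : U.ι ≫ w = S.homOfLE ((hUU' (U.ι u)).trans (le_iSup U' _)) ≫ g := by
    simp only [w, ← Category.assoc]
    congr 1
    rw [← cancel_mono (⨆ x, U' x).ι]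
    simp
  have e2 : S.homOfLE ((hUU' (U.ι u)).trans (le_iSup U' _)) = S.homOfLE (hUU' (U.ι u)) ≫ S.homOfLE (le_iSup U' _) := by
    simp
  rw [e, e2, Category.assoc, hgi, hext]

end Groth.Agent.NeronLib
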